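/-
A normal elementary abelian subgroup of order eight in a two-group: flags, the action, and counting.
-/
import Mathlib
import Cfsg.Agent.Lib.Elementary

set_option autoImplicit false

namespace CfsgLib.SelfEight

open Subgroup

universe u

variable {S : Type u} [Group S]

theorem central_mod [Finite S] (hS : IsPGroup 2 S) {N M : Subgroup S} [N.Normal] [M.Normal] (hne : ¬ M ≤ N) :
    ∃ x ∈ M, x ∉ N ∧ ∀ s : S, s * x * s⁻¹ * x⁻¹ ∈ N := by
  haveI : Fact (Nat.Prime 2) := ⟨Nat.prime_two⟩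
  haveI := (hS.to_quotient N).isNilpotent
  let π := QuotientGroup.mk' N
  haveI : (M.map π).Normal := Subgroup.Normal.map inferInstance π (QuotientGroup.mk'_surjective N)
  have hb : M.map π ≠ ⊥ := fun e => hne (by
    rw [Subgroup.map_eq_bot_iff, QuotientGroup.ker_mk'] at e
    exact e)
  obtain ⟨y, hy, hy1⟩ := (Subgroup.bot_or_exists_ne_one _).resolve_left (CfsgLib.inf_center_ne_bot_of_nilpotent hb)
  obtain ⟨⟨x, hx, rfl⟩, hc⟩ := hy
  refine ⟨x, hx, fun h => hy1 ((QuotientGroup.eq_one_iff x).2 h), fun s => (QuotientGroup.eq_one_iff _).1 ?_⟩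
  show π (s * x * s⁻¹ * x⁻¹) = 1
  rw [map_mul, map_mul, map_mul, Subgroup.mem_center_iff.1 hc (π s), map_inv, map_inv, mul_inv_cancel_right,
    mul_inv_cancel]

theorem invol_fixed [Finite S] (hS : IsPGroup 2 S) {N D : Subgroup S} (hND : N ≤ D) (hne : ¬ D ≤ N) {a : S}
    (haa : a * a = 1) (hD : ∀ d ∈ D, a * d * a ∈ D) (hN : ∀ d ∈ N, a * d * a ∈ N) :
    ∃ d ∈ D, d ∉ N ∧ d⁻¹ * (a * d * a) ∈ N := by
  classical
  haveI : Fact (Nat.Prime 2) := ⟨Nat.prime_two⟩
  let N' := N.subgroupOf D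
  have hai : a⁻¹ = a := inv_eq_of_mul_eq_one_right haa
  let φ : D ⧸ N' → D ⧸ N' := Quotient.map' (fun d => ⟨a * d.1 * a, hD _ d.2⟩) fun d e h => by
    rw [QuotientGroup.leftRel_apply] at h ⊢
    have := hN _ (Subgroup.mem_subgroupOf.1 h)
    refine Subgroup.mem_subgroupOf.2 ?_
    show (a * d.1 * a)⁻¹ * (a * e.1 * a) ∈ N
    convert this using 1
    simp only [Subgroup.coe_mul, Subgroup.coe_inv, mul_inv_rev, hai]
    rw [show a * ((d : S)⁻¹ * a) * (a * e * a) = a * (d : S)⁻¹ * (a * a) * e * a by group, haa]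
    group
  have hφ : ∀ q, φ (φ q) = q := fun q => Quotient.inductionOn' q fun d => by
    refine congrArg Quotient.mk'' (Subtype.ext ?_)
    show a * (a * d.1 * a) * a = d.1
    rw [show a * (a * d.1 * a) * a = a * a * d.1 * (a * a) by group, haa, one_mul, mul_one]
  let σ : Equiv.Perm (D ⧸ N') := ⟨φ, φ, hφ, hφ⟩
  haveI : Fintype (D ⧸ N') := Fintype.ofFinite _
  have h2 : 2 ∣ Fintype.card (D ⧸ N') := by
    obtain ⟨n, hn⟩ := IsPGroup.iff_card.1 (hS.to_subgroup D)
    obtain ⟨k, -, hk⟩ := (Nat.dvd_prime_pow Nat.prime_two).1 (hn ▸ N'.index_dvd_card)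
    rw [← Nat.card_eq_fintype_card, show Nat.card (D ⧸ N') = N'.index from rfl, hk]
    rcases k with _ | k
    · exact absurd (Subgroup.subgroupOf_eq_top.1 (Subgroup.index_eq_one.1 hk)) hne
    · exact dvd_pow_self 2 (Nat.succ_ne_zero k)
  have hσ : σ ^ 2 ^ 1 = 1 := Equiv.ext fun q => by
    rw [pow_one, pow_two]
    exact hφ q
  have h1 : σ (QuotientGroup.mk 1) = QuotientGroup.mk 1 :=
    congrArg QuotientGroup.mk (Subtype.ext (show a * (1 : S) * a = 1 by rw [mul_one, haa]))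
  obtain ⟨q, hq, hq1⟩ := Equiv.Perm.exists_fixed_point_of_prime' h2 hσ h1
  obtain ⟨d, rfl⟩ := QuotientGroup.mk_surjective q
  refine ⟨d, d.2, fun h => hq1 ((QuotientGroup.eq).2 (by simpa [N', Subgroup.mem_subgroupOf] using h)), ?_⟩
  exact Subgroup.mem_subgroupOf.1 ((QuotientGroup.eq (s := N')).1 hq.symm)

/-- Conjugation on products. -/
theorem conj_mul' (s x y : S) : s * (x * y) * s⁻¹ = s * x * s⁻¹ * (s * y * s⁻¹) := by group

section Eight

variable {B : Subgroup S}

theorem comm_of_sq (hsq : ∀ e ∈ B, e * e = 1) {x y : S} (hx : x ∈ B) (hy : y ∈ B) : x * y = y * x := by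
  have hinv : ∀ e ∈ B, e⁻¹ = e := fun e he => inv_eq_of_mul_eq_one_right (hsq e he)
  rw [← hinv _ (mul_mem hx hy), mul_inv_rev, hinv _ hx, hinv _ hy]

variable [Finite S] (hS : IsPGroup 2 S) (hn : B.Normal) (hsq : ∀ e ∈ B, e * e = 1) (hcard : Nat.card B = 8)

include hsq in
theorem le_centralizer : B ≤ centralizer (B : Set S) := fun _ hx =>
  Subgroup.mem_centralizer_iff.2 fun _ hy => comm_of_sq hsq hy hx

include hsq hcard in
/-- Three independent elements give all of `B`. -/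
theorem basis {z p f : S} (hz : z ∈ B) (hp : p ∈ B) (hf : f ∈ B) (hz1 : z ≠ 1) (hp1 : p ≠ 1) (hpz : p ≠ z)
    (hf' : f ≠ 1 ∧ f ≠ z ∧ f ≠ p ∧ f ≠ p * z) {e : S} (he : e ∈ B) :
    (e = 1 ∨ e = z ∨ e = p ∨ e = p * z) ∨ (e = f ∨ e = f * z ∨ e = f * p ∨ e = f * (p * z)) := by
  classical
  have c := fun {x y : S} (hx : x ∈ B) (hy : y ∈ B) => comm_of_sq hsq hx hy
  let P : Finset S := {1, z, p, p * z}
  have hPB : ∀ x ∈ P, x ∈ B := by
    intro x hx
    simp only [P, Finset.mem_insert, Finset.mem_singleton] at hx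
    rcases hx with rfl | rfl | rfl | rfl
    exacts [one_mem _, hz, hp, mul_mem hp hz]
  have hP : P.card = 4 := by
    have h1 : p * z ≠ 1 := fun h => hpz (by rw [← mul_one p, ← hsq z hz, ← mul_assoc, h, one_mul])
    have h2 : p * z ≠ z := fun h => hp1 (mul_eq_right.1 h)
    have h3 : p * z ≠ p := fun h => hz1 (mul_eq_left.1 h)
    simp [P, hz1.symm, hp1.symm, hpz.symm, h1.symm, h2.symm, h3.symm]
  let Q : Finset S := P.image (f * ·)
  have hQ : Q.card = 4 := by rw [Finset.card_image_of_injective _ (mul_right_injective f), hP]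
  have hd : Disjoint P Q := by
    rw [Finset.disjoint_left]
    intro x hx hx'
    obtain ⟨y, hy, rfl⟩ := Finset.mem_image.1 hx'
    have : ∀ u ∈ P, ∀ v ∈ P, u * v ∈ P := by
      intro u hu v hv
      simp only [P, Finset.mem_insert, Finset.mem_singleton] at hu hv ⊢
      have e1 := c hz hp
      have e1' : ∀ w, z * (p * w) = p * (z * w) := fun w => by rw [← mul_assoc, e1, mul_assoc]
      have hz' : ∀ w, z * (z * w) = w := fun w => by rw [← mul_assoc, hsq _ hz, one_mul]
      have hp' : ∀ w, p * (p * w) = w := fun w => by rw [← mul_assoc, hsq _ hp, one_mul]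
      rcases hu with rfl | rfl | rfl | rfl <;> rcases hv with rfl | rfl | rfl | rfl <;>
        simp [hsq _ hz, hsq _ hp, mul_assoc, e1, e1', hz', hp']
    have := this _ hx _ hy
    rw [mul_assoc, hsq _ (hPB _ hy), mul_one] at this
    simp only [P, Finset.mem_insert, Finset.mem_singleton] at this
    obtain ⟨h1, h2, h3, h4⟩ := hf'
    rcases this with h | h | h | h
    exacts [h1 h, h2 h, h3 h, h4 h]
  have hU : (P ∪ Q).card = 8 := by rw [Finset.card_union_of_disjoint hd, hP, hQ]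
  haveI : Fintype B := Fintype.ofFinite _
  have hsub : P ∪ Q = (Finset.univ : Finset B).map (Function.Embedding.subtype _) := by
    refine Finset.eq_of_subset_of_card_le (fun x hx => ?_) ?_
    · refine Finset.mem_map.2 ⟨⟨x, ?_⟩, Finset.mem_univ _, rfl⟩
      rcases Finset.mem_union.1 hx with h | h
      · exact hPB _ h
      · obtain ⟨y, hy, rfl⟩ := Finset.mem_image.1 h
        exact mul_mem hf (hPB _ hy)
    · rw [Finset.card_map, Finset.card_univ, ← Nat.card_eq_fintype_card, hcard, hU]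
  have : e ∈ P ∪ Q := hsub ▸ Finset.mem_map.2 ⟨⟨e, he⟩, Finset.mem_univ _, rfl⟩
  simp [P, Q, Finset.mem_union] at this
  tauto

include hsq hcard in
theorem mem_centralizer_of_basis {z p f : S} (hz : z ∈ B) (hp : p ∈ B) (hf : f ∈ B) (hz1 : z ≠ 1) (hp1 : p ≠ 1)
    (hpz : p ≠ z) (hf' : f ≠ 1 ∧ f ≠ z ∧ f ≠ p ∧ f ≠ p * z) {s : S} (ez : z * s = s * z) (ep : p * s = s * p)
    (ef : f * s = s * f) : s ∈ centralizer (B : Set S) := by
  refine Subgroup.mem_centralizer_iff.2 fun e he => ?_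
  have hZ : Commute z s := ez
  have hP : Commute p s := ep
  have hF : Commute f s := ef
  rcases basis hsq hcard hz hp hf hz1 hp1 hpz hf' he with (h | h | h | h) | (h | h | h | h) <;> rw [h]
  · exact (Commute.one_left s).eq
  · exact ez
  · exact ep
  · exact (hP.mul_left hZ).eq
  · exact ef
  · exact (hF.mul_left hZ).eq
  · exact (hF.mul_left hP).eq
  · exact (hF.mul_left (hP.mul_left hZ)).eq

include hS hn hsq hcard in
/-- A flag through a central involution. -/
theorem exists_flag {z : S} (hz : z ∈ B) (hz1 : z ≠ 1) (hzc : ∀ s : S, s * z = z * s) :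
    ∃ p f, p ∈ B ∧ f ∈ B ∧ p ≠ 1 ∧ p ≠ z ∧ (f ≠ 1 ∧ f ≠ z ∧ f ≠ p ∧ f ≠ p * z) ∧
      ∀ s : S, (s * p * s⁻¹ = p ∨ s * p * s⁻¹ = p * z) ∧
        (s * f * s⁻¹ = f ∨ s * f * s⁻¹ = f * z ∨ s * f * s⁻¹ = f * p ∨ s * f * s⁻¹ = f * (p * z)) := by
  classical
  haveI := hn
  haveI : (zpowers z).Normal := ⟨fun x hx s => by
    obtain ⟨i, rfl⟩ := hx
    have : Commute s (z ^ i) := Commute.zpow_right (hzc s) i
    simp only
    rw [this.eq, mul_inv_cancel_right]
    exact ⟨i, rfl⟩⟩
  have hzz : ∀ x ∈ zpowers z, x = 1 ∨ x = z := fun x hx => by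
    obtain ⟨i, rfl⟩ := hx
    have h2 : z ^ (2 : ℤ) = 1 := by rw [zpow_two, hsq z hz]
    rcases Int.even_or_odd' i with ⟨k, rfl | rfl⟩
    · left; simp only; rw [zpow_mul, h2, one_zpow]
    · right; simp only; rw [zpow_add, zpow_mul, h2, one_zpow, one_mul, zpow_one]
  obtain ⟨p, hp, hpn, hpc⟩ := central_mod hS (N := zpowers z) (M := B) (fun h => by
    have h8 := Subgroup.card_le_of_le h
    rw [hcard, Nat.card_zpowers] at h8
    have : orderOf z ≤ 2 := Nat.le_of_dvd two_pos (orderOf_dvd_of_pow_eq_one (by rw [pow_two, hsq z hz]))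
    omega)
  have hp1 : p ≠ 1 := fun h => hpn (h ▸ one_mem _)
  have hpz : p ≠ z := fun h => hpn (h ▸ mem_zpowers z)
  have hpm : ∀ s : S, s * p * s⁻¹ = p ∨ s * p * s⁻¹ = p * z := fun s => by
    rcases hzz _ (hpc s) with h | h
    · exact Or.inl (mul_inv_eq_one.1 h)
    · exact Or.inr (by rw [comm_of_sq hsq hp hz, ← h, inv_mul_cancel_right])
  obtain ⟨f, hf, hf'⟩ : ∃ f ∈ B, f ≠ 1 ∧ f ≠ z ∧ f ≠ p ∧ f ≠ p * z := by
    by_contra hc
    push Not at hc
    haveI : Fintype B := Fintype.ofFinite _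
    have hsub : (Finset.univ : Finset B).map (Function.Embedding.subtype _) ⊆ ({1, z, p, p * z} : Finset S) := by
      intro x hx
      obtain ⟨⟨y, hy⟩, -, rfl⟩ := Finset.mem_map.1 hx
      show y ∈ _
      simp only [Finset.mem_insert, Finset.mem_singleton]
      by_cases h1 : y = 1
      · exact Or.inl h1
      by_cases h2 : y = z
      · exact Or.inr (Or.inl h2)
      by_cases h3 : y = p
      · exact Or.inr (Or.inr (Or.inl h3))
      exact Or.inr (Or.inr (Or.inr (hc y hy h1 h2 h3)))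
    have := (Finset.card_le_card hsub).trans Finset.card_le_four
    rw [Finset.card_map, Finset.card_univ, ← Nat.card_eq_fintype_card, hcard] at this
    omega
  refine ⟨p, f, hp, hf, hp1, hpz, hf', fun s => ⟨hpm s, ?_⟩⟩
  rcases basis hsq hcard hz hp hf hz1 hp1 hpz hf' (hn.conj_mem f hf s) with h | h
  · exfalso
    obtain ⟨h1, h2, h3, h4⟩ := hf'
    have ef : f = s⁻¹ * (s * f * s⁻¹) * s⁻¹⁻¹ := by group
    have ez : s⁻¹ * z * s⁻¹⁻¹ = z := by rw [hzc, mul_inv_cancel_right]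
    rcases h with h | h | h | h <;> rw [h] at ef
    · exact h1 (by rw [ef]; group)
    · exact h2 (ef.trans ez)
    · rcases hpm s⁻¹ with e | e
      · exact h3 (ef.trans e)
      · exact h4 (ef.trans e)
    · rw [conj_mul', ez] at ef
      rcases hpm s⁻¹ with e | e <;> rw [e] at ef
      · exact h4 ef
      · exact h3 (by rw [ef, mul_assoc, hsq z hz, mul_one])
  · exact h

end Eight

end CfsgLib.SelfEight
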