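/-
Counting the elementary quotient of a subgroup along `B ≤ C(B) ≤ S`.
-/
import Cfsg.Agent.Lib.SelfEight.Base

set_option autoImplicit false

namespace CfsgLib.SelfEight

open Subgroup

universe u v

variable {S : Type u} [Group S] [Finite S] {K : Subgroup S} {V : Type v} [Group V] [Finite V] (f : K →* V)

/-- The image of the part of `H` inside `K`. -/
def img (H : Subgroup S) : Subgroup V := (H.subgroupOf K).map f

theorem mem_img {H : Subgroup S} {k : K} (h : (k : S) ∈ H) : f k ∈ img f H :=
  ⟨k, Subgroup.mem_subgroupOf.2 h, rfl⟩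

theorem card_img_key {H H' : Subgroup S} {ι : Type} [Fintype ι] (key : K → ι)
    (h : ∀ c d : K, (c : S) ∈ H' → (d : S) ∈ H' → key c = key d → (f c)⁻¹ * f d ∈ img f H) :
    Nat.card (img f H') ≤ Fintype.card ι * Nat.card (img f H) := by
  classical
  have hex : ∀ v : img f H', ∃ c : K, (c : S) ∈ H' ∧ f c = v := fun v => by
    obtain ⟨c, hc, e⟩ := v.2
    exact ⟨c, Subgroup.mem_subgroupOf.1 hc, e⟩
  choose c hc he using hex
  let r : ι → V := fun i => if hi : ∃ d : K, (d : S) ∈ H' ∧ key d = i then f hi.choose else 1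
  let F : img f H' → ι × img f H := fun v => (key (c v), ⟨(r (key (c v)))⁻¹ * v, by
    have hi : ∃ d : K, (d : S) ∈ H' ∧ key d = key (c v) := ⟨_, hc v, rfl⟩
    simp only [r, dif_pos hi]
    rw [← he v]
    exact h _ _ hi.choose_spec.1 (hc v) hi.choose_spec.2⟩)
  have hF : Function.Injective F := fun v w e => by
    obtain ⟨e1, e2⟩ := Prod.mk.injEq .. ▸ e
    have e3 := congrArg Subtype.val e2
    simp only [← e1] at e3
    exact Subtype.ext (mul_left_cancel e3)
  have := Nat.card_le_card_of_injective F hF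
  rw [Nat.card_prod, Nat.card_eq_fintype_card (α := ι)] at this
  exact this

theorem card_eq_img_top (hf : Function.Surjective f) : Nat.card V = Nat.card (img f (⊤ : Subgroup S)) := by
  have : img f (⊤ : Subgroup S) = ⊤ := eq_top_iff.2 fun v _ => by
    obtain ⟨k, rfl⟩ := hf v
    exact mem_img f (Subgroup.mem_top _)
  rw [this, Subgroup.card_top]

theorem card_le_key (hf : Function.Surjective f) {H : Subgroup S} {ι : Type} [Fintype ι] (key : K → ι)
    (h : ∀ c d : K, key c = key d → (f c)⁻¹ * f d ∈ img f H) :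
    Nat.card V ≤ Fintype.card ι * Nat.card (img f H) :=
  (card_eq_img_top f hf).trans_le (card_img_key f key fun c d _ _ e => h c d e)

/-- The kernel inside a subgroup divides out the image. -/
theorem card_img_mul {H : Subgroup S} (E : Finset S) (hE : ∀ e ∈ E, e ∈ H ∧ ∃ he : e ∈ K, f ⟨e, he⟩ = 1) :
    Nat.card (img f H) * E.card ≤ Nat.card ↥(H ⊓ K) := by
  classical
  have hex : ∀ v : img f H, ∃ c : K, (c : S) ∈ H ∧ f c = v := fun v => by
    obtain ⟨c, hc, e⟩ := v.2
    exact ⟨c, Subgroup.mem_subgroupOf.1 hc, e⟩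
  choose c hc he using hex
  let F : img f H × E → ↥(H ⊓ K) := fun p =>
    ⟨(c p.1 : S) * p.2, mul_mem (hc p.1) (hE _ p.2.2).1, mul_mem (c p.1).2 (hE _ p.2.2).2.choose⟩
  have hF : Function.Injective F := by
    rintro ⟨v, e⟩ ⟨w, e'⟩ h
    have h' : c v * ⟨e, (hE _ e.2).2.choose⟩ = c w * ⟨e', (hE _ e'.2).2.choose⟩ :=
      Subtype.ext (congrArg Subtype.val h :)
    have h'' := congrArg f h'
    rw [map_mul, map_mul, (hE _ e.2).2.choose_spec, (hE _ e'.2).2.choose_spec, mul_one, mul_one, he, he] at h''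
    obtain rfl : v = w := Subtype.ext h''
    exact Prod.ext rfl (Subtype.ext (mul_left_cancel (congrArg Subtype.val h :)))
  have := Nat.card_le_card_of_injective F hF
  rwa [Nat.card_prod, Nat.card_eq_fintype_card (α := E), Fintype.card_coe] at this

theorem card_img_le (H : Subgroup S) : Nat.card (img f H) ≤ Nat.card ↥(H ⊓ K) := by
  have := card_img_mul f (H := H) {1} fun e he => by
    rw [Finset.mem_singleton] at he
    subst he
    exact ⟨one_mem _, one_mem _, map_one f⟩
  simpa using this

variable {B : Subgroup S} (hcard : Nat.card B = 8)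

include hcard in
theorem card_img_B : Nat.card (img f B) ≤ 8 :=
  (card_img_le f B).trans ((Subgroup.card_le_of_le inf_le_left).trans hcard.le)

include hcard in
theorem card_inf_le_four (hBK : ¬ B ≤ K) : Nat.card ↥(B ⊓ K) ≤ 4 := by
  have hd : Nat.card ↥(B ⊓ K) ∣ 8 := hcard ▸ Subgroup.card_dvd_of_le inf_le_left
  have hne : Nat.card ↥(B ⊓ K) ≠ 8 := fun e =>
    hBK (inf_eq_left.1 (Subgroup.eq_of_le_of_card_ge inf_le_left (by omega)))
  have := Nat.le_of_dvd (by norm_num) hd
  generalize Nat.card ↥(B ⊓ K) = n at *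
  interval_cases n <;> omega

include hcard in
theorem card_img_one {e : K} (heB : (e : S) ∈ B) (he1 : (e : S) ≠ 1) (he : f e = 1) :
    Nat.card (img f B) ≤ 4 ∧ (¬ B ≤ K → Nat.card (img f B) ≤ 2) := by
  classical
  have := card_img_mul f (H := B) {1, (e : S)} (fun x hx => by
    simp only [Finset.mem_insert, Finset.mem_singleton] at hx
    rcases hx with rfl | rfl
    · exact ⟨one_mem _, one_mem _, map_one f⟩
    · exact ⟨heB, e.2, he⟩)
  rw [Finset.card_pair he1.symm] at this
  have h8 := (Subgroup.card_le_of_le (inf_le_left : B ⊓ K ≤ B)).trans hcard.le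
  refine ⟨by omega, fun hBK => ?_⟩
  have := card_inf_le_four hcard hBK
  omega

include hcard in
theorem card_img_two {e e' : K} (heB : (e : S) ∈ B) (he1 : (e : S) ≠ 1) (he : f e = 1) (heB' : (e' : S) ∈ B)
    (he1' : (e' : S) ≠ 1) (he' : f e' = 1) (hne : (e : S) ≠ e') : Nat.card (img f B) ≤ 2 := by
  classical
  have := card_img_mul f (H := B) {1, (e : S), (e' : S)} (fun x hx => by
    simp only [Finset.mem_insert, Finset.mem_singleton] at hx
    rcases hx with rfl | rfl | rfl
    · exact ⟨one_mem _, one_mem _, map_one f⟩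
    · exact ⟨heB, e.2, he⟩
    · exact ⟨heB', e'.2, he'⟩)
  rw [Finset.card_eq_three.2 ⟨_, _, _, he1.symm, he1'.symm, hne, rfl⟩] at this
  have h8 := (Subgroup.card_le_of_le (inf_le_left : B ⊓ K ≤ B)).trans hcard.le
  omega

variable (hexp : ∀ v : V, v * v = 1)

include hexp in
theorem exp_comm (x y : V) : x * y = y * x := by
  have hinv : ∀ c : V, c⁻¹ = c := fun c => inv_eq_of_mul_eq_one_right (hexp c)
  rw [← hinv (x * y), mul_inv_rev, hinv, hinv]

include hexp in
theorem f_sq (k : K) : f (k * k) = 1 := by rw [map_mul, hexp]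

include hexp in
theorem f_comm (k l : K) : f (k * l * k⁻¹ * l⁻¹) = 1 := by
  rw [map_mul, map_mul, map_mul, exp_comm hexp (f k) (f l), map_inv, map_inv, mul_inv_cancel_right, mul_inv_cancel]

variable (hn : B.Normal)

include hn hexp hcard in
/-- A moved element of `B` shrinks the image. -/
theorem card_img_moved {k : K} (hk : (k : S) ∉ centralizer (B : Set S)) : Nat.card (img f B) ≤ 4 := by
  by_cases hBK : B ≤ K
  · obtain ⟨e, he, hne⟩ : ∃ e ∈ B, e * (k : S) ≠ k * e := by
      by_contra hc
      push Not at hc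
      exact hk (Subgroup.mem_centralizer_iff.2 hc)
    refine (card_img_one f hcard (e := k * ⟨e, hBK he⟩ * k⁻¹ * ⟨e, hBK he⟩⁻¹) ?_ ?_ (f_comm f hexp _ _)).1
    · exact mul_mem (hn.conj_mem e he k) (inv_mem he)
    · intro h
      exact hne (by
        have h' : (k : S) * e * (k : S)⁻¹ * e⁻¹ = 1 := h
        rw [mul_inv_eq_one, mul_inv_eq_iff_eq_mul] at h'
        exact h'.symm)
  · exact (card_img_le f B).trans (card_inf_le_four hcard hBK)

include hn in
theorem img_C_normal_rel {c d : K} (h : (c : S)⁻¹ * d ∈ centralizer (B : Set S)) :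
    (f c)⁻¹ * f d ∈ img f (centralizer (B : Set S)) := by
  rw [← map_inv, ← map_mul]
  exact mem_img f h

variable (hS : IsPGroup 2 S) (hsq : ∀ e ∈ B, e * e = 1)

include hS hn hsq hcard in
theorem exists_central : ∃ z ∈ B, z ≠ 1 ∧ ∀ s : S, s * z = z * s := by
  haveI := hn
  haveI : (⊥ : Subgroup S).Normal := inferInstance
  obtain ⟨z, hz, hz1, hzc⟩ := central_mod hS (N := ⊥) (M := B) (fun h => by
    have := Subgroup.card_le_of_le h
    rw [hcard, Subgroup.card_bot] at this
    omega)
  exact ⟨z, hz, fun h => hz1 (h ▸ one_mem _), fun s => by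
    have := Subgroup.mem_bot.1 (hzc s)
    rwa [mul_inv_eq_one, mul_inv_eq_iff_eq_mul] at this⟩

include hS hn hsq hcard hexp in
/-- The action on `B` contributes at most four. -/
theorem card_le_four_mul (hf : Function.Surjective f) :
    Nat.card V ≤ 4 * Nat.card (img f (centralizer (B : Set S))) := by
  classical
  obtain ⟨z, hz, hz1, hzc⟩ := exists_central hcard hn hS hsq
  obtain ⟨p, w, hp, hw, hp1, hpz, hw', hfl⟩ := exists_flag hS hn hsq hcard hz hz1 hzc
  have hrel : ∀ c d : K, (c : S) * p * (c : S)⁻¹ = d * p * (d : S)⁻¹ → (c : S) * w * (c : S)⁻¹ = d * w * (d : S)⁻¹ →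
      (c : S)⁻¹ * d ∈ centralizer (B : Set S) := fun c d e1 e2 => by
    refine mem_centralizer_of_basis hsq hcard hz hp hw hz1 hp1 hpz hw' (hzc _).symm ?_ ?_
    · calc p * ((c : S)⁻¹ * d) = (c : S)⁻¹ * (c * p * (c : S)⁻¹) * d := by group
        _ = (c : S)⁻¹ * d * p := by rw [e1]; group
    · calc w * ((c : S)⁻¹ * d) = (c : S)⁻¹ * (c * w * (c : S)⁻¹) * d := by group
        _ = (c : S)⁻¹ * d * w := by rw [e2]; group
  let kp : K → Bool := fun c => decide ((c : S) * p * (c : S)⁻¹ = p)
  let kb : K → Bool := fun c => decide ((c : S) * w * (c : S)⁻¹ = w ∨ (c : S) * w * (c : S)⁻¹ = w * z)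
  let kg : K → Bool := fun c => decide ((c : S) * w * (c : S)⁻¹ = w ∨ (c : S) * w * (c : S)⁻¹ = w * p)
  have hkp : ∀ c d : K, kp c = kp d → (c : S) * p * (c : S)⁻¹ = d * p * (d : S)⁻¹ := fun c d e => by
    simp only [kp, decide_eq_decide] at e
    by_cases h : (c : S) * p * (c : S)⁻¹ = p
    · rw [h, e.1 h]
    · rw [(hfl c).1.resolve_left h, (hfl d).1.resolve_left (fun h' => h (e.2 h'))]
  have d1 : w * z ≠ w := fun h => hz1 (mul_eq_left.1 h)
  have d2 : w * p ≠ w := fun h => hp1 (mul_eq_left.1 h)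
  have hne : p * z ≠ 1 := fun h => hpz (by rw [← mul_one p, ← hsq z hz, ← mul_assoc, h, one_mul])
  have d3 : w * (p * z) ≠ w := fun h => hne (mul_eq_left.1 h)
  have d4 : w * z ≠ w * p := fun h => hpz (mul_left_cancel h).symm
  have d5 : w * z ≠ w * (p * z) := fun h => hp1 (mul_eq_right.1 (mul_left_cancel h).symm)
  have d6 : w * p ≠ w * (p * z) := fun h => hz1 (mul_eq_left.1 (mul_left_cancel h).symm)
  have hkw : ∀ c d : K, kb c = kb d → kg c = kg d → (c : S) * w * (c : S)⁻¹ = d * w * (d : S)⁻¹ := fun c d e e' => by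
    simp only [kb, kg, decide_eq_decide] at e e'
    rcases (hfl c).2 with h | h | h | h <;> rcases (hfl d).2 with h' | h' | h' | h' <;> rw [h, h'] at e e' ⊢
    all_goals simp [d1, d2, d3, d4, d5, d6, d1.symm, d2.symm, d3.symm, d4.symm, d5.symm, d6.symm] at e e'
  by_cases ha : ∀ k : K, kp k = true
  · have := card_le_key f hf (H := centralizer (B : Set S)) (fun c => (kb c, kg c)) fun c d e =>
      img_C_normal_rel f hn (hrel c d (hkp c d ((ha c).trans (ha d).symm))
        (hkw c d (congrArg Prod.fst e) (congrArg Prod.snd e)))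
    simpa using this
  by_cases hb : ∀ k : K, kb k = true
  · have := card_le_key f hf (H := centralizer (B : Set S)) (fun c => (kp c, kg c)) fun c d e =>
      img_C_normal_rel f hn (hrel c d (hkp c d (congrArg Prod.fst e))
        (hkw c d ((hb c).trans (hb d).symm) (congrArg Prod.snd e)))
    simpa using this
  push Not at ha hb
  -- an element whose square moves `w` by `z`
  obtain ⟨t, ht1, ht2⟩ : ∃ t : K, kp t ≠ true ∧ kb t ≠ true := by
    obtain ⟨h, hh⟩ := ha
    obtain ⟨g, hg⟩ := hb
    by_cases h1 : kb h = true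
    · by_cases g1 : kp g = true
      · refine ⟨h * g, ?_, ?_⟩
        · simp only [kp, ne_eq, decide_eq_true_eq] at hh g1 ⊢
          rw [Subgroup.coe_mul, show (h : S) * g * p * ((h : S) * g)⁻¹ = h * (g * p * (g : S)⁻¹) * (h : S)⁻¹ by group, g1]
          exact hh
        · simp only [kb, ne_eq, decide_eq_true_eq, not_or] at hg h1 ⊢
          simp only [kp, ne_eq, decide_eq_true_eq] at hh
          have hhp := (hfl h).1.resolve_left hh
          have ez : (h : S) * z * (h : S)⁻¹ = z := by rw [hzc, mul_inv_cancel_right]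
          rw [Subgroup.coe_mul, show (h : S) * g * w * ((h : S) * g)⁻¹ = h * (g * w * (g : S)⁻¹) * (h : S)⁻¹ by group]
          rcases ((hfl g).2.resolve_left hg.1).resolve_left hg.2 with e | e <;> rw [e, conj_mul']
          · rcases h1 with e1 | e1 <;> rw [e1, hhp]
            · exact ⟨d3, d5.symm⟩
            · rw [show w * z * (p * z) = w * p by
                rw [mul_assoc, comm_of_sq hsq hp hz, ← mul_assoc z, hsq z hz, one_mul]]
              exact ⟨d2, d4.symm⟩
          · rw [conj_mul', hhp, ez, mul_assoc p, hsq z hz, mul_one]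
            rcases h1 with e1 | e1 <;> rw [e1]
            · exact ⟨d2, d4.symm⟩
            · rw [show w * z * p = w * (p * z) by rw [mul_assoc, comm_of_sq hsq hz hp]]
              exact ⟨d3, d5.symm⟩
      · exact ⟨g, g1, hg⟩
    · exact ⟨h, hh, h1⟩
  simp only [kp, kb, ne_eq, decide_eq_true_eq, not_or] at ht1 ht2
  have htp := (hfl t).1.resolve_left ht1
  have ez : (t : S) * z * (t : S)⁻¹ = z := by rw [hzc, mul_inv_cancel_right]
  have hq1 : ((t * t : K) : S) * p * ((t * t : K) : S)⁻¹ = p := by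
    rw [Subgroup.coe_mul, show (t : S) * t * p * ((t : S) * t)⁻¹ = t * (t * p * (t : S)⁻¹) * (t : S)⁻¹ by group, htp,
      conj_mul', htp, ez, mul_assoc, hsq z hz, mul_one]
  have hq2 : ((t * t : K) : S) * w * ((t * t : K) : S)⁻¹ = w * z := by
    rw [Subgroup.coe_mul, show (t : S) * t * w * ((t : S) * t)⁻¹ = t * (t * w * (t : S)⁻¹) * (t : S)⁻¹ by group]
    rcases ((hfl t).2.resolve_left ht2.1).resolve_left ht2.2 with e | e <;> rw [e, conj_mul']
    · rw [e, htp, mul_assoc, ← mul_assoc p, hsq p hp, one_mul]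
    · rw [conj_mul', htp, ez, e, show w * (p * z) * (p * z * z) = w * ((p * z) * (p * z) * z) by group,
        hsq _ (mul_mem hp hz), one_mul]
  have hq := f_sq f hexp t
  have := card_le_key f hf (H := centralizer (B : Set S)) (fun c => (kp c, kb c)) fun c d e => by
    have e1 := hkp c d (congrArg Prod.fst e)
    have e2 : kb c = kb d := congrArg Prod.snd e
    by_cases h : (c : S) * w * (c : S)⁻¹ = d * w * (d : S)⁻¹
    · exact img_C_normal_rel f hn (hrel c d e1 h)
    · have h' : ((c * (t * t) : K) : S) * p * ((c * (t * t) : K) : S)⁻¹ = d * p * (d : S)⁻¹ := by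
        rw [← e1, show ((c * (t * t) : K) : S) = c * ((t * t : K) : S) from rfl, show (c : S) * ((t * t : K) : S) * p * ((c : S) * ((t * t : K) : S))⁻¹ =
          c * (((t * t : K) : S) * p * ((t * t : K) : S)⁻¹) * (c : S)⁻¹ by group, hq1]
      have h'' : ((c * (t * t) : K) : S) * w * ((c * (t * t) : K) : S)⁻¹ = d * w * (d : S)⁻¹ := by
        rw [show ((c * (t * t) : K) : S) = c * ((t * t : K) : S) from rfl, show (c : S) * ((t * t : K) : S) * w * ((c : S) * ((t * t : K) : S))⁻¹ =
          c * (((t * t : K) : S) * w * ((t * t : K) : S)⁻¹) * (c : S)⁻¹ by group, hq2, conj_mul', hzc,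
          mul_inv_cancel_right]
        simp only [kb, decide_eq_decide] at e2
        have hzz' : ∀ x : S, x * z * z = x := fun x => by rw [mul_assoc, hsq z hz, mul_one]
        rcases (hfl c).2 with a | a | a | a <;> rcases (hfl d).2 with b | b | b | b <;> rw [a, b] at e2 h ⊢
        all_goals simp [d1, d2, d3, d4, d5, d6, d1.symm, d2.symm, d3.symm, d4.symm, d5.symm, d6.symm] at e2 h
        all_goals simp [hzz', mul_assoc, hsq z hz]
      have := img_C_normal_rel f hn (hrel _ _ h' h'')
      rwa [map_mul, hq, mul_one] at this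
  simpa using this

include hS hn hsq hcard hexp in
theorem bound_trivial (hf : Function.Surjective f) (hC : centralizer (B : Set S) ⊓ K ≤ B) : Nat.card V ≤ 16 := by
  have hVC : Nat.card (img f (centralizer (B : Set S))) ≤ Nat.card (img f B) := by
    refine Subgroup.card_le_of_le ?_
    rintro _ ⟨k, hk, rfl⟩
    exact mem_img f (hC ⟨Subgroup.mem_subgroupOf.1 hk, k.2⟩)
  by_cases hk : ∃ k : K, (k : S) ∉ centralizer (B : Set S)
  · obtain ⟨k, hk⟩ := hk
    have := card_le_four_mul f hcard hexp hn hS hsq hf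
    have := card_img_moved f hcard hexp hn hk
    omega
  · push Not at hk
    have := card_le_key f hf (H := centralizer (B : Set S)) (fun _ => ()) fun c d _ =>
      img_C_normal_rel f hn (mul_mem (inv_mem (hk c)) (hk d))
    have := card_img_B f hcard
    simp only [Fintype.card_unit, one_mul] at *
    omega

end CfsgLib.SelfEight
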