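/-
An involution `a` acting on a normal `B` of order eight, with small centraliser above its fixed points.
-/
import Cfsg.Agent.Lib.SelfEight.Count

set_option autoImplicit false

namespace CfsgLib.SelfEight

open Subgroup

universe u

variable {S : Type u} [Group S]

/-- The hypotheses used in every case. -/
structure Setup (B : Subgroup S) (a : S) : Prop where
  hS : IsPGroup 2 S
  normal : B.Normal
  sq : ∀ e ∈ B, e * e = 1
  card : Nat.card B = 8
  aa : a * a = 1
  na : a ∉ centralizer (B : Set S)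
  fix : ∀ d ∈ centralizer (B : Set S), a * d = d * a → d ∈ B
  sc : ∀ g : S, (∀ e ∈ B, a * e = e * a → g * e = e * g) → a * g = g * a →
    g ∈ centralizer (B : Set S) ∨ a * g ∈ centralizer (B : Set S)

/-- `g` fixes the fixed points of `a` on `B`. -/
def Fx (B : Subgroup S) (a g : S) : Prop := ∀ e ∈ B, a * e = e * a → g * e = e * g

/-- The map `x ↦ (a x a)⁻¹ x`. -/
def psi (a x : S) : S := (a * x * a)⁻¹ * x

/-- The obstruction to commuting with `a`. -/
def obst (a g : S) : S := a * g * a * g⁻¹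

namespace Setup

variable {B : Subgroup S} {a : S} (h : Setup B a)
include h

theorem ai : a⁻¹ = a := inv_eq_of_mul_eq_one_right h.aa

theorem conj_a {x : S} : a * x * a = a * x * a⁻¹ := by rw [h.ai]

theorem C_normal : (centralizer (B : Set S)).Normal := by
  haveI := h.normal
  infer_instance

theorem aC {x : S} (hx : x ∈ centralizer (B : Set S)) : a * x * a ∈ centralizer (B : Set S) := by
  rw [h.conj_a]
  exact h.C_normal.conj_mem x hx a

theorem aB {x : S} (hx : x ∈ B) : a * x * a ∈ B := by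
  rw [h.conj_a]
  exact h.normal.conj_mem x hx a

theorem comm_iff {x : S} : a * x = x * a ↔ a * x * a = x := by
  constructor
  · intro e
    rw [e, mul_assoc, h.aa, mul_one]
  · intro e
    calc a * x = a * x * (a * a) := by rw [h.aa, mul_one]
      _ = a * x * a * a := by group
      _ = x * a := by rw [e]

theorem cB {x y : S} (hx : x ∈ centralizer (B : Set S)) (hy : y ∈ B) : x * y = y * x :=
  (Subgroup.mem_centralizer_iff.1 hx y hy).symm

theorem conj_B {x y : S} (hx : x ∈ centralizer (B : Set S)) (hy : y ∈ B) : x * y * x⁻¹ = y := by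
  rw [h.cB hx hy, mul_inv_cancel_right]

theorem sqinv {e : S} (he : e ∈ B) : e⁻¹ = e := inv_eq_of_mul_eq_one_right (h.sq e he)

variable [Finite S]

/-- The fixed four-group and the commutator of `a` on `B`. -/
theorem shape : ∃ p q f, p ∈ B ∧ q ∈ B ∧ f ∈ B ∧ p ≠ 1 ∧ q ≠ 1 ∧ q ≠ p ∧ (f ≠ 1 ∧ f ≠ p ∧ f ≠ q ∧ f ≠ q * p) ∧
    a * p * a = p ∧ a * q * a = q ∧ a * f * a = f * p := by
  obtain ⟨z, hz, hz1, hzc⟩ := exists_central h.card h.normal h.hS h.sq
  obtain ⟨p, f, hp, hf, hp1, hpz, hf', hfl⟩ := exists_flag h.hS h.normal h.sq h.card hz hz1 hzc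
  obtain ⟨h1, h2, h3, h4⟩ := hf'
  have ez : a * z * a = z := h.comm_iff.1 (hzc a)
  have hcz : ∀ {x y : S}, x ∈ B → y ∈ B → x * y = y * x := comm_of_sq h.sq
  have hzz := h.sq z hz
  obtain ⟨ea, eb⟩ := hfl a
  rw [← h.conj_a] at ea eb
  have hm : ∀ x y : S, a * (x * y) * a = a * x * a * (a * y * a) := fun x y => by
    rw [show a * x * a * (a * y * a) = a * x * (a * a) * y * a by group, h.aa]; group
  rcases ea with ea | ea
  · have epz : a * (p * z) * a = p * z := by rw [hm, ea, ez]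
    rcases eb with eb | eb | eb | eb
    · exfalso
      refine h.na (mem_centralizer_of_basis h.sq h.card hz hp hf hz1 hp1 hpz ⟨h1, h2, h3, h4⟩ ?_ ?_ ?_)
      exacts [(h.comm_iff.2 ez).symm, (h.comm_iff.2 ea).symm, (h.comm_iff.2 eb).symm]
    · exact ⟨z, p, f, hz, hp, hf, hz1, hp1, hpz, ⟨h1, h2, h3, h4⟩, ez, ea, eb⟩
    · refine ⟨p, z, f, hp, hz, hf, hp1, hz1, Ne.symm hpz, ⟨h1, h3, h2, ?_⟩, ea, ez, eb⟩
      rwa [hcz hz hp]
    · refine ⟨p * z, z, f, mul_mem hp hz, hz, hf, ?_, hz1, ?_, ⟨h1, h4, h2, ?_⟩, epz, ez, eb⟩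
      · exact fun e => hpz (by rw [← mul_one p, ← hzz, ← mul_assoc, e, one_mul])
      · exact fun e => hp1 (mul_eq_right.1 e.symm)
      · rw [hcz hp hz, ← mul_assoc, hzz, one_mul]; exact h3
  · -- `a` moves `p`
    have e2 : a * (a * f * a) * a = f := by
      rw [show a * (a * f * a) * a = a * a * f * (a * a) by group, h.aa, one_mul, mul_one]
    rcases eb with eb | eb | eb | eb
    · refine ⟨z, f, p, hz, hf, hp, hz1, h1, h2, ⟨hp1, hpz, Ne.symm h3, ?_⟩, ez, eb, ea⟩
      exact fun e => h4 (by rw [e, mul_assoc, hzz, mul_one])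
    · refine ⟨z, f * p, p, hz, mul_mem hf hp, hp, hz1, ?_, ?_, ⟨hp1, hpz, ?_, ?_⟩, ez, ?_, ea⟩
      · exact fun e => h3 (by rw [← mul_one f, ← h.sq p hp, ← mul_assoc, e, one_mul])
      · exact fun e => h4 (by rw [hcz hp hz, ← e, mul_assoc, h.sq p hp, mul_one])
      · exact fun e => h1 (mul_eq_right.1 e.symm)
      · exact fun e => h2 (by
          have : f * p * z = p := e.symm
          rw [mul_assoc, hcz hp hz, ← mul_assoc, mul_eq_right] at this
          rw [← mul_one f, ← hzz, ← mul_assoc, this, one_mul])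
      · rw [hm, eb, ea, mul_assoc f, ← mul_assoc z, hcz hz hp, mul_assoc p, hzz, mul_one]
    · exfalso
      rw [eb, hm, eb, ea, mul_assoc, ← mul_assoc p, h.sq p hp, one_mul] at e2
      exact hz1 (mul_eq_left.1 e2)
    · exfalso
      rw [eb, hm, hm, eb, ea, ez, mul_assoc, show p * z * (p * z * z) = p * z * (p * z) * z by group,
        h.sq _ (mul_mem hp hz), one_mul] at e2
      exact hz1 (mul_eq_left.1 e2)

/-- Elements fixed by `a`. -/
theorem fixed_cases {p q f : S} (hp : p ∈ B) (hq : q ∈ B) (hf : f ∈ B) (hp1 : p ≠ 1) (hq1 : q ≠ 1) (hqp : q ≠ p)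
    (hf' : f ≠ 1 ∧ f ≠ p ∧ f ≠ q ∧ f ≠ q * p) (ep : a * p * a = p) (eq' : a * q * a = q)
    (ef : a * f * a = f * p) {e : S} (he : e ∈ B) (hfx : a * e = e * a) : e = 1 ∨ e = p ∨ e = q ∨ e = q * p := by
  rcases basis h.sq h.card hp hq hf hp1 hq1 hqp hf' he with hc | hc
  · exact hc
  · exfalso
    have hm : ∀ x y : S, a * (x * y) * a = a * x * a * (a * y * a) := fun x y => by
      rw [show a * x * a * (a * y * a) = a * x * (a * a) * y * a by group, h.aa]; group
    obtain ⟨x, hx, hxB, rfl⟩ : ∃ x, a * x * a = x ∧ x ∈ B ∧ e = f * x := by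
      rcases hc with hc | hc | hc | hc
      · exact ⟨1, by rw [mul_one, h.aa], one_mem _, by rw [mul_one]; exact hc⟩
      · exact ⟨p, ep, hp, hc⟩
      · exact ⟨q, eq', hq, hc⟩
      · exact ⟨q * p, by rw [hm, eq', ep], mul_mem hq hp, hc⟩
    have := h.comm_iff.1 hfx
    rw [hm, hx, ef, mul_left_inj, mul_eq_left] at this
    exact hp1 this

/-- Two elements fixing the fixed points commute on `B`. -/
theorem obst_mem {g : S} (hg : Fx B a g) : obst a g ∈ centralizer (B : Set S) := by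
  obtain ⟨p, q, f, hp, hq, hf, hp1, hq1, hqp, hf', ep, eq', ef⟩ := h.shape
  have gp := hg p hp (h.comm_iff.2 ep)
  have gq := hg q hq (h.comm_iff.2 eq')
  have fixd : ∀ x : S, a * x = x * a → g * x = x * g → x * obst a g = obst a g * x := fun x e1 e2 => by
    have c1 : Commute x a := e1.symm
    have c2 : Commute x g := e2.symm
    exact (((c1.mul_right c2).mul_right c1).mul_right c2.inv_right).eq
  refine mem_centralizer_of_basis h.sq h.card hp hq hf hp1 hq1 hqp hf'
    (fixd p (h.comm_iff.2 ep) gp) (fixd q (h.comm_iff.2 eq') gq) ?_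
  -- the last basis element
  obtain ⟨e, he, hge, hfe⟩ : ∃ e ∈ B, (g * e = e * g ∧ a * e = e * a) ∧ g * f * g⁻¹ = f * e := by
    have hm : ∀ x : S, g * x = x * g → g⁻¹ * x * g = x := fun x e => by
      rw [mul_assoc, ← e, ← mul_assoc, inv_mul_cancel, one_mul]
    have hp' : a * p = p * a := h.comm_iff.2 ep
    have hq' : a * q = q * a := h.comm_iff.2 eq'
    have hqp' : a * (q * p) = q * p * a := (Commute.mul_right (hq' : Commute a q) hp').eq
    have gqp : g * (q * p) = q * p * g := (Commute.mul_right (gq : Commute g q) gp).eq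
    obtain ⟨h1, h2, h3, h4⟩ := hf'
    rcases basis h.sq h.card hp hq hf hp1 hq1 hqp ⟨h1, h2, h3, h4⟩ (h.normal.conj_mem f hf g) with hc | hc
    · exfalso
      have efg : f = g⁻¹ * (g * f * g⁻¹) * g := by group
      rcases hc with hc | hc | hc | hc <;> rw [hc] at efg
      · exact h1 (by rw [efg]; group)
      · exact h2 (efg.trans (hm _ gp))
      · exact h3 (efg.trans (hm _ gq))
      · exact h4 (efg.trans (hm _ gqp))
    · rcases hc with hc | hc | hc | hc
      · exact ⟨1, one_mem _, ⟨by simp, by simp⟩, by rw [mul_one]; exact hc⟩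
      · exact ⟨p, hp, ⟨gp, hp'⟩, hc⟩
      · exact ⟨q, hq, ⟨gq, hq'⟩, hc⟩
      · exact ⟨q * p, mul_mem hq hp, ⟨gqp, hqp'⟩, hc⟩
  have hee := h.sq e he
  have g' : g⁻¹ * f * g = f * e := by
    have : g * (f * e) * g⁻¹ = f := by
      rw [conj_mul', hfe, hge.1, mul_inv_cancel_right, mul_assoc, hee, mul_one]
    calc g⁻¹ * f * g = g⁻¹ * (g * (f * e) * g⁻¹) * g := by rw [this]
      _ = f * e := by group
  have hm : ∀ x y : S, a * (x * y) * a = a * x * a * (a * y * a) := fun x y => by
    rw [show a * x * a * (a * y * a) = a * x * (a * a) * y * a by group, h.aa]; group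
  have hpe : g * p * g⁻¹ = p := by rw [gp, mul_inv_cancel_right]
  have e2 : a * (f * e) * a = f * p * e := by rw [hm, ef, h.comm_iff.1 hge.2]
  have e3 : g * (f * p * e) * g⁻¹ = f * p := by
    rw [conj_mul', conj_mul', hfe, hpe, hge.1, mul_inv_cancel_right,
      show f * e * p * e = f * (e * p * e) by group, comm_of_sq h.sq he hp, mul_assoc p, hee, mul_one]
  have e4 : a * (f * p) * a = f := by rw [hm, ef, ep, mul_assoc, h.sq p hp, mul_one]
  have key : obst a g * f * (obst a g)⁻¹ = f := by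
    calc obst a g * f * (obst a g)⁻¹ = a * (g * (a * (g⁻¹ * f * g) * a⁻¹) * g⁻¹) * a⁻¹ := by unfold obst; group
      _ = a * (g * (a * (g⁻¹ * f * g) * a) * g⁻¹) * a := by rw [h.ai]
      _ = f := by rw [g', e2, e3, e4]
  calc f * obst a g = obst a g * f * (obst a g)⁻¹ * obst a g := by rw [key]
    _ = obst a g * f := by group

omit [Finite S] in
theorem obst_inverted (g : S) : a * obst a g * a = (obst a g)⁻¹ := by
  unfold obst
  rw [show a * (a * g * a * g⁻¹) * a = a * a * g * a * g⁻¹ * a by group, h.aa, one_mul, mul_inv_rev, mul_inv_rev,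
    mul_inv_rev, h.ai, inv_inv]
  group

omit [Finite S] in
theorem psi_inverted (x : S) : a * psi a x * a = (psi a x)⁻¹ := by
  unfold psi
  rw [mul_inv_rev, mul_inv_rev, h.ai, show a * (a * (x⁻¹ * a) * x) * a = a * a * x⁻¹ * a * x * a by group, h.aa,
    one_mul, mul_inv_rev, mul_inv_rev, mul_inv_rev, inv_inv, h.ai]
  group

omit [Finite S] in
theorem psi_mem {x : S} (hx : x ∈ centralizer (B : Set S)) : psi a x ∈ centralizer (B : Set S) :=
  mul_mem (inv_mem (h.aC hx)) hx

omit [Finite S] in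
theorem psi_mul {x y : S} (hx : psi a x ∈ B) (hy : y ∈ centralizer (B : Set S)) :
    psi a (x * y) = psi a y * psi a x := by
  have : a * (x * y) * a = a * x * a * (a * y * a) := by
    rw [show a * x * a * (a * y * a) = a * x * (a * a) * y * a by group, h.aa]; group
  calc psi a (x * y) = (a * y * a)⁻¹ * psi a x * y := by unfold psi; rw [this]; group
    _ = (a * y * a)⁻¹ * y * psi a x := by rw [mul_assoc _ (psi a x), ← h.cB hy hx, ← mul_assoc]
    _ = psi a y * psi a x := rfl

omit [Finite S] in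
/-- An inverted element of `B` is fixed. -/
theorem fixed_of_inverted {e : S} (he : e ∈ B) (hi : a * e * a = e⁻¹) : a * e = e * a :=
  h.comm_iff.2 (hi.trans (h.sqinv he))

omit [Finite S] in
/-- No element outside `C ∪ aC` fixing `C_B(a)` has an obstruction in the image of `psi`. -/
theorem lift {g x : S} (hg : Fx B a g) (hgC : g ∉ centralizer (B : Set S)) (hagC : a * g ∉ centralizer (B : Set S))
    (hx : x ∈ centralizer (B : Set S)) (e : psi a x = obst a g) : False := by
  have h1 : a * (x * g) = x * g * a := h.comm_iff.2 (by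
    calc a * (x * g) * a = a * x * a * (obst a g) * g := by
          unfold obst
          rw [show a * x * a * (a * g * a * g⁻¹) * g = a * x * (a * a) * g * a by group, h.aa]; group
      _ = x * g := by rw [← e]; unfold psi; group)
  have hfx : ∀ b ∈ B, a * b = b * a → x * g * b = b * (x * g) := fun b hb e' => by
    rw [mul_assoc, hg b hb e', ← mul_assoc, h.cB hx hb, mul_assoc]
  rcases h.sc _ hfx h1 with h2 | h2
  · refine hgC ?_
    have := mul_mem (inv_mem hx) h2
    rwa [inv_mul_cancel_left] at this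
  · refine hagC ?_
    have := mul_mem (h.aC (inv_mem hx)) h2
    rwa [show a * x⁻¹ * a * (a * (x * g)) = a * x⁻¹ * (a * a) * x * g by group, h.aa, mul_one,
      mul_assoc a x⁻¹ x, inv_mul_cancel, mul_one] at this

/-- A non-central fixed element of `C / B`. -/
theorem exists_v (hne : ¬ centralizer (B : Set S) ≤ B) :
    ∃ v ∈ centralizer (B : Set S), v ∉ B ∧ psi a v ∈ B := by
  obtain ⟨d, hd, hdB, hd'⟩ := invol_fixed h.hS (le_centralizer h.sq) hne h.aa (fun x hx => h.aC hx)
    (fun x hx => h.aB hx)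
  refine ⟨d, hd, hdB, ?_⟩
  have := inv_mem hd'
  rwa [mul_inv_rev, inv_inv] at this

/-- The fixed points of `a` on `B` are values of `psi`. -/
theorem fixed_psi {v : S} (hv : v ∈ centralizer (B : Set S)) (hvB : v ∉ B) (hpv : psi a v ∈ B) {e : S} (he : e ∈ B)
    (hfx : a * e = e * a) : ∃ x ∈ centralizer (B : Set S), psi a x = e ∧ (x ∈ B ∨ v⁻¹ * x ∈ B) := by
  obtain ⟨p, q, f, hp, hq, hf, hp1, hq1, hqp, hf', ep, eq', ef⟩ := h.shape
  have hBC := le_centralizer h.sq
  have pf : psi a f = p := by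
    unfold psi
    rw [ef, mul_inv_rev, mul_assoc, inv_mul_cancel, mul_one, h.sqinv hp]
  have p1 : psi a 1 = 1 := by unfold psi; simp [h.aa]
  have pvf : psi a (f * v) = psi a v * p := by rw [h.psi_mul (pf ▸ hp) hv, pf]
  have hmem : f * v ∈ centralizer (B : Set S) := mul_mem (hBC hf) hv
  have hfix : ∀ d ∈ centralizer (B : Set S), psi a d = 1 → d ∈ B := fun d hd e' => by
    unfold psi at e'
    exact h.fix d hd (h.comm_iff.2 (inv_mul_eq_one.1 e'))
  have hk := fixed_cases h hp hq hf hp1 hq1 hqp hf' ep eq' ef hpv (h.fixed_of_inverted hpv (h.psi_inverted v))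
  have hk' : psi a v = q ∨ psi a v = q * p := by
    rcases hk with k | k | k | k
    · exact absurd (hfix v hv k) hvB
    · refine absurd ?_ hvB
      have := mul_mem (inv_mem hf) (hfix _ hmem (by rw [pvf, k, h.sq p hp]))
      rwa [inv_mul_cancel_left] at this
    · exact Or.inl k
    · exact Or.inr k
  have hvfB : v⁻¹ * (f * v) ∈ B := by
    rw [← h.cB hv hf, inv_mul_cancel_left]; exact hf
  rcases fixed_cases h hp hq hf hp1 hq1 hqp hf' ep eq' ef he hfx with c | c | c | c
  · exact ⟨1, one_mem _, p1.trans c.symm, Or.inl (one_mem _)⟩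
  · exact ⟨f, hBC hf, pf.trans c.symm, Or.inl hf⟩
  · rcases hk' with k | k
    · exact ⟨v, hv, k.trans c.symm, Or.inr (by rw [inv_mul_cancel]; exact one_mem _)⟩
    · exact ⟨f * v, hmem, by rw [pvf, k, c, mul_assoc, h.sq p hp, mul_one], Or.inr hvfB⟩
  · rcases hk' with k | k
    · exact ⟨f * v, hmem, by rw [pvf, k, c], Or.inr hvfB⟩
    · exact ⟨v, hv, k.trans c.symm, Or.inr (by rw [inv_mul_cancel]; exact one_mem _)⟩

/-- No element outside `C ∪ aC` fixing `C_B(a)` has an obstruction in `psi y * B`. -/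
theorem lift_mod {v : S} (hv : v ∈ centralizer (B : Set S)) (hvB : v ∉ B) (hpv : psi a v ∈ B) {g y : S}
    (hg : Fx B a g) (hgC : g ∉ centralizer (B : Set S)) (hagC : a * g ∉ centralizer (B : Set S))
    (hy : y ∈ centralizer (B : Set S)) (he : (psi a y)⁻¹ * obst a g ∈ B) : False := by
  set e := (psi a y)⁻¹ * obst a g with hedef
  have hw : obst a g = psi a y * e := by rw [hedef, mul_inv_cancel_left]
  have hinv := h.obst_inverted g
  rw [hw, show a * (psi a y * e) * a = a * psi a y * (a * a) * e * a by rw [h.aa]; group,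
    show a * psi a y * (a * a) * e * a = a * psi a y * a * (a * e * a) by group, h.psi_inverted, mul_inv_rev,
    h.cB (inv_mem (h.psi_mem hy)) (h.aB he), mul_left_inj] at hinv
  obtain ⟨x, hx, hxe, -⟩ := h.fixed_psi hv hvB hpv he (h.fixed_of_inverted he hinv)
  exact h.lift hg hgC hagC (mul_mem hx hy) (by rw [h.psi_mul (hxe ▸ he) hy, hxe, hw])

/-- The fixed points of `a` on `C / B`. -/
theorem fixed_mod {v : S} (hv : v ∈ centralizer (B : Set S)) (hvB : v ∉ B) (hpv : psi a v ∈ B) {c : S}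
    (hc : c ∈ centralizer (B : Set S)) (hpc : psi a c ∈ B) : c ∈ B ∨ v⁻¹ * c ∈ B := by
  obtain ⟨x, hx, hxe, hxB⟩ := h.fixed_psi hv hvB hpv hpc (h.fixed_of_inverted hpc (h.psi_inverted c))
  have hd : c * x⁻¹ ∈ B := h.fix _ (mul_mem hc (inv_mem hx)) (h.comm_iff.2 (by
    unfold psi at hxe
    have e : (a * x * a) = x * c⁻¹ * (a * c * a) := by
      have := congrArg Inv.inv hxe
      simp only [mul_inv_rev, inv_inv] at this
      rw [mul_assoc x, ← this, mul_inv_cancel_left]
    calc a * (c * x⁻¹) * a = a * c * (a * a) * x⁻¹ * a := by rw [h.aa]; group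
      _ = a * c * a * (a * x * a)⁻¹ := by rw [mul_inv_rev, mul_inv_rev, h.ai]; group
      _ = c * x⁻¹ := by rw [e]; group))
  rcases hxB with hx' | hx'
  · left
    have := mul_mem hd hx'
    rwa [inv_mul_cancel_right] at this
  · right
    have hh := h.conj_B (inv_mem hv) hd
    have : v⁻¹ * (c * x⁻¹) * v⁻¹⁻¹ * (v⁻¹ * x) ∈ B := mul_mem (hh.symm ▸ hd) hx'
    rwa [show v⁻¹ * (c * x⁻¹) * v⁻¹⁻¹ * (v⁻¹ * x) = v⁻¹ * c by group] at this

/-- A central involution other than `[B, a]`. -/
theorem flag_of_ne {z : S} (hz : z ∈ B) (hz1 : z ≠ 1) (hzc : ∀ s : S, s * z = z * s) {p : S}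
    (hp : ∀ e ∈ B, a * e * a = e ∨ a * e * a = e * p) (hzp : z ≠ p) :
    ∃ f, f ∈ B ∧ p ∈ B ∧ p ≠ 1 ∧ (f ≠ 1 ∧ f ≠ z ∧ f ≠ p ∧ f ≠ p * z) ∧ a * p * a = p ∧ a * f * a = f * p ∧
      ∀ s : S, (s * p * s⁻¹ = p ∨ s * p * s⁻¹ = p * z) ∧
        (s * f * s⁻¹ = f ∨ s * f * s⁻¹ = f * z ∨ s * f * s⁻¹ = f * p ∨ s * f * s⁻¹ = f * (p * z)) := by
  obtain ⟨p', f, hp', hf, hp'1, hp'z, hf', hfl⟩ := exists_flag h.hS h.normal h.sq h.card hz hz1 hzc
  have ez : a * z * a = z := h.comm_iff.1 (hzc a)
  obtain ⟨ea, eb⟩ := hfl a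
  rw [← h.conj_a] at ea eb
  have ea' : a * p' * a = p' := ea.resolve_right fun e => by
    rcases hp p' hp' with e' | e' <;> rw [e] at e'
    · exact hz1 (mul_eq_left.1 e')
    · exact hzp (mul_left_cancel e')
  have hef : a * f * a ≠ f := fun e => h.na (mem_centralizer_of_basis h.sq h.card hz hp' hf hz1 hp'1 hp'z hf'
    (h.comm_iff.2 ez).symm (h.comm_iff.2 ea').symm (h.comm_iff.2 e).symm)
  have hfp : a * f * a = f * p := (hp f hf).resolve_left hef
  obtain ⟨h1, h2, h3, h4⟩ := hf'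
  rw [hfp] at eb
  rcases eb with eb | eb | eb | eb
  · exact absurd (hfp.trans eb) hef
  · exact absurd (mul_left_cancel eb).symm hzp
  · obtain rfl : p = p' := mul_left_cancel eb
    exact ⟨f, hf, hp', hp'1, ⟨h1, h2, h3, h4⟩, ea', hfp, hfl⟩
  · obtain rfl : p = p' * z := mul_left_cancel eb
    have hzz := h.sq z hz
    have e1 : p' * z * z = p' := by rw [mul_assoc, hzz, mul_one]
    refine ⟨f, hf, mul_mem hp' hz, ?_, ⟨h1, h2, h4, by rw [e1]; exact h3⟩, ?_, hfp, fun s => ?_⟩
    · exact fun e => hp'z (by rw [← e1, e, one_mul])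
    · rw [show a * (p' * z) * a = a * p' * (a * a) * z * a by rw [h.aa]; group,
        show a * p' * (a * a) * z * a = a * p' * a * (a * z * a) by group, ea', ez]
    · have ezs : s * z * s⁻¹ = z := by rw [hzc, mul_inv_cancel_right]
      rw [e1, conj_mul', ezs]
      refine ⟨?_, ?_⟩
      · rcases (hfl s).1 with e | e <;> rw [e]
        · exact Or.inl rfl
        · exact Or.inr e1
      · rcases (hfl s).2 with e | e | e | e
        exacts [Or.inl e, Or.inr (Or.inl e), Or.inr (Or.inr (Or.inr e)), Or.inr (Or.inr (Or.inl e))]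

end Setup

end CfsgLib.SelfEight
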