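/-
The case `|C / B| = 2`.
-/
import Cfsg.Agent.Lib.SelfEight.Setup

set_option autoImplicit false

namespace CfsgLib.SelfEight

open Subgroup

universe u v

theorem five_bool : ∀ x y u t r : Bool × Bool, x ≠ y → x ≠ u → y ≠ u → x ≠ t → y ≠ t → u ≠ t → x ≠ r → y ≠ r →
    u ≠ r → t ≠ r → False := by
  intro x y u t r h1 h2 h3 h4 h5 h6 h7 h8 h9 h10
  have := Finset.card_le_univ ({x, y, u, t, r} : Finset (Bool × Bool))
  simp [h1, h2, h3, h4, h5, h6, h7, h8, h9, h10] at this

namespace Setup

variable {S : Type u} [Group S] [Finite S] {B : Subgroup S} {a : S} (h : Setup B a)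
include h

/-- An obstruction which is an involution is impossible. -/
theorem not_sq_one {v : S} (hv : v ∈ centralizer (B : Set S)) (hvB : v ∉ B) (hpv : psi a v ∈ B) {g : S}
    (hg : Fx B a g) (hgC : g ∉ centralizer (B : Set S)) (hagC : a * g ∉ centralizer (B : Set S))
    (hw : obst a g * obst a g = 1) : False := by
  have hwC := h.obst_mem hg
  have hwB : obst a g ∈ B := h.fix _ hwC (h.comm_iff.2 (by
    rw [h.obst_inverted]; exact inv_eq_of_mul_eq_one_right hw))
  refine h.lift_mod hv hvB hpv hg hgC hagC (one_mem _) ?_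
  have : psi a (1 : S) = 1 := by unfold psi; simp [h.aa]
  rwa [this, inv_one, one_mul]

variable {v : S} (hv : v ∈ centralizer (B : Set S)) (hvB : v ∉ B)
  (hC2 : ∀ c ∈ centralizer (B : Set S), c ∈ B ∨ v⁻¹ * c ∈ B)

include hv hC2 in
theorem two_comm {c d : S} (hc : c ∈ centralizer (B : Set S)) (hd : d ∈ centralizer (B : Set S)) : c * d = d * c := by
  rcases hC2 c hc with hcB | hcB
  · exact (h.cB hd hcB).symm
  rcases hC2 d hd with hdB | hdB
  · exact h.cB hc hdB
  have e1 : Commute v (v⁻¹ * c) := h.cB hv hcB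
  have e2 : Commute v (v⁻¹ * d) := h.cB hv hdB
  have e3 : Commute (v⁻¹ * c) (v⁻¹ * d) := comm_of_sq h.sq hcB hdB
  have := ((Commute.refl v).mul_right e2).mul_left (e1.symm.mul_right e3)
  rwa [mul_inv_cancel_left, mul_inv_cancel_left] at this

include hC2 in
theorem two_psi (hv : v ∈ centralizer (B : Set S)) (hvB : v ∉ B) : psi a v ∈ B := by
  rcases hC2 _ (h.psi_mem hv) with h1 | h1
  · exact h1
  · exfalso
    refine hvB ?_
    rcases hC2 _ (h.aC hv) with h2 | h2
    · have := h.aB h2
      rwa [show a * (a * v * a) * a = a * a * v * (a * a) by group, h.aa, one_mul, mul_one] at this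
    · -- both in the same coset
      have h3 : psi a v ∈ B := by
        unfold psi
        have := inv_mem h2
        rwa [mul_inv_rev, inv_inv] at this
      have h4 := mul_mem h3 (inv_mem h1)
      rwa [mul_inv_rev, inv_inv, mul_inv_cancel_left] at h4

include hC2 in
theorem two_coset {c d : S} (hc : c ∈ centralizer (B : Set S)) (hd : d ∈ centralizer (B : Set S)) (hcB : c ∉ B)
    (hdB : d ∉ B) : c⁻¹ * d ∈ B := by
  have := mul_mem (inv_mem ((hC2 c hc).resolve_left hcB)) ((hC2 d hd).resolve_left hdB)
  rwa [mul_inv_rev, inv_inv, mul_assoc, mul_inv_cancel_left] at this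

variable {K : Subgroup S} {V : Type v} [Group V] [Finite V] (f : K →* V) (hexp : ∀ v : V, v * v = 1)

include hv hvB hC2 hexp in
theorem two_bound (hf : Function.Surjective f) : Nat.card V ≤ 16 := by
  classical
  have hpv := h.two_psi hC2 hv hvB
  have hn := h.normal
  have hn' := h.C_normal
  have h4 := card_le_four_mul f h.card hexp hn h.hS h.sq hf
  have h8 := card_img_B f h.card
  have hVC : Nat.card (img f (centralizer (B : Set S))) ≤ 2 * Nat.card (img f B) := by
    have := card_img_key f (H := B) (H' := centralizer (B : Set S)) (fun c : K => decide ((c : S) ∈ B)) fun c d hc hd e => by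
      rw [← map_inv, ← map_mul]
      refine mem_img f ?_
      by_cases hcB : (c : S) ∈ B
      · exact mul_mem (inv_mem hcB) (by simpa [hcB] using e)
      · exact h.two_coset hC2 hc hd hcB (by simpa [hcB] using e)
    simpa using this
  by_cases htriv : centralizer (B : Set S) ⊓ K ≤ B
  · exact bound_trivial f h.card hexp hn h.hS h.sq hf htriv
  obtain ⟨x0, ⟨hc0, hc0K⟩, hc0B⟩ := SetLike.not_le_iff_exists.1 htriv
  obtain ⟨c0, rfl⟩ : ∃ c : K, (c : S) = x0 := ⟨⟨x0, hc0K⟩, rfl⟩
  -- an odd kernel element
  by_cases hodd : ∃ x : K, (x : S) ∈ centralizer (B : Set S) ∧ (x : S) ∉ B ∧ f x ∈ img f B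
  · obtain ⟨x, hx, hxB, hxi⟩ := hodd
    have hle : Nat.card (img f (centralizer (B : Set S))) ≤ Nat.card (img f B) := by
      refine Subgroup.card_le_of_le ?_
      rintro _ ⟨k, hk, rfl⟩
      by_cases hkB : (k : S) ∈ B
      · exact mem_img f hkB
      · have := mul_mem hxi (mem_img f (k := x⁻¹ * k) (h.two_coset hC2 hx (Subgroup.mem_subgroupOf.1 hk) hxB hkB))
        rwa [← map_mul, mul_inv_cancel_left] at this
    by_cases hk : ∃ k : K, (k : S) ∉ centralizer (B : Set S)
    · obtain ⟨k, hk⟩ := hk
      have := card_img_moved f h.card hexp hn hk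
      omega
    · push Not at hk
      have := card_le_key f hf (H := centralizer (B : Set S)) (fun _ => ()) fun c d _ =>
        img_C_normal_rel f hn (mul_mem (inv_mem (hk c)) (hk d))
      simp only [Fintype.card_unit, one_mul] at *
      omega
  by_cases hcls : ∀ k l : K, (k : S) ∉ centralizer (B : Set S) → (l : S) ∉ centralizer (B : Set S) →
      (k : S)⁻¹ * l ∈ centralizer (B : Set S)
  · have h2 := card_le_key f hf (H := centralizer (B : Set S))
      (fun c : K => decide ((c : S) ∈ centralizer (B : Set S))) fun c d e => by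
      refine img_C_normal_rel f hn ?_
      by_cases hc : (c : S) ∈ centralizer (B : Set S)
      · exact mul_mem (inv_mem hc) (by simpa [hc] using e)
      · exact hcls c d hc (by simpa [hc] using e)
    simp only [Fintype.card_bool] at h2
    by_cases hk : ∃ k : K, (k : S) ∉ centralizer (B : Set S)
    · obtain ⟨k, hk⟩ := hk
      have := card_img_moved f h.card hexp hn hk
      omega
    · push Not at hk
      have := card_le_key f hf (H := centralizer (B : Set S)) (fun _ => ()) fun c d _ =>
        img_C_normal_rel f hn (mul_mem (inv_mem (hk c)) (hk d))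
      simp only [Fintype.card_unit, one_mul] at *
      omega
  push Not at hcls
  obtain ⟨k, l, hk, hl, hkl⟩ := hcls
  suffices Nat.card (img f B) ≤ 2 by omega
  by_contra hbig
  push Not at hodd
  -- kernel elements of `C` lie in `B`
  have hker : ∀ x : K, (x : S) ∈ centralizer (B : Set S) → f x = 1 → (x : S) ∈ B := fun x hx hfx => by
    by_contra hxB
    exact hodd x hx hxB (hfx ▸ one_mem _)
  have hsc : ∀ s : S, ∀ c ∈ centralizer (B : Set S), s * c * s⁻¹ ∈ centralizer (B : Set S) := fun s c hc =>
    hn'.conj_mem c hc s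
  obtain ⟨z, hz, hz1, hzc⟩ := exists_central h.card hn h.hS h.sq
  obtain ⟨p, w, hp, hw, hp1, hpz, hw', hfl⟩ := exists_flag h.hS hn h.sq h.card hz hz1 hzc
  have ez : ∀ s : S, s * z * s⁻¹ = z := fun s => by rw [hzc, mul_inv_cancel_right]
  have hrel : ∀ s t : S, s * p * s⁻¹ = t * p * t⁻¹ → s * w * s⁻¹ = t * w * t⁻¹ →
      s⁻¹ * t ∈ centralizer (B : Set S) := fun s t e1 e2 => by
    refine mem_centralizer_of_basis h.sq h.card hz hp hw hz1 hp1 hpz hw' (hzc _).symm ?_ ?_
    · calc p * (s⁻¹ * t) = s⁻¹ * (s * p * s⁻¹) * t := by group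
        _ = s⁻¹ * t * p := by rw [e1]; group
    · calc w * (s⁻¹ * t) = s⁻¹ * (s * w * s⁻¹) * t := by group
        _ = s⁻¹ * t * w := by rw [e2]; group
  by_cases hBK : B ≤ K
  · -- one common commutator
    have hcom : ∀ (g : K) (x : S) (hx : x ∈ B), ∃ e : K, (e : S) = g * x * (g : S)⁻¹ * x⁻¹ ∧ f e = 1 :=
      fun g x hx => ⟨g * ⟨x, hBK hx⟩ * g⁻¹ * ⟨x, hBK hx⟩⁻¹, rfl, f_comm f hexp _ _⟩
    obtain ⟨z', hz'B, hz'1, hz'f⟩ : ∃ e : K, (e : S) ∈ B ∧ (e : S) ≠ 1 ∧ f e = 1 := by
      obtain ⟨x, hx, hne⟩ : ∃ x ∈ B, x * (k : S) ≠ k * x := by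
        by_contra hc
        push Not at hc
        exact hk (Subgroup.mem_centralizer_iff.2 hc)
      obtain ⟨e, he, hfe⟩ := hcom k x hx
      refine ⟨e, he ▸ mul_mem (hn.conj_mem x hx k) (inv_mem hx), fun e1 => hne ?_, hfe⟩
      rw [he, mul_inv_eq_one, mul_inv_eq_iff_eq_mul] at e1
      exact e1.symm
    have hone : ∀ e : K, (e : S) ∈ B → f e = 1 → (e : S) = 1 ∨ (e : S) = z' := fun e heB hfe => by
      by_contra hc
      push Not at hc
      exact hbig (card_img_two f h.card heB hc.1 hfe hz'B hz'1 hz'f hc.2)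
    have hmove : ∀ (g : K) (x : S), x ∈ B → (g : S) * x * (g : S)⁻¹ = x ∨ (g : S) * x * (g : S)⁻¹ = x * z' := by
      intro g x hx
      obtain ⟨e, he, hfe⟩ := hcom g x hx
      rcases hone e (he ▸ mul_mem (hn.conj_mem x hx g) (inv_mem hx)) hfe with e1 | e1 <;> rw [he] at e1
      · exact Or.inl (mul_inv_eq_one.1 e1)
      · exact Or.inr (by rw [mul_inv_eq_iff_eq_mul.1 e1, comm_of_sq h.sq hz'B hx])
    have hz'z : (z' : S) = z := by
      by_contra hne
      have hkp : ∀ g : K, (g : S) * p * (g : S)⁻¹ = p := fun g => by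
        rcases hmove g p hp with e | e
        · exact e
        · rcases (hfl g).1 with e' | e'
          · exact e'
          · exact absurd (mul_left_cancel (e.symm.trans e')) hne
      have hnon : ∀ g : K, (g : S) ∉ centralizer (B : Set S) → (g : S) * w * (g : S)⁻¹ = w * z' := fun g hg => by
        refine (hmove g w hw).resolve_left fun e => hg ?_
        have := hrel 1 g (by rw [hkp]; group) (by rw [e]; group)
        rwa [inv_one, one_mul] at this
      exact hkl (hrel _ _ ((hkp k).trans (hkp l).symm) ((hnon k hk).trans (hnon l hl).symm))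
    rw [hz'z] at hmove hone
    clear hz'z hz'B hz'1 hz'f
    -- every code occurs
    have hcode : ∀ α β : S, (α = p ∨ α = p * z) → (β = w ∨ β = w * z) →
        ∃ g : K, (g : S) * p * (g : S)⁻¹ = α ∧ (g : S) * w * (g : S)⁻¹ = β := by
      intro α β hα hβ
      by_contra hc
      push Not at hc
      let cd : K → Bool × Bool := fun g => (decide ((g : S) * p * (g : S)⁻¹ = p), decide ((g : S) * w * (g : S)⁻¹ = w))
      have hinj : ∀ s t : K, cd s = cd t → (s : S)⁻¹ * t ∈ centralizer (B : Set S) := fun s t e => by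
        simp only [cd, Prod.mk.injEq, decide_eq_decide] at e
        refine hrel _ _ ?_ ?_
        · rcases hmove s p hp with e1 | e1
          · rw [e1, e.1.1 e1]
          · rcases hmove t p hp with e2 | e2
            · rw [e.1.2 e2, e2]
            · rw [e1, e2]
        · rcases hmove s w hw with e1 | e1
          · rw [e1, e.2.1 e1]
          · rcases hmove t w hw with e2 | e2
            · rw [e.2.2 e2, e2]
            · rw [e1, e2]
      have h1 : cd 1 ≠ cd k := fun e => hk (by simpa using hinj 1 k e)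
      have h2 : cd 1 ≠ cd l := fun e => hl (by simpa using hinj 1 l e)
      have h3 : cd k ≠ cd l := fun e => hkl (hinj k l e)
      have h4 : ∀ g : K, cd g ≠ (decide (α = p), decide (β = w)) := fun g e => by
        simp only [cd, Prod.mk.injEq, decide_eq_decide] at e
        have e1 : (g : S) * p * (g : S)⁻¹ = α := by
          rcases hmove g p hp with e' | e'
          · rw [e', e.1.1 e']
          · rcases hα with rfl | rfl
            · exact e.1.2 rfl
            · exact e'
        have e2 : (g : S) * w * (g : S)⁻¹ = β := by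
          rcases hmove g w hw with e' | e'
          · rw [e', e.2.1 e']
          · rcases hβ with rfl | rfl
            · exact e.2.2 rfl
            · exact e'
        exact hc g e1 e2
      -- so `k * l` repeats a code
      have hconj2 : ∀ q : S, (k : S) * k * q * ((k : S) * k)⁻¹ = k * (k * q * (k : S)⁻¹) * (k : S)⁻¹ :=
        fun q => by group
      have hkl1 : cd 1 ≠ cd (k * l) := fun e => hkl (by
        have hkk : (k : S) * k ∈ centralizer (B : Set S) := by
          refine mem_centralizer_of_basis h.sq h.card hz hp hw hz1 hp1 hpz hw' (hzc _).symm ?_ ?_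
          all_goals
            refine (mul_inv_eq_iff_eq_mul.1 ?_).symm
            rw [hconj2]
          · rcases hmove k p hp with e | e <;> rw [e]
            · exact e
            · rw [conj_mul', e, ez, mul_assoc, h.sq z hz, mul_one]
          · rcases hmove k w hw with e | e <;> rw [e]
            · exact e
            · rw [conj_mul', e, ez, mul_assoc, h.sq z hz, mul_one]
        have := mul_mem (inv_mem hkk) (hinj 1 (k * l) e)
        simpa [mul_assoc] using this)
      have hkl2 : cd k ≠ cd (k * l) := fun e => hl (by simpa using hinj k (k * l) e)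
      have hkl3 : cd l ≠ cd (k * l) := fun e => hk (by
        have := hinj l (k * l) e
        rw [Subgroup.coe_mul, show (l : S)⁻¹ * (k * l) = (l : S)⁻¹ * k * l⁻¹⁻¹ by group] at this
        have := hn'.conj_mem _ this (l : S)
        simpa [mul_assoc] using this)
      exact five_bool _ _ _ _ _ h1 h2 h3 hkl1 hkl2 hkl3 (h4 1) (h4 k) (h4 l) (h4 (k * l))
    -- `C` lies in `K`
    have hCK : ∀ x ∈ centralizer (B : Set S), x ∈ K := fun x hx => by
      rcases hC2 x hx with hxB | hxB
      · exact hBK hxB
      · by_cases hxB' : x ∈ B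
        · exact hBK hxB'
        · have := mul_mem c0.2 (hBK (h.two_coset hC2 hc0 hx hc0B hxB'))
          rwa [mul_inv_cancel_left] at this
    have hcomC : ∀ (g : K) (x : S), x ∈ centralizer (B : Set S) →
        (g : S) * x * (g : S)⁻¹ * x⁻¹ = 1 ∨ (g : S) * x * (g : S)⁻¹ * x⁻¹ = z := by
      intro g x hx
      have hxK := hCK x hx
      have hmem := hker (g * ⟨x, hxK⟩ * g⁻¹ * ⟨x, hxK⟩⁻¹) (mul_mem (hsc g x hx) (inv_mem hx)) (f_comm f hexp _ _)
      exact hone (g * ⟨x, hxK⟩ * g⁻¹ * ⟨x, hxK⟩⁻¹) hmem (f_comm f hexp _ _)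
    by_cases hap : ∀ e ∈ B, a * e * a = e ∨ a * e * a = e * z
    · -- `a` would act like an element of `K`
      obtain ⟨g, hg1, hg2⟩ := hcode (a * p * a) (a * w * a) (hap p hp) (hap w hw)
      rw [h.conj_a] at hg1 hg2
      have hga := hrel _ _ hg1 hg2
      obtain ⟨q0, q1, f0, hq0, hq1, hf0, hq01, hq11, hq10, -, eq0, eq1, -⟩ := h.shape
      have hpsi : ∀ x ∈ centralizer (B : Set S), psi a x = 1 ∨ psi a x = z := fun x hx => by
        have e : psi a x = (g : S) * x⁻¹ * (g : S)⁻¹ * x⁻¹⁻¹ := by
          have hc : (g : S)⁻¹ * a * x * ((g : S)⁻¹ * a)⁻¹ = x := by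
            rw [h.two_comm hv hC2 hga hx, mul_inv_cancel_right]
          unfold psi
          rw [h.conj_a, show a * x * a⁻¹ = g * ((g : S)⁻¹ * a * x * ((g : S)⁻¹ * a)⁻¹) * (g : S)⁻¹ by group, hc]
          group
        rw [e]
        exact hcomC g x⁻¹ (inv_mem hx)
      obtain ⟨x, hx, hxe, -⟩ := h.fixed_psi hv hvB hpv hq0 (h.comm_iff.2 eq0)
      obtain ⟨x', hx', hxe', -⟩ := h.fixed_psi hv hvB hpv hq1 (h.comm_iff.2 eq1)
      rcases hpsi x hx with e | e <;> rcases hpsi x' hx' with e' | e' <;> rw [hxe] at e <;> rw [hxe'] at e'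
      · exact hq01 e
      · exact hq01 e
      · exact hq11 e'
      · exact hq10 (e'.trans e.symm)
    · -- an element moving `w` by `z` gives a contradiction
      obtain ⟨q0, q1, f0, hq0, hq1, hf0, hq01, hq11, hq10, hf0', eq0, eq1, ef0⟩ := h.shape
      have hP0 : ∀ e ∈ B, a * e * a = e ∨ a * e * a = e * q0 := by
        intro e he
        have hm : ∀ x y : S, a * (x * y) * a = a * x * a * (a * y * a) := fun x y => by
          rw [show a * x * a * (a * y * a) = a * x * (a * a) * y * a by group, h.aa]; group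
        rcases basis h.sq h.card hq0 hq1 hf0 hq01 hq11 hq10 hf0' he with (e1 | e1 | e1 | e1) | (e1 | e1 | e1 | e1) <;>
          rw [e1]
        · exact Or.inl (by rw [mul_one, h.aa])
        · exact Or.inl eq0
        · exact Or.inl eq1
        · exact Or.inl (by rw [hm, eq1, eq0])
        · exact Or.inr ef0
        · exact Or.inr (by rw [hm, ef0, eq0])
        · refine Or.inr ?_
          rw [hm, ef0, eq1, mul_assoc, comm_of_sq h.sq hq0 hq1, ← mul_assoc]
        · refine Or.inr ?_
          rw [hm, hm, ef0, eq1, eq0, mul_assoc f0, comm_of_sq h.sq hq0 (mul_mem hq1 hq0), ← mul_assoc]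
      have hzp : z ≠ q0 := fun e => hap (by rw [e]; exact hP0)
      obtain ⟨F, hF, -, -, hF', eP, eF, hfl'⟩ := h.flag_of_ne hz hz1 hzc hP0 hzp
      have hg : ∃ g : K, (g : S) * q0 * (g : S)⁻¹ = q0 ∧ (g : S) * F * (g : S)⁻¹ = F * z := by
        obtain ⟨g1, a1, b1⟩ := hcode p (w * z) (Or.inl rfl) (Or.inr rfl)
        obtain ⟨g2, a2, b2⟩ := hcode (p * z) w (Or.inr rfl) (Or.inl rfl)
        obtain ⟨g3, a3, b3⟩ := hcode (p * z) (w * z) (Or.inr rfl) (Or.inr rfl)
        have n1 : (g1 : S) ∉ centralizer (B : Set S) := fun e => hz1 (mul_eq_left.1 (b1.symm.trans (h.conj_B e hw)))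
        have n2 : (g2 : S) ∉ centralizer (B : Set S) := fun e => hz1 (mul_eq_left.1 (a2.symm.trans (h.conj_B e hp)))
        have n3 : (g3 : S) ∉ centralizer (B : Set S) := fun e => hz1 (mul_eq_left.1 (a3.symm.trans (h.conj_B e hp)))
        have n12 : (g1 : S)⁻¹ * g2 ∉ centralizer (B : Set S) := fun e => hz1 (mul_eq_left.1 (by
          have := h.conj_B e hp
          rw [show (g1 : S)⁻¹ * g2 * p * ((g1 : S)⁻¹ * g2)⁻¹ = (g1 : S)⁻¹ * (g2 * p * (g2 : S)⁻¹) * g1 by group, a2] at this
          calc p * z = g1 * ((g1 : S)⁻¹ * (p * z) * g1) * (g1 : S)⁻¹ := by group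
            _ = p := by rw [this, a1]))
        -- one of them fixes `q0` and moves `F`
        have hdet : ∀ g : K, (g : S) ∉ centralizer (B : Set S) → (g : S) * q0 * (g : S)⁻¹ = q0 →
            (g : S) * F * (g : S)⁻¹ = F * z := fun g hgC e => by
          rcases hmove g F hF with e' | e'
          · exact absurd (mem_centralizer_of_basis h.sq h.card hz hq0 hF hz1 hq01 (Ne.symm hzp) hF' (hzc _).symm
              (mul_inv_eq_iff_eq_mul.1 e).symm (mul_inv_eq_iff_eq_mul.1 e').symm) hgC
          · exact e'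
        by_cases e1 : (g1 : S) * q0 * (g1 : S)⁻¹ = q0
        · exact ⟨g1, e1, hdet g1 n1 e1⟩
        by_cases e2 : (g2 : S) * q0 * (g2 : S)⁻¹ = q0
        · exact ⟨g2, e2, hdet g2 n2 e2⟩
        refine ⟨g1⁻¹ * g2, ?_, hdet _ n12 ?_⟩ <;>
        · have e1' := (hmove g1 q0 hq0).resolve_left e1
          have e2' := (hmove g2 q0 hq0).resolve_left e2
          rw [Subgroup.coe_mul, Subgroup.coe_inv,
            show (g1 : S)⁻¹ * g2 * q0 * ((g1 : S)⁻¹ * g2)⁻¹ = (g1 : S)⁻¹ * (g2 * q0 * (g2 : S)⁻¹) * g1 by group, e2',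
            ← e1']
          group
      obtain ⟨g, hgp, hgF⟩ := hg
      have hhp : ∃ m : K, (m : S) * q0 * (m : S)⁻¹ = q0 * z := by
        by_contra hc
        push Not at hc
        have hfix : ∀ m : K, (m : S) * q0 * (m : S)⁻¹ = q0 := fun m => (hmove m q0 hq0).resolve_right (hc m)
        have hF2 : ∀ m : K, (m : S) ∉ centralizer (B : Set S) → (m : S) * F * (m : S)⁻¹ = F * z := fun m hm =>
          (hmove m F hF).resolve_left fun e' => hm (mem_centralizer_of_basis h.sq h.card hz hq0 hF hz1 hq01
            (Ne.symm hzp) hF' (hzc _).symm (mul_inv_eq_iff_eq_mul.1 (hfix m)).symm (mul_inv_eq_iff_eq_mul.1 e').symm)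
        refine hkl (mem_centralizer_of_basis h.sq h.card hz hq0 hF hz1 hq01 (Ne.symm hzp) hF' (hzc _).symm ?_ ?_)
        · calc q0 * ((k : S)⁻¹ * l) = (k : S)⁻¹ * (k * q0 * (k : S)⁻¹) * l := by group
            _ = (k : S)⁻¹ * (l * q0 * (l : S)⁻¹) * l := by rw [hfix k, hfix l]
            _ = (k : S)⁻¹ * l * q0 := by group
        · calc F * ((k : S)⁻¹ * l) = (k : S)⁻¹ * (k * F * (k : S)⁻¹) * l := by group
            _ = (k : S)⁻¹ * (l * F * (l : S)⁻¹) * l := by rw [hF2 k hk, hF2 l hl]
            _ = (k : S)⁻¹ * l * F := by group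
      obtain ⟨m, hmp⟩ := hhp
      have hFxg : Fx B a g := by
        intro e he hfxe
        rcases h.fixed_cases hq0 hz hF hq01 hz1 hzp ⟨hF'.1, hF'.2.2.1, hF'.2.1, by
            rw [comm_of_sq h.sq hz hq0]; exact hF'.2.2.2⟩ eP (h.comm_iff.1 (hzc a)) eF he hfxe
          with rfl | rfl | rfl | rfl
        · simp
        · exact mul_inv_eq_iff_eq_mul.1 hgp
        · exact hzc _
        · exact (Commute.mul_right (hzc _) (mul_inv_eq_iff_eq_mul.1 hgp : Commute (g : S) q0)).eq
      have hgC : (g : S) ∉ centralizer (B : Set S) := fun e => hz1 (mul_eq_left.1 (hgF.symm.trans (h.conj_B e hF)))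
      have hagC : a * (g : S) ∉ centralizer (B : Set S) := fun e => by
        have := h.conj_B e hF
        rw [show a * (g : S) * F * (a * g)⁻¹ = a * (g * F * (g : S)⁻¹) * a⁻¹ by group, hgF, h.ai,
          show a * (F * z) * a = a * F * (a * a) * z * a by rw [h.aa]; group,
          show a * F * (a * a) * z * a = a * F * a * (a * z * a) by group, eF, h.comm_iff.1 (hzc a), mul_assoc,
          mul_eq_left] at this
        exact hzp (by rw [← one_mul z, ← h.sq q0 hq0, mul_assoc, this, mul_one])
      refine h.not_sq_one hv hvB hpv hFxg hgC hagC ?_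
      set ω := obst a (g : S) with hω
      have hωC : ω ∈ centralizer (B : Set S) := h.obst_mem hFxg
      by_cases hωB : ω ∈ B
      · exact h.sq ω hωB
      have hconj2 : ∀ q : S, (g : S) * g * q * ((g : S) * g)⁻¹ = g * (g * q * (g : S)⁻¹) * (g : S)⁻¹ :=
        fun q => by group
      have hg2C : (g : S) * g ∈ centralizer (B : Set S) := by
        refine mem_centralizer_of_basis h.sq h.card hz hq0 hF hz1 hq01 (Ne.symm hzp) hF' (hzc _).symm ?_ ?_
        all_goals
          refine (mul_inv_eq_iff_eq_mul.1 ?_).symm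
          rw [hconj2]
        · rw [hgp, hgp]
        · rw [hgF, conj_mul', hgF, ez, mul_assoc, h.sq z hz, mul_one]
      have hg2 := hone (g * g) (hker (g * g) hg2C (f_sq f hexp g)) (f_sq f hexp g)
      have hg2a : a * ((g : S) * g) * a = g * g := by
        rcases hg2 with e | e <;> rw [show ((g : S) * g) = _ from e]
        · rw [mul_one, h.aa]
        · exact h.comm_iff.1 (hzc a)
      have hgw : (g : S) * ω * (g : S)⁻¹ = ω := by
        -- `g` acts on `C` as a commutator of `a` and `m`
        have hainv : a * ω * a = ω⁻¹ := h.obst_inverted _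
        set c := a * (m : S) * a * (m : S)⁻¹ with hc
        have cB : ∀ x : S, c * x * c⁻¹ = a * (m * (a * ((m : S)⁻¹ * x * m) * a) * (m : S)⁻¹) * a := fun x => by
          rw [hc, mul_inv_rev, mul_inv_rev, mul_inv_rev, inv_inv, h.ai]; group
        have hm' : ∀ (x δ : S), (m : S) * x * (m : S)⁻¹ = x * δ → (δ = 1 ∨ δ = z) → (m : S)⁻¹ * x * m = x * δ := by
          intro x δ e hδ
          have eδ : (m : S)⁻¹ * δ * m = δ := by
            rcases hδ with rfl | rfl
            · group
            · rw [mul_assoc, ← hzc, inv_mul_cancel_left]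
          have eδ2 : δ * δ = 1 := by
            rcases hδ with rfl | rfl
            · exact one_mul 1
            · exact h.sq _ hz
          calc (m : S)⁻¹ * x * m = (m : S)⁻¹ * (m * x * (m : S)⁻¹ * δ) * m := by rw [e, mul_assoc x, eδ2, mul_one]
            _ = x * ((m : S)⁻¹ * δ * m) := by group
            _ = x * δ := by rw [eδ]
        have hm2 : ∀ x y : S, a * (x * y) * a = a * x * a * (a * y * a) := fun x y => by
          rw [show a * x * a * (a * y * a) = a * x * (a * a) * y * a by group, h.aa]; group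
        have eaz : a * z * a = z := h.comm_iff.1 (hzc a)
        obtain ⟨δ, hδ, hmω⟩ : ∃ δ, (δ = 1 ∨ δ = z) ∧ (m : S) * ω * (m : S)⁻¹ = ω * δ :=
          ⟨_, hcomC m ω hωC, by
            have hδB : (m : S) * ω * (m : S)⁻¹ * ω⁻¹ ∈ B := by
              rcases hcomC m ω hωC with e | e <;> rw [e]
              exacts [one_mem _, hz]
            rw [h.cB hωC hδB, inv_mul_cancel_right]⟩
        have hδ' : a * δ * a = δ ∧ (m : S) * δ * (m : S)⁻¹ = δ ∧ δ * δ = 1 := by
          rcases hδ with rfl | rfl
          · exact ⟨by rw [mul_one, h.aa], by group, one_mul 1⟩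
          · exact ⟨eaz, ez _, h.sq _ hz⟩
        have hmωi : (m : S) * ω⁻¹ * (m : S)⁻¹ = ω⁻¹ * δ := by
          rw [show (m : S) * ω⁻¹ * (m : S)⁻¹ = ((m : S) * ω * (m : S)⁻¹)⁻¹ by group, hmω, mul_inv_rev,
            inv_eq_of_mul_eq_one_right hδ'.2.2]
          have hδB : δ ∈ B := by
            rcases hδ with rfl | rfl
            exacts [one_mem _, hz]
          exact (h.cB (inv_mem hωC) hδB).symm
        have cω : c * ω * c⁻¹ = ω := by
          rw [cB, hm' ω δ hmω hδ, hm2 ω δ, hainv, hδ'.1, conj_mul', hmωi, hδ'.2.1, mul_assoc ω⁻¹ δ δ, hδ'.2.2, mul_one,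
            show a * ω⁻¹ * a = (a⁻¹ * ω * a⁻¹)⁻¹ by group, h.ai, hainv, inv_inv]
        have cq : c * q0 * c⁻¹ = q0 := by
          rw [cB, hm' q0 z hmp (Or.inr rfl), hm2 q0 z, eP, eaz, conj_mul', hmp, ez, mul_assoc q0 z z, h.sq z hz, mul_one, eP]
        have cF : c * F * c⁻¹ = F * z := by
          obtain ⟨ε, hε, hmF⟩ : ∃ ε, (ε = 1 ∨ ε = z) ∧ (m : S) * F * (m : S)⁻¹ = F * ε := by
            rcases hmove m F hF with e | e
            · exact ⟨1, Or.inl rfl, by rw [mul_one]; exact e⟩
            · exact ⟨z, Or.inr rfl, e⟩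
          have hε' : a * ε * a = ε ∧ (m : S) * ε * (m : S)⁻¹ = ε ∧ ε * ε = 1 ∧ ε ∈ B := by
            rcases hε with rfl | rfl
            · exact ⟨by rw [mul_one, h.aa], by group, one_mul 1, one_mem _⟩
            · exact ⟨eaz, ez _, h.sq _ hz, hz⟩
          rw [cB, hm' F ε hmF hε, hm2 F ε, eF, hε'.1, conj_mul', conj_mul', hmF, hmp, hε'.2.1,
            show F * ε * (q0 * z) * ε = F * (ε * (q0 * z) * ε) by group,
            comm_of_sq h.sq hε'.2.2.2 (mul_mem hq0 hz), mul_assoc (q0 * z), hε'.2.2.1, mul_one, hm2 F (q0 * z), hm2 q0 z, eF, eP, eaz,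
            mul_assoc, ← mul_assoc q0, h.sq q0 hq0, one_mul]
        have hcg : c⁻¹ * g ∈ centralizer (B : Set S) := by
          refine mem_centralizer_of_basis h.sq h.card hz hq0 hF hz1 hq01 (Ne.symm hzp) hF' (hzc _).symm ?_ ?_
          · calc q0 * (c⁻¹ * g) = c⁻¹ * (c * q0 * c⁻¹) * g := by group
              _ = c⁻¹ * (g * q0 * (g : S)⁻¹) * g := by rw [cq, hgp]
              _ = c⁻¹ * g * q0 := by group
          · calc F * (c⁻¹ * g) = c⁻¹ * (c * F * c⁻¹) * g := by group
              _ = c⁻¹ * (g * F * (g : S)⁻¹) * g := by rw [cF, hgF]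
              _ = c⁻¹ * g * F := by group
        calc (g : S) * ω * (g : S)⁻¹ = c * (c⁻¹ * g * ω * (c⁻¹ * g)⁻¹) * c⁻¹ := by group
          _ = ω := by rw [h.two_comm hv hC2 hcg hωC, mul_inv_cancel_right, cω]
      calc ω * ω = ω * (g * ω * (g : S)⁻¹) := by rw [hgw]
        _ = a * ((g : S) * g) * a * ((g : S) * g)⁻¹ := by
          rw [hω]; unfold obst
          rw [show a * (g : S) * a * (g : S)⁻¹ * (g * (a * g * a * (g : S)⁻¹) * (g : S)⁻¹) =
            a * g * (a * a) * g * a * ((g : S)⁻¹ * (g : S)⁻¹) by group, h.aa]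
          group
        _ = 1 := by rw [hg2a, mul_inv_cancel]
  · -- `K ∩ B` a four-group fixed by `K`
    have hnok : ∀ e : K, (e : S) ∈ B → f e = 1 → (e : S) = 1 := fun e heB hfe => by
      by_contra hne
      exact hbig ((card_img_one f h.card heB hne hfe).2 hBK)
    have hfixK : ∀ (g : K) (x : K), (x : S) ∈ centralizer (B : Set S) → (g : S) * x = x * g := by
      intro g x hx
      have := hnok (g * x * g⁻¹ * x⁻¹) (hker _ (mul_mem (hsc g x hx) (inv_mem hx)) (f_comm f hexp _ _)) (f_comm f hexp _ _)
      rw [Subgroup.coe_mul, Subgroup.coe_mul, Subgroup.coe_mul, Subgroup.coe_inv, Subgroup.coe_inv, mul_inv_eq_one,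
        mul_inv_eq_iff_eq_mul] at this
      exact this
    have hc02 : (c0 : S) * c0 = 1 := hnok (c0 * c0) (hker _ (mul_mem hc0 hc0) (f_sq f hexp _)) (f_sq f hexp _)
    have hPK : Nat.card ↥(B ⊓ K) = 4 := by
      have h1 := card_inf_le_four h.card hBK
      have h2 := card_img_le f B
      have hd : Nat.card ↥(B ⊓ K) ∣ 8 := h.card ▸ Subgroup.card_dvd_of_le inf_le_left
      generalize Nat.card ↥(B ⊓ K) = n at *
      interval_cases n <;> omega
    have hcoords : ∀ x ∈ B ⊓ K, x = 1 ∨ x = z ∨ x = p ∨ x = p * z := by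
      -- otherwise the elements of `K` are determined by their action on `p`
      intro x hx
      rcases basis h.sq h.card hz hp hw hz1 hp1 hpz hw' hx.1 with e | e
      · exact e
      · exfalso
        have hxg : ∀ g : K, (g : S) * x * (g : S)⁻¹ = x := fun g => by
          rw [hfixK g ⟨x, hx.2⟩ (le_centralizer h.sq hx.1), mul_inv_cancel_right]
        have hx' : x ≠ 1 ∧ x ≠ z ∧ x ≠ p ∧ x ≠ p * z := by
          obtain ⟨u1, u2, u3, u4⟩ := hw'
          have c' : ∀ {x y : S}, x ∈ B → y ∈ B → x * y = y * x := comm_of_sq h.sq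
          have inv' : ∀ {u v : S}, v ∈ B → u * v = x → u = x * v := fun {u v} hv' e => by
            rw [← e, mul_assoc, h.sq v hv', mul_one]
          have hpzB := mul_mem hp hz
          rcases e with e | e | e | e <;> subst e <;>
            refine ⟨fun e' => ?_, fun e' => ?_, fun e' => ?_, fun e' => ?_⟩
          · exact u1 e'
          · exact u2 e'
          · exact u3 e'
          · exact u4 e'
          · exact u2 ((mul_eq_one_iff_eq_inv.1 e').trans (h.sqinv hz))
          · exact u1 (mul_eq_right.1 e')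
          · exact u4 (by rw [← e', mul_assoc, h.sq z hz, mul_one])
          · exact u3 (mul_right_cancel e')
          · exact u3 ((mul_eq_one_iff_eq_inv.1 e').trans (h.sqinv hp))
          · exact u4 (by rw [c' hp hz, ← e', mul_assoc, h.sq p hp, mul_one])
          · exact u1 (mul_eq_right.1 e')
          · exact u2 (mul_right_cancel (e'.trans (c' hp hz)))
          · exact u4 ((mul_eq_one_iff_eq_inv.1 e').trans (h.sqinv hpzB))
          · exact u3 (mul_right_cancel (show w * (p * z) = p * (p * z) by rw [e', ← mul_assoc, h.sq p hp, one_mul]))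
          · exact u2 (mul_right_cancel (show w * (p * z) = z * (p * z) by
              rw [e', c' hp hz, ← mul_assoc, h.sq z hz, one_mul]))
          · exact u1 (mul_eq_right.1 e')
        have hrel' : ∀ s t : K, (s : S) * p * (s : S)⁻¹ = t * p * (t : S)⁻¹ →
            (s : S)⁻¹ * t ∈ centralizer (B : Set S) := fun s t e1 => by
          refine mem_centralizer_of_basis h.sq h.card hz hp hx.1 hz1 hp1 hpz hx' (hzc _).symm ?_ ?_
          · calc p * ((s : S)⁻¹ * t) = (s : S)⁻¹ * (s * p * (s : S)⁻¹) * t := by group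
              _ = (s : S)⁻¹ * t * p := by rw [e1]; group
          · calc x * ((s : S)⁻¹ * t) = (s : S)⁻¹ * (s * x * (s : S)⁻¹) * t := by group
              _ = (s : S)⁻¹ * (t * x * (t : S)⁻¹) * t := by rw [hxg, hxg]
              _ = (s : S)⁻¹ * t * x := by group
        have hmv : ∀ g : K, (g : S) ∉ centralizer (B : Set S) → (g : S) * p * (g : S)⁻¹ = p * z := fun g hg =>
          (hfl g).1.resolve_left fun e' => hg (by simpa using hrel' 1 g (by rw [e']; simp))
        exact hkl (hrel' k l ((hmv k hk).trans (hmv l hl).symm))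
    have hPmem : z ∈ K ∧ p ∈ K := by
      haveI : Fintype ↥(B ⊓ K) := Fintype.ofFinite _
      have hsub : (Finset.univ : Finset ↥(B ⊓ K)).map (Function.Embedding.subtype _) ⊆ ({1, z, p, p * z} : Finset S) := by
        intro x hx
        obtain ⟨y, -, rfl⟩ := Finset.mem_map.1 hx
        simpa using hcoords y.1 y.2
      have heq := Finset.eq_of_subset_of_card_le hsub (by
        rw [Finset.card_map, Finset.card_univ, ← Nat.card_eq_fintype_card, hPK]
        exact Finset.card_le_four)
      have hin : ∀ y ∈ ({1, z, p, p * z} : Finset S), y ∈ K := fun y hy => by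
        rw [← heq] at hy
        obtain ⟨y', -, rfl⟩ := Finset.mem_map.1 hy
        exact y'.2.2
      exact ⟨hin z (by simp), hin p (by simp)⟩
    have hKp : ∀ g : K, (g : S) * p = p * g := fun g => hfixK g ⟨p, hPmem.2⟩ (le_centralizer h.sq hp)
    have hdet : ∀ g : K, (g : S) ∉ centralizer (B : Set S) → (g : S) * w * (g : S)⁻¹ ≠ w := fun g hg e =>
      hg (mem_centralizer_of_basis h.sq h.card hz hp hw hz1 hp1 hpz hw' (hzc _).symm (hKp g).symm
        (mul_inv_eq_iff_eq_mul.1 e).symm)
    have hKw : ∀ g : K, ∀ x ∈ B, (g : S) ∉ centralizer (B : Set S) → (g : S) * x = x * g →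
        x = 1 ∨ x = z ∨ x = p ∨ x = p * z := fun g x hx hg e => by
      rcases basis h.sq h.card hz hp hw hz1 hp1 hpz hw' hx with e' | e'
      · exact e'
      · exfalso
        refine hdet g hg ?_
        obtain ⟨q, hq, hq1, rfl⟩ : ∃ q, (g : S) * q * (g : S)⁻¹ = q ∧ q * q = 1 ∧ x = w * q := by
          rcases e' with e' | e' | e' | e'
          · exact ⟨1, by group, one_mul 1, by rw [mul_one]; exact e'⟩
          · exact ⟨z, ez _, h.sq z hz, e'⟩
          · exact ⟨p, by rw [hKp, mul_inv_cancel_right], h.sq p hp, e'⟩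
          · exact ⟨p * z, by rw [conj_mul', hKp, mul_inv_cancel_right, ez], h.sq _ (mul_mem hp hz), e'⟩
        have : (g : S) * (w * q) * (g : S)⁻¹ = w * q := by rw [e, mul_inv_cancel_right]
        rw [conj_mul', hq, mul_left_inj] at this
        exact this
    have eaz : a * z * a = z := h.comm_iff.1 (hzc a)
    have hm2 : ∀ x y : S, a * (x * y) * a = a * x * a * (a * y * a) := fun x y => by
      rw [show a * x * a * (a * y * a) = a * x * (a * a) * y * a by group, h.aa]; group
    have hap : a * p * a = p := by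
      obtain ⟨ea, -⟩ := hfl a
      rw [← h.conj_a] at ea
      refine ea.resolve_right fun e => ?_
      -- `a k a` acts trivially on `⟨z, p, c₀⟩`
      set μ := psi a (c0 : S) with hμ
      have hμB : μ ∈ B := by
        have hnB : a * (c0 : S) * a ∉ B := fun e' => hc0B (by
          have := h.aB e'
          rwa [show a * (a * (c0 : S) * a) * a = a * a * c0 * (a * a) by group, h.aa, one_mul, mul_one] at this)
        exact h.two_coset hC2 (h.aC hc0) hc0 hnB hc0B
      have hci : (c0 : S)⁻¹ = c0 := inv_eq_of_mul_eq_one_right hc02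
      have hac : a * (c0 : S) * a = c0 * μ := by
        have : a * (c0 : S) * a = c0 * μ⁻¹ := by rw [hμ]; unfold psi; group
        rwa [h.sqinv hμB] at this
      obtain ⟨t, ht, htm⟩ : ∃ t : K, (t : S) ∉ centralizer (B : Set S) ∧ (t : S) * (a * (c0 : S) * a) =
          a * (c0 : S) * a * t := by
        -- pick `t` with the same action as some `a g a`
        have hconj : ∀ g : K, a * (g : S) * a * p * (a * (g : S) * a)⁻¹ = p := fun g => by
          rw [mul_inv_rev, mul_inv_rev, h.ai,
            show a * (g : S) * a * p * (a * ((g : S)⁻¹ * a)) = a * (g * (a * p * a) * (g : S)⁻¹) * a by group, e,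
            conj_mul', hKp, mul_inv_cancel_right, ez, hm2, e, eaz, mul_assoc, h.sq z hz, mul_one]
        have hnC : ∀ g : K, (g : S) ∉ centralizer (B : Set S) → a * (g : S) * a ∉ centralizer (B : Set S) :=
          fun g hg e' => hg (by
            have := h.aC e'
            rwa [show a * (a * (g : S) * a) * a = a * a * g * (a * a) by group, h.aa, one_mul, mul_one] at this)
        have hklC : ∀ g : K, (g : S) ∉ centralizer (B : Set S) → ∃ g' : K, (g' : S)⁻¹ * (a * g * a) ∈ centralizer (B : Set S) := by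
          intro g hg
          by_contra hc
          push Not at hc
          let cd : S → Bool × Bool := fun s => (decide (s * w * s⁻¹ = w ∨ s * w * s⁻¹ = w * z),
            decide (s * w * s⁻¹ = w ∨ s * w * s⁻¹ = w * p))
          have hinj : ∀ s t : S, s * p * s⁻¹ = p → t * p * t⁻¹ = p → cd s = cd t →
              s⁻¹ * t ∈ centralizer (B : Set S) := fun s t hs ht e1 => by
            refine hrel s t (hs.trans ht.symm) ?_
            simp only [cd, Prod.mk.injEq, decide_eq_decide] at e1
            have d1 : w * z ≠ w := fun h => hz1 (mul_eq_left.1 h)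
            have d2 : w * p ≠ w := fun h => hp1 (mul_eq_left.1 h)
            have hne : p * z ≠ 1 := fun h' => hpz (by rw [← mul_one p, ← h.sq z hz, ← mul_assoc, h', one_mul])
            have d3 : w * (p * z) ≠ w := fun h => hne (mul_eq_left.1 h)
            have d4 : w * z ≠ w * p := fun h => hpz (mul_left_cancel h).symm
            have d5 : w * z ≠ w * (p * z) := fun h => hp1 (mul_eq_right.1 (mul_left_cancel h).symm)
            have d6 : w * p ≠ w * (p * z) := fun h => hz1 (mul_eq_left.1 (mul_left_cancel h).symm)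
            rcases (hfl s).2 with a1 | a1 | a1 | a1 <;> rcases (hfl t).2 with b1 | b1 | b1 | b1 <;>
              rw [a1, b1] at e1 ⊢
            all_goals simp [d1, d2, d3, d4, d5, d6, d1.symm, d2.symm, d3.symm, d4.symm, d5.symm, d6.symm] at e1
          have hKp' : ∀ t : K, (t : S) * p * (t : S)⁻¹ = p := fun t => by rw [hKp, mul_inv_cancel_right]
          have h1 : cd ((1 : K) : S) ≠ cd k := fun e1 => hk (by simpa using hinj _ _ (hKp' 1) (hKp' k) e1)
          have h2 : cd ((1 : K) : S) ≠ cd l := fun e1 => hl (by simpa using hinj _ _ (hKp' 1) (hKp' l) e1)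
          have h3 : cd k ≠ cd l := fun e1 => hkl (hinj _ _ (hKp' k) (hKp' l) e1)
          have hkk : (k : S) * k ∈ centralizer (B : Set S) := by
            refine mem_centralizer_of_basis h.sq h.card hz hp hw hz1 hp1 hpz hw' (hzc _).symm ?_ ?_
            · exact ((Commute.mul_left (hKp k : Commute (k : S) p) (hKp k)).eq).symm
            · refine (mul_inv_eq_iff_eq_mul.1 ?_).symm
              rw [show (k : S) * k * w * ((k : S) * k)⁻¹ = k * (k * w * (k : S)⁻¹) * (k : S)⁻¹ by group]
              rcases (hfl k).2 with e' | e' | e' | e' <;> rw [e']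
              · exact e'
              · rw [conj_mul', e', ez, mul_assoc, h.sq z hz, mul_one]
              · rw [conj_mul', e', hKp' k, mul_assoc, h.sq p hp, mul_one]
              · rw [conj_mul', e', conj_mul', hKp' k, ez, mul_assoc, h.sq _ (mul_mem hp hz), mul_one]
          have hkl1 : cd ((1 : K) : S) ≠ cd ((k * l : K) : S) := fun e1 => hkl (by
            have := mul_mem (inv_mem hkk) (hinj _ _ (hKp' 1) (hKp' (k * l)) e1)
            simpa [mul_assoc] using this)
          have hkl2 : cd k ≠ cd ((k * l : K) : S) := fun e1 => hl (by simpa using hinj _ _ (hKp' k) (hKp' (k * l)) e1)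
          have hkl3 : cd l ≠ cd ((k * l : K) : S) := fun e1 => hk (by
            have := hinj _ _ (hKp' l) (hKp' (k * l)) e1
            rw [Subgroup.coe_mul, show (l : S)⁻¹ * (k * l) = (l : S)⁻¹ * k * l⁻¹⁻¹ by group] at this
            have := hn'.conj_mem _ this (l : S)
            simpa [mul_assoc] using this)
          exact five_bool _ _ _ _ _ h1 h2 h3 hkl1 hkl2 hkl3 (fun e1 => hc 1 (hinj _ _ (hKp' 1) (hconj g) e1))
            (fun e1 => hc k (hinj _ _ (hKp' k) (hconj g) e1)) (fun e1 => hc l (hinj _ _ (hKp' l) (hconj g) e1))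
            (fun e1 => hc (k * l) (hinj _ _ (hKp' (k * l)) (hconj g) e1))
        obtain ⟨g', hg'⟩ := hklC k hk
        refine ⟨g', fun e' => hnC k hk (by simpa using mul_mem e' hg'), ?_⟩
        have hgx : (a * (k : S) * a) * (a * (c0 : S) * a) = a * (c0 : S) * a * (a * k * a) := by
          rw [show (a * (k : S) * a) * (a * (c0 : S) * a) = a * k * (a * a) * c0 * a by group,
            show a * (c0 : S) * a * (a * k * a) = a * c0 * (a * a) * k * a by group, h.aa, mul_one, mul_one,
            mul_assoc a, hfixK k c0 hc0, ← mul_assoc]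
        have hcm := h.two_comm hv hC2 hg' (h.aC hc0)
        have hinvc : (a * (k : S) * a)⁻¹ * (a * (c0 : S) * a) = a * (c0 : S) * a * (a * k * a)⁻¹ :=
          ((Commute.inv_left (hgx : Commute (a * (k : S) * a) (a * (c0 : S) * a)))).eq
        calc (g' : S) * (a * (c0 : S) * a) = (a * k * a) * (((g' : S)⁻¹ * (a * k * a))⁻¹ * (a * c0 * a)) := by group
          _ = (a * k * a) * (a * c0 * a * ((g' : S)⁻¹ * (a * k * a))⁻¹) := by
            rw [(Commute.inv_left (hcm : Commute _ _)).eq]
          _ = (a * k * a) * (a * c0 * a) * (a * k * a)⁻¹ * g' := by group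
          _ = a * (c0 : S) * a * g' := by rw [hgx, mul_inv_cancel_right]
      have htμ : (t : S) * μ = μ * t := by
        rw [hac] at htm
        rw [← mul_assoc, hfixK t c0 hc0, mul_assoc, mul_assoc (c0 : S)] at htm
        exact mul_left_cancel htm
      have hafix : a * μ * a = μ := by
        have := h.psi_inverted (c0 : S)
        rwa [← hμ, h.sqinv hμB] at this
      rcases hKw t μ hμB ht htμ with e1 | e1 | e1 | e1
      · exact hc0B (h.fix _ hc0 (h.comm_iff.2 (by rw [hac, e1, mul_one])))
      · refine hc0B ?_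
        have := h.fix _ (mul_mem hc0 (le_centralizer h.sq hp)) (h.comm_iff.2 (by
          rw [hm2, hac, e1, e, comm_of_sq h.sq hp hz, show (c0 : S) * z * (z * p) = c0 * (z * z) * p by group,
            h.sq z hz, mul_one]))
        have := mul_mem this hp
        rwa [mul_assoc, h.sq p hp, mul_one] at this
      · rw [e1, e] at hafix
        exact hz1 (mul_eq_left.1 hafix)
      · rw [e1, hm2, e, eaz, mul_assoc, h.sq z hz, mul_one] at hafix
        exact hz1 (mul_eq_left.1 hafix.symm)
    have hFx : ∀ g : K, Fx B a g := fun g e he hfxe => by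
      have hwa : a * w * a ≠ w := fun e' => h.na (mem_centralizer_of_basis h.sq h.card hz hp hw hz1 hp1 hpz hw'
        (h.comm_iff.2 eaz).symm (h.comm_iff.2 hap).symm (h.comm_iff.2 e').symm)
      rcases basis h.sq h.card hz hp hw hz1 hp1 hpz hw' he with hc | hc
      · rcases hc with rfl | rfl | rfl | rfl
        · simp
        · exact hzc _
        · exact hKp g
        · exact (Commute.mul_right (hKp g : Commute (g : S) p) (hzc _)).eq
      · exfalso
        refine hwa ?_
        obtain ⟨q, hq, rfl⟩ : ∃ q, a * q * a = q ∧ e = w * q := by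
          rcases hc with hc | hc | hc | hc
          · exact ⟨1, by rw [mul_one, h.aa], by rw [mul_one]; exact hc⟩
          · exact ⟨z, eaz, hc⟩
          · exact ⟨p, hap, hc⟩
          · exact ⟨p * z, by rw [hm2, hap, eaz], hc⟩
        have := h.comm_iff.1 hfxe
        rw [hm2, hq, mul_left_inj] at this
        exact this
    have hall : ∀ x ∈ centralizer (B : Set S), x * x = 1 := fun x hx => by
      by_cases hxB : x ∈ B
      · exact h.sq x hxB
      · have hd := h.two_coset hC2 hc0 hx hc0B hxB
        obtain ⟨d, hd', rfl⟩ : ∃ d ∈ B, x = c0 * d := ⟨_, hd, (mul_inv_cancel_left _ _).symm⟩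
        rw [Commute.mul_mul_mul_comm (h.cB hc0 hd' : Commute (c0 : S) d).symm, hc02, h.sq _ hd', one_mul]
    by_cases hak : a * (k : S) ∈ centralizer (B : Set S)
    · have hal : a * (l : S) ∉ centralizer (B : Set S) := fun e => hkl (by
        have := mul_mem (inv_mem hak) e
        rwa [mul_inv_rev, mul_assoc, inv_mul_cancel_left] at this)
      exact h.not_sq_one hv hvB hpv (hFx l) hl hal (hall _ (h.obst_mem (hFx l)))
    · exact h.not_sq_one hv hvB hpv (hFx k) hk hak (hall _ (h.obst_mem (hFx k)))

end Setup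

end CfsgLib.SelfEight
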