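/-
The case of `C / B` a four-group.
-/
import Cfsg.Agent.Lib.SelfEight.Two

set_option autoImplicit false

namespace CfsgLib.SelfEight

open Subgroup

universe u v

namespace Setup

variable {S : Type u} [Group S] [Finite S] {B : Subgroup S} {a : S} (h : Setup B a)
include h

omit [Finite S] in
theorem hom_a (x y : S) : a * (x * y) * a = a * x * a * (a * y * a) := by
  rw [show a * x * a * (a * y * a) = a * x * (a * a) * y * a by group, h.aa]; group

/-- The commutator of `a` on `B`. -/
theorem exists_comm : ∃ p f, p ∈ B ∧ f ∈ B ∧ p ≠ 1 ∧ a * p * a = p ∧ a * f * a = f * p ∧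
    ∀ e ∈ B, a * e * a = e ∨ a * e * a = e * p := by
  obtain ⟨p, q, f, hp, hq, hf, hp1, hq1, hqp, hf', ep, eq', ef⟩ := h.shape
  refine ⟨p, f, hp, hf, hp1, ep, ef, fun e he => ?_⟩
  rcases basis h.sq h.card hp hq hf hp1 hq1 hqp hf' he with (c | c | c | c) | (c | c | c | c) <;> rw [c]
  · exact Or.inl (by rw [mul_one, h.aa])
  · exact Or.inl ep
  · exact Or.inl eq'
  · exact Or.inl (by rw [h.hom_a, eq', ep])
  · exact Or.inr ef
  · exact Or.inr (by rw [h.hom_a, ef, ep])
  · refine Or.inr ?_
    rw [h.hom_a, ef, eq', mul_assoc, comm_of_sq h.sq hp hq, ← mul_assoc]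
  · refine Or.inr ?_
    rw [h.hom_a, h.hom_a, ef, eq', ep, mul_assoc f, comm_of_sq h.sq hp (mul_mem hq hp), ← mul_assoc]

variable {K : Subgroup S} {V : Type v} [Group V] [Finite V] (f : K →* V) (hexp : ∀ v : V, v * v = 1)
  {v y : S} (hel : ∀ c ∈ centralizer (B : Set S), c * c ∈ B)
  (hv : v ∈ centralizer (B : Set S)) (hvB : v ∉ B) (hpv : psi a v ∈ B)
  (hy : y ∈ centralizer (B : Set S)) (hyB : y ∉ B) (hyv : v⁻¹ * y ∉ B)

include hexp hel hv hvB hpv hy hyB hyv in
theorem four_bound (hf : Function.Surjective f) : Nat.card V ≤ 16 := by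
  classical
  have hn := h.normal
  have hn' := h.C_normal
  have hm := h.hom_a
  have hcomB : ∀ c ∈ centralizer (B : Set S), ∀ d ∈ centralizer (B : Set S), c * d * c⁻¹ * d⁻¹ ∈ B := by
    intro c hc d hd
    rw [show c * d * c⁻¹ * d⁻¹ = c * d * (c * d) * (d⁻¹ * (c * c)⁻¹ * d⁻¹⁻¹) * (d * d)⁻¹ by group]
    exact mul_mem (mul_mem (hel _ (mul_mem hc hd)) (hn.conj_mem _ (inv_mem (hel c hc)) _)) (inv_mem (hel d hd))
  have hpsi2 : ∀ w ∈ centralizer (B : Set S), a * w * a = w⁻¹ → psi a w ∈ B := fun w hw e => by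
    unfold psi
    rw [e, inv_inv]
    exact hel w hw
  have hy' := h.aC hy
  -- the image of `y`
  have hψy : v⁻¹ * psi a y ∈ B ∧ psi a y ∉ B := by
    have hnot : psi a y ∉ B := fun e => by
      rcases h.fixed_mod hv hvB hpv hy e with e' | e'
      exacts [hyB e', hyv e']
    exact ⟨(h.fixed_mod hv hvB hpv (h.psi_mem hy) (hpsi2 _ (h.psi_mem hy) (h.psi_inverted y))).resolve_left hnot, hnot⟩
  set y' := a * y * a with hy'def
  set k := y * y' * y⁻¹ * y'⁻¹ with hkdef
  have hkB : k ∈ B := hcomB y hy y' hy'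
  have haa' : ∀ w, a * (a * w) = w := fun w => by rw [← mul_assoc, h.aa, one_mul]
  have hkfix : a * k * a = k := by
    have e : a * k * a = k⁻¹ := by
      rw [hkdef, hy'def]
      simp only [mul_inv_rev, inv_inv, h.ai, mul_assoc, h.aa, haa', mul_one]
    rwa [h.sqinv hkB] at e
  have hyy'C : y * y' ∈ centralizer (B : Set S) := mul_mem hy hy'
  have hyy'B : y * y' ∉ B := fun e => hψy.2 (by
    show y'⁻¹ * y ∈ B
    have e2 : (y * y')⁻¹ * (y * y) ∈ B := mul_mem (inv_mem e) (hel y hy)
    rwa [show (y * y')⁻¹ * (y * y) = y'⁻¹ * y by group] at e2)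
  have hflip : y' * y = k * (y * y') := by
    have e1 : y * y' = k * (y' * y) := by rw [hkdef]; group
    rw [e1, ← mul_assoc k k, h.sq k hkB, one_mul]
  have hayy : a * (y * y') * a = k * (y * y') := by
    rw [hm, ← hy'def, show a * y' * a = y by rw [hy'def]; simp only [mul_assoc, h.aa, haa', mul_one]]
    exact hflip
  have hk1 : k ≠ 1 := fun e => hyy'B (h.fix _ hyy'C (h.comm_iff.2 (by rw [hayy, e, one_mul])))
  obtain ⟨p, f0, hp, hf0, hp1, hap, haf, hP⟩ := h.exists_comm
  have hkp : k ≠ p := fun e => by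
    have hmem := h.fix _ (mul_mem (le_centralizer h.sq hf0) hyy'C) (h.comm_iff.2 (by
      rw [hm, haf, hayy, e, mul_assoc, ← mul_assoc p, h.sq p hp, one_mul]))
    refine hyy'B ?_
    have := mul_mem (inv_mem hf0) hmem
    rwa [inv_mul_cancel_left] at this
  -- the cosets of `B` in `C`
  have hvyy : v⁻¹ * (y * y') ∈ B := by
    refine (h.fixed_mod hv hvB hpv hyy'C ?_).resolve_left hyy'B
    unfold psi
    rw [hayy, mul_inv_rev, mul_assoc, ← h.cB hyy'C (inv_mem hkB), inv_mul_cancel_left]
    exact inv_mem hkB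
  have hclass : ∀ c ∈ centralizer (B : Set S), c ∈ B ∨ y⁻¹ * c ∈ B ∨ y'⁻¹ * c ∈ B ∨ (y * y')⁻¹ * c ∈ B := by
    intro c hc
    rcases h.fixed_mod hv hvB hpv (h.psi_mem hc) (hpsi2 _ (h.psi_mem hc) (h.psi_inverted c)) with e | e
    · rcases h.fixed_mod hv hvB hpv hc e with e' | e'
      · exact Or.inl e'
      · refine Or.inr (Or.inr (Or.inr ?_))
        have := mul_mem (inv_mem hvyy) e'
        rwa [mul_inv_rev, inv_inv, mul_assoc, mul_inv_cancel_left] at this
    · have hd : psi a (y⁻¹ * c) ∈ B := by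
        have hq : psi a c * (psi a y)⁻¹ ∈ B := by
          have h1 := mul_mem e (inv_mem hψy.1)
          have h2 := hn.conj_mem _ h1 v
          rwa [show v * (v⁻¹ * psi a c * (v⁻¹ * psi a y)⁻¹) * v⁻¹ = psi a c * (psi a y)⁻¹ by group] at h2
        have hcom := hcomB (c⁻¹ * y) (mul_mem (inv_mem hc) hy) (psi a y)⁻¹ (inv_mem (h.psi_mem hy))
        have := mul_mem (hn.conj_mem _ hcom (psi a c)) hq
        convert this using 1
        unfold psi
        rw [hm, show a * y⁻¹ * a = (a * y * a)⁻¹ by rw [mul_inv_rev, mul_inv_rev, h.ai, mul_assoc]]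
        group
      rcases h.fixed_mod hv hvB hpv (mul_mem (inv_mem hy) hc) hd with e' | e'
      · exact Or.inr (Or.inl e')
      · refine Or.inr (Or.inr (Or.inl ?_))
        have h3 : (y * y')⁻¹ * (y⁻¹ * c) ∈ B := by
          have := mul_mem (inv_mem hvyy) e'
          rwa [mul_inv_rev, inv_inv, mul_assoc, mul_inv_cancel_left] at this
        have h4 := mul_mem (hn.conj_mem _ (hel y hy) y'⁻¹) h3
        convert h4 using 1
        group
  have hkC : ∀ c ∈ centralizer (B : Set S), c * k * c⁻¹ = k := fun c hc => h.conj_B hc hkB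
  have hcomm : ∀ c ∈ centralizer (B : Set S), ∀ d ∈ centralizer (B : Set S),
      c * d * c⁻¹ * d⁻¹ = 1 ∨ c * d * c⁻¹ * d⁻¹ = k := by
    have hrep : ∀ c ∈ centralizer (B : Set S), ∃ r b, (r = 1 ∨ r = y ∨ r = y' ∨ r = y * y') ∧ b ∈ B ∧ c = r * b := by
      intro c hc
      rcases hclass c hc with e | e | e | e
      · exact ⟨1, c, Or.inl rfl, e, (one_mul c).symm⟩
      · exact ⟨y, _, Or.inr (Or.inl rfl), e, (mul_inv_cancel_left _ _).symm⟩
      · exact ⟨y', _, Or.inr (Or.inr (Or.inl rfl)), e, (mul_inv_cancel_left _ _).symm⟩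
      · exact ⟨y * y', _, Or.inr (Or.inr (Or.inr rfl)), e, (mul_inv_cancel_left _ _).symm⟩
    intro c hc d hd
    obtain ⟨r, b, hr, hb, rfl⟩ := hrep c hc
    obtain ⟨r', b', hr', hb', rfl⟩ := hrep d hd
    have hrC : ∀ {r : S}, (r = 1 ∨ r = y ∨ r = y' ∨ r = y * y') → r ∈ centralizer (B : Set S) := by
      rintro r (rfl | rfl | rfl | rfl)
      exacts [one_mem _, hy, hy', hyy'C]
    have c1 : Commute b r' := (h.cB (hrC hr') hb).symm
    have c2 : Commute b' r := (h.cB (hrC hr) hb').symm
    have c3 : Commute b b' := comm_of_sq h.sq hb hb'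
    have hred : r * b * (r' * b') * (r * b)⁻¹ * (r' * b')⁻¹ = r * r' * r⁻¹ * r'⁻¹ :=
      calc r * b * (r' * b') * (r * b)⁻¹ * (r' * b')⁻¹ = r * (b * (r' * b') * b⁻¹) * r⁻¹ * b'⁻¹ * r'⁻¹ := by group
        _ = r * r' * (b' * r⁻¹ * b'⁻¹) * r'⁻¹ := by rw [(c1.mul_right c3).eq]; group
        _ = r * r' * r⁻¹ * r'⁻¹ := by rw [c2.inv_right.eq, mul_inv_cancel_right]
    rw [hred]
    have hk' : k⁻¹ = k := h.sqinv hkB
    have i1 : y' * y * y'⁻¹ * y⁻¹ = k := by rw [← hk', hkdef]; group
    have i2 : y * (y * y') * y⁻¹ * (y * y')⁻¹ = k := by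
      rw [show y * (y * y') * y⁻¹ * (y * y')⁻¹ = y * k * y⁻¹ by rw [hkdef]; group, hkC y hy]
    have i3 : y' * (y * y') * y'⁻¹ * (y * y')⁻¹ = k := by
      rw [show y' * (y * y') * y'⁻¹ * (y * y')⁻¹ = y' * y * y'⁻¹ * y⁻¹ by group, i1]
    have j2 : y * y' * y * (y * y')⁻¹ * y⁻¹ = k := by
      rw [show y * y' * y * (y * y')⁻¹ * y⁻¹ = (y * (y * y') * y⁻¹ * (y * y')⁻¹)⁻¹ by group, i2, hk']
    have j3 : y * y' * y' * (y * y')⁻¹ * y'⁻¹ = k := by
      rw [show y * y' * y' * (y * y')⁻¹ * y'⁻¹ = (y' * (y * y') * y'⁻¹ * (y * y')⁻¹)⁻¹ by group, i3, hk']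
    rcases hr with rfl | rfl | rfl | rfl <;> rcases hr' with rfl | rfl | rfl | rfl
    all_goals first
      | (left; group; done)
      | exact Or.inr hkdef.symm
      | exact Or.inr i1
      | exact Or.inr i2
      | exact Or.inr i3
      | exact Or.inr j2
      | exact Or.inr j3
  have hkc : ∀ s : S, s * k = k * s := by
    intro s
    have e : s * k * s⁻¹ = k := by
      rcases hcomm (s * y * s⁻¹) (hn'.conj_mem y hy s) (s * y' * s⁻¹) (hn'.conj_mem y' hy' s) with e | e
      · exfalso
        refine hk1 ?_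
        calc k = s⁻¹ * (s * y * s⁻¹ * (s * y' * s⁻¹) * (s * y * s⁻¹)⁻¹ * (s * y' * s⁻¹)⁻¹) * s := by rw [hkdef]; group
          _ = 1 := by rw [e]; group
      · calc s * k * s⁻¹ = s * y * s⁻¹ * (s * y' * s⁻¹) * (s * y * s⁻¹)⁻¹ * (s * y' * s⁻¹)⁻¹ := by rw [hkdef]; group
          _ = k := e
    exact mul_inv_eq_iff_eq_mul.1 e
  obtain ⟨F, hF, -, -, hF', -, eF, hfl⟩ := h.flag_of_ne hkB hk1 hkc hP hkp
  have eak : a * k * a = k := hkfix
  have ek : ∀ s : S, s * k * s⁻¹ = k := fun s => by rw [hkc, mul_inv_cancel_right]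
  have hFx : ∀ g : S, g * p * g⁻¹ = p → Fx B a g := by
    intro g hg e he hfe
    rcases h.fixed_cases hp hkB hF hp1 hk1 hkp ⟨hF'.1, hF'.2.2.1, hF'.2.1, by
        rw [comm_of_sq h.sq hkB hp]; exact hF'.2.2.2⟩ hap eak eF he hfe with rfl | rfl | rfl | rfl
    · simp
    · exact mul_inv_eq_iff_eq_mul.1 hg
    · exact hkc g
    · exact (Commute.mul_right (hkc g) (mul_inv_eq_iff_eq_mul.1 hg : Commute g p)).eq
  have hnog : ∀ g : S, g * p * g⁻¹ = p → g ∈ centralizer (B : Set S) ∨ a * g ∈ centralizer (B : Set S) := by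
    intro g hg
    by_contra hc
    push Not at hc
    have hg' := hFx g hg
    have hw := h.obst_mem hg'
    rcases h.fixed_mod hv hvB hpv hw (hpsi2 _ hw (h.obst_inverted g)) with e | e
    · refine h.lift_mod hv hvB hpv hg' hc.1 hc.2 (one_mem _) ?_
      have h1 : psi a (1 : S) = 1 := by unfold psi; simp [h.aa]
      rwa [h1, inv_one, one_mul]
    · refine h.lift_mod hv hvB hpv hg' hc.1 hc.2 hy ?_
      have := mul_mem (inv_mem hψy.1) e
      rwa [mul_inv_rev, inv_inv, mul_assoc, mul_inv_cancel_left] at this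
  have hall : ∀ s : S, s ∈ centralizer (B : Set S) ∨ a * s ∈ centralizer (B : Set S) := by
    intro s
    refine (hfl s).1.elim (hnog s) fun esp => False.elim ?_
    -- some element squares to `F ↦ F k`
    obtain ⟨t, etp, etf⟩ : ∃ t : S, t * p * t⁻¹ = p * k ∧ (t * F * t⁻¹ = F * p ∨ t * F * t⁻¹ = F * (p * k)) := by
      rcases (hfl s).2 with e | e | e | e
      · refine ⟨a * s, ?_, Or.inl ?_⟩
        · rw [show a * s * p * (a * s)⁻¹ = a * (s * p * s⁻¹) * a⁻¹ by group, h.ai, esp, hm, hap, eak]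
        · rw [show a * s * F * (a * s)⁻¹ = a * (s * F * s⁻¹) * a⁻¹ by group, h.ai, e, eF]
      · refine ⟨a * s, ?_, Or.inr ?_⟩
        · rw [show a * s * p * (a * s)⁻¹ = a * (s * p * s⁻¹) * a⁻¹ by group, h.ai, esp, hm, hap, eak]
        · rw [show a * s * F * (a * s)⁻¹ = a * (s * F * s⁻¹) * a⁻¹ by group, h.ai, e, hm, eF, eak, mul_assoc]
      · exact ⟨s, esp, Or.inl e⟩
      · exact ⟨s, esp, Or.inr e⟩
    have htp : t * t * p * (t * t)⁻¹ = p := by
      rw [show t * t * p * (t * t)⁻¹ = t * (t * p * t⁻¹) * t⁻¹ by group, etp, conj_mul', etp, ek, mul_assoc,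
        h.sq k hkB, mul_one]
    have htF : t * t * F * (t * t)⁻¹ = F * k := by
      rw [show t * t * F * (t * t)⁻¹ = t * (t * F * t⁻¹) * t⁻¹ by group]
      rcases etf with e | e <;> rw [e, conj_mul']
      · rw [e, etp, mul_assoc, ← mul_assoc p, h.sq p hp, one_mul]
      · rw [conj_mul', etp, ek, e, show F * (p * k) * (p * k * k) = F * (p * k * (p * k) * k) by group,
          h.sq _ (mul_mem hp hkB), one_mul]
    rcases hnog _ htp with e | e
    · exact hk1 (mul_eq_left.1 (htF.symm.trans (h.conj_B e hF)))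
    · have h1 := h.conj_B e hF
      rw [show a * (t * t) * F * (a * (t * t))⁻¹ = a * (t * t * F * (t * t)⁻¹) * a⁻¹ by group, htF, h.ai, hm, eF, eak,
        mul_assoc, mul_eq_left] at h1
      exact hkp (by rw [← one_mul k, ← h.sq p hp, mul_assoc, h1, mul_one])
  -- counting
  have h2 : Nat.card V ≤ 2 * Nat.card (img f (centralizer (B : Set S))) := by
    have := card_le_key f hf (H := centralizer (B : Set S))
      (fun c : K => decide ((c : S) ∈ centralizer (B : Set S))) fun c d e => by
      refine img_C_normal_rel f hn ?_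
      by_cases hc : (c : S) ∈ centralizer (B : Set S)
      · exact mul_mem (inv_mem hc) (by simpa [hc] using e)
      · have := mul_mem (inv_mem ((hall c).resolve_left hc)) ((hall d).resolve_left (by simpa [hc] using e))
        rwa [mul_inv_rev, mul_assoc, inv_mul_cancel_left] at this
    simpa using this
  have h8 := card_img_B f h.card
  have hr1 : (∀ c : K, (c : S) ∈ centralizer (B : Set S)) →
      Nat.card V ≤ Nat.card (img f (centralizer (B : Set S))) := by
    intro hk
    have := card_le_key f hf (H := centralizer (B : Set S)) (fun _ => ()) fun c d _ =>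
      img_C_normal_rel f hn (mul_mem (inv_mem (hk c)) (hk d))
    simpa using this
  have hC4 : Nat.card (img f (centralizer (B : Set S))) ≤ 4 * Nat.card (img f B) := by
    have := card_img_key f (H := B) (H' := centralizer (B : Set S))
      (fun c : K => (decide ((c : S) ∈ B ∨ y⁻¹ * (c : S) ∈ B), decide ((c : S) ∈ B ∨ y'⁻¹ * (c : S) ∈ B)))
      fun c d hc hd e => by
        rw [← map_inv, ← map_mul]
        refine mem_img f ?_
        simp only [Prod.mk.injEq, decide_eq_decide] at e
        obtain ⟨e1, e2⟩ := e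
        have hsame : ∀ r : S, r⁻¹ * (c : S) ∈ B → r⁻¹ * (d : S) ∈ B → (c : S)⁻¹ * d ∈ B := fun r u1 u2 => by
          have := mul_mem (inv_mem u1) u2
          rwa [mul_inv_rev, inv_inv, mul_assoc, mul_inv_cancel_left] at this
        by_cases u : (c : S) ∈ B ∨ y⁻¹ * (c : S) ∈ B <;> by_cases w : (c : S) ∈ B ∨ y'⁻¹ * (c : S) ∈ B
        · have hcB : (c : S) ∈ B := by
            rcases u with u | u
            · exact u
            rcases w with w | w
            · exact w
            exact absurd (by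
              have := mul_mem u (inv_mem w)
              have h5 := hn.conj_mem _ this y'
              rwa [show y' * (y⁻¹ * c * (y'⁻¹ * c)⁻¹) * y'⁻¹ = y' * y⁻¹ by group] at h5) (fun e3 => hψy.2 (by
                have := hn.conj_mem _ (inv_mem e3) y'⁻¹
                show y'⁻¹ * y ∈ B
                convert this using 1
                group))
          rcases e1.1 u with u' | u'
          · exact mul_mem (inv_mem hcB) u'
          rcases e2.1 w with w' | w'
          · exact mul_mem (inv_mem hcB) w'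
          exact absurd (by
              have := mul_mem u' (inv_mem w')
              have h5 := hn.conj_mem _ this y'
              rwa [show y' * (y⁻¹ * d * (y'⁻¹ * d)⁻¹) * y'⁻¹ = y' * y⁻¹ by group] at h5) (fun e3 => hψy.2 (by
                have := hn.conj_mem _ (inv_mem e3) y'⁻¹
                show y'⁻¹ * y ∈ B
                convert this using 1
                group))
        · push Not at w
          have hdw : ¬ ((d : S) ∈ B ∨ y'⁻¹ * (d : S) ∈ B) := fun h' => by
            rcases e2.2 h' with h'' | h''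
            exacts [w.1 h'', w.2 h'']
          push Not at hdw
          exact hsame y (u.resolve_left w.1) ((e1.1 u).resolve_left hdw.1)
        · push Not at u
          have hdu : ¬ ((d : S) ∈ B ∨ y⁻¹ * (d : S) ∈ B) := fun h' => by
            rcases e1.2 h' with h'' | h''
            exacts [u.1 h'', u.2 h'']
          push Not at hdu
          exact hsame y' (w.resolve_left u.1) ((e2.1 w).resolve_left hdu.1)
        · push Not at u w
          have hdu : ¬ ((d : S) ∈ B ∨ y⁻¹ * (d : S) ∈ B) := fun h' => by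
            rcases e1.2 h' with h'' | h''
            exacts [u.1 h'', u.2 h'']
          have hdw : ¬ ((d : S) ∈ B ∨ y'⁻¹ * (d : S) ∈ B) := fun h' => by
            rcases e2.2 h' with h'' | h''
            exacts [w.1 h'', w.2 h'']
          push Not at hdu hdw
          refine hsame (y * y') ?_ ?_
          · rcases hclass c hc with e | e | e | e
            exacts [absurd e u.1, absurd e u.2, absurd e w.2, e]
          · rcases hclass d hd with e | e | e | e
            exacts [absurd e hdu.1, absurd e hdu.2, absurd e hdw.2, e]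
    simpa using this
  by_cases hfull : (∃ c : K, y⁻¹ * (c : S) ∈ B) ∧ ∃ d : K, y'⁻¹ * (d : S) ∈ B
  · obtain ⟨⟨c, hc⟩, ⟨d, hd⟩⟩ := hfull
    have hcC : (c : S) ∈ centralizer (B : Set S) := by
      have := mul_mem hy (le_centralizer h.sq hc)
      rwa [mul_inv_cancel_left] at this
    have hdC : (d : S) ∈ centralizer (B : Set S) := by
      have := mul_mem hy' (le_centralizer h.sq hd)
      rwa [mul_inv_cancel_left] at this
    obtain ⟨e, heS, hfe⟩ : ∃ e : K, (e : S) = k ∧ f e = 1 := by
      refine ⟨c * d * c⁻¹ * d⁻¹, ?_, f_comm f hexp c d⟩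
      show (c : S) * d * (c : S)⁻¹ * (d : S)⁻¹ = k
      refine (hcomm _ hcC _ hdC).resolve_left fun e => hk1 ?_
      obtain ⟨b, hb, hceq⟩ : ∃ b ∈ B, (c : S) = y * b := ⟨_, hc, (mul_inv_cancel_left _ _).symm⟩
      obtain ⟨b', hb', hdeq⟩ : ∃ b' ∈ B, (d : S) = y' * b' := ⟨_, hd, (mul_inv_cancel_left _ _).symm⟩
      have c1 : Commute b y' := (h.cB hy' hb).symm
      have c2 : Commute b' y := (h.cB hy hb').symm
      have c3 : Commute b b' := comm_of_sq h.sq hb hb'
      rw [hceq, hdeq] at e
      calc k = y * y' * y⁻¹ * y'⁻¹ := hkdef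
        _ = y * y' * (b' * y⁻¹ * b'⁻¹) * y'⁻¹ := by rw [c2.inv_right.eq, mul_inv_cancel_right]
        _ = y * (b * (y' * b') * b⁻¹) * y⁻¹ * b'⁻¹ * y'⁻¹ := by rw [(c1.mul_right c3).eq]; group
        _ = 1 := by rw [← e]; group
    have hB4 := card_img_one f h.card (e := e) (heS ▸ hkB) (heS ▸ hk1) hfe
    by_cases hK : ∀ c : K, (c : S) ∈ centralizer (B : Set S)
    · have := hr1 hK
      have := hB4.1
      omega
    · push Not at hK
      obtain ⟨g, hg⟩ := hK
      suffices Nat.card (img f B) ≤ 2 by omega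
      by_cases hBK : B ≤ K
      · obtain ⟨e', heS', hfe'⟩ : ∃ e' : K, (e' : S) = p ∧ f e' = 1 := by
          refine ⟨g * ⟨F, hBK hF⟩ * g⁻¹ * ⟨F, hBK hF⟩⁻¹, ?_, f_comm f hexp _ _⟩
          show (g : S) * F * (g : S)⁻¹ * F⁻¹ = p
          have hag := (hall g).resolve_left hg
          have h1 := h.conj_B hag hF
          have h2 : (g : S) * F * (g : S)⁻¹ = F * p := by
            rw [← eF, show (g : S) * F * (g : S)⁻¹ = a⁻¹ * (a * g * F * (a * g)⁻¹) * a by group, h1, h.ai]
          rw [h2, comm_of_sq h.sq hF hp, mul_inv_cancel_right]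
        exact card_img_two f h.card (heS ▸ hkB) (heS ▸ hk1) hfe (heS' ▸ hp) (heS' ▸ hp1) hfe'
          (by rw [heS, heS']; exact hkp)
      · exact hB4.2 hBK
  · -- at most two cosets of `B` in `K ∩ C`
    have hC2 : Nat.card (img f (centralizer (B : Set S))) ≤ 2 * Nat.card (img f B) := by
      have key : ∀ c d : K, (c : S) ∈ centralizer (B : Set S) → (d : S) ∈ centralizer (B : Set S) →
          (c : S) ∉ B → (d : S) ∉ B → (c : S)⁻¹ * d ∈ B := by
        intro c d hc hd hcB hdB
        have hmix : ∀ u w : K, y⁻¹ * (u : S) ∈ B → y'⁻¹ * (w : S) ∈ B → False :=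
          fun u w hu hw => hfull ⟨⟨u, hu⟩, ⟨w, hw⟩⟩
        have hsame : ∀ r : S, r⁻¹ * (c : S) ∈ B → r⁻¹ * (d : S) ∈ B → (c : S)⁻¹ * d ∈ B := fun r u1 u2 => by
          have := mul_mem (inv_mem u1) u2
          rwa [mul_inv_rev, inv_inv, mul_assoc, mul_inv_cancel_left] at this
        have hy1 : ∀ u w : K, y⁻¹ * (u : S) ∈ B → (y * y')⁻¹ * (w : S) ∈ B → False := fun u w hu hw => by
          refine hmix u (u⁻¹ * w) hu ?_
          have := mul_mem (hn.conj_mem _ (inv_mem hu) y'⁻¹) hw
          convert this using 1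
          simp only [Subgroup.coe_mul, Subgroup.coe_inv]; group
        have hy2 : ∀ u w : K, y'⁻¹ * (u : S) ∈ B → (y * y')⁻¹ * (w : S) ∈ B → False := fun u w hu hw => by
          refine hmix (w * u⁻¹) u ?_ hu
          have := hn.conj_mem _ (mul_mem hw (inv_mem hu)) y'
          convert this using 1
          simp only [Subgroup.coe_mul, Subgroup.coe_inv]; group
        rcases (hclass c hc).resolve_left hcB with e | e | e <;> rcases (hclass d hd).resolve_left hdB with e' | e' | e'
        exacts [hsame y e e', (hmix c d e e').elim, (hy1 c d e e').elim, (hmix d c e' e).elim, hsame y' e e',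
          (hy2 c d e e').elim, (hy1 d c e' e).elim, (hy2 d c e' e).elim, hsame _ e e']
      have := card_img_key f (H := B) (H' := centralizer (B : Set S)) (fun c : K => decide ((c : S) ∈ B))
        fun c d hc hd e => by
          rw [← map_inv, ← map_mul]
          refine mem_img f ?_
          by_cases hcB : (c : S) ∈ B
          · exact mul_mem (inv_mem hcB) (by simpa [hcB] using e)
          · exact key c d hc hd hcB (by simpa [hcB] using e)
      simpa using this
    by_cases hK : ∀ c : K, (c : S) ∈ centralizer (B : Set S)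
    · have := hr1 hK
      omega
    · push Not at hK
      obtain ⟨g, hg⟩ := hK
      have := card_img_moved f h.card hexp hn hg
      omega

end Setup

end CfsgLib.SelfEight
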