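/-
The case where `C / B` has a cyclic subgroup of index at most two of order at least four: the element `u`.
-/
import Cfsg.Agent.Lib.SelfEight.Four

set_option autoImplicit false

namespace CfsgLib.SelfEight

open Subgroup

universe u v

variable {S : Type u} [Group S] [Finite S]

/-- `c ∈ x ^ i B`. -/
def InX (B : Subgroup S) (x c : S) (i : ℤ) : Prop := ∃ e ∈ B, c = x ^ i * e

/-- A large cyclic part of `C / B`. -/
structure Cyc (B : Subgroup S) (a x : S) (m : ℕ) : Prop where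
  toSetup : Setup B a
  hm : 2 ≤ m
  mem : x ∈ centralizer (B : Set S)
  top : x ^ (2 ^ m) ∈ B
  half : x ^ (2 ^ (m - 1)) ∉ B
  split : ∀ c ∈ centralizer (B : Set S), (∃ i, InX B x c i) ∨ c * x * c⁻¹ * x ∈ B
  hax : ∃ i, InX B x (a * x * a) i

namespace Cyc

variable {B : Subgroup S} {a x : S} {m : ℕ} (c : Cyc B a x m)
include c

theorem pow_mem_C (i : ℤ) : x ^ i ∈ centralizer (B : Set S) := zpow_mem c.mem i

theorem inX_mem {d : S} {i : ℤ} (h : InX B x d i) : d ∈ centralizer (B : Set S) := by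
  obtain ⟨e, he, rfl⟩ := h
  exact mul_mem (c.pow_mem_C i) (le_centralizer c.toSetup.sq he)

theorem inX_mul {d d' : S} {i j : ℤ} (h : InX B x d i) (h' : InX B x d' j) : InX B x (d * d') (i + j) := by
  obtain ⟨e, he, rfl⟩ := h
  obtain ⟨e', he', rfl⟩ := h'
  refine ⟨e * e', mul_mem he he', ?_⟩
  rw [zpow_add, mul_assoc, ← mul_assoc e, ← c.toSetup.cB (c.pow_mem_C j) he]
  group

theorem inX_inv {d : S} {i : ℤ} (h : InX B x d i) : InX B x d⁻¹ (-i) := by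
  obtain ⟨e, he, rfl⟩ := h
  refine ⟨e⁻¹, inv_mem he, ?_⟩
  rw [mul_inv_rev, ← zpow_neg, c.toSetup.cB (c.pow_mem_C _) (inv_mem he)]

omit c in
theorem inX_self (i : ℤ) : InX B x (x ^ i) i := ⟨1, one_mem _, (mul_one _).symm⟩

omit c in
theorem inX_of_B {e : S} (he : e ∈ B) : InX B x e 0 := ⟨e, he, by simp⟩

theorem inX_zpow {d : S} {i : ℤ} (h : InX B x d i) (n : ℤ) : InX B x (d ^ n) (i * n) := by
  obtain ⟨e, he, rfl⟩ := h
  refine ⟨e ^ n, zpow_mem he n, ?_⟩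
  rw [(show Commute (x ^ i) e from c.toSetup.cB (c.pow_mem_C i) he).mul_zpow, zpow_mul]

theorem top_mul (n : ℤ) : x ^ ((2 ^ m : ℤ) * n) ∈ B := by
  rw [zpow_mul, show ((2 : ℤ) ^ m) = ((2 ^ m : ℕ) : ℤ) by push_cast; rfl, zpow_natCast]
  exact zpow_mem c.top n

theorem pow_mem_B {i : ℤ} (h : x ^ i ∈ B) : (2 ^ m : ℤ) ∣ i := by
  by_contra hne
  obtain ⟨s, hs, hgs⟩ : ∃ s ≤ m, (Int.gcd i (2 ^ m : ℤ)) = 2 ^ s := by
    refine (Nat.dvd_prime_pow Nat.prime_two).1 ?_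
    exact_mod_cast Int.gcd_dvd_right i (2 ^ m : ℤ)
  have hg : x ^ ((2 : ℤ) ^ s) ∈ B := by
    rw [show ((2 : ℤ) ^ s) = (Int.gcd i (2 ^ m : ℤ) : ℤ) by rw [hgs]; push_cast; rfl, Int.gcd_eq_gcd_ab, zpow_add,
      zpow_mul]
    exact mul_mem (zpow_mem h _) (c.top_mul _)
  rcases hs.lt_or_eq with hlt | rfl
  · refine c.half ?_
    obtain ⟨d, hd⟩ := Nat.exists_eq_add_of_le (show s ≤ m - 1 by omega)
    rw [hd, pow_add, pow_mul, show (2 : ℕ) ^ s = ((2 ^ s : ℕ)) from rfl]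
    exact pow_mem (by
      rw [show ((2 : ℤ) ^ s) = ((2 ^ s : ℕ) : ℤ) by push_cast; rfl, zpow_natCast] at hg
      exact hg) _
  · refine hne ?_
    have := Int.gcd_dvd_left i (2 ^ s : ℤ)
    rw [hgs] at this
    exact_mod_cast this

theorem inX_unique {d : S} {i j : ℤ} (h : InX B x d i) (h' : InX B x d j) : (2 ^ m : ℤ) ∣ i - j := by
  obtain ⟨e, he, hd⟩ := h
  obtain ⟨e', he', hd'⟩ := h'
  refine c.pow_mem_B ?_
  have : x ^ (i - j) = e' * e⁻¹ := by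
    rw [zpow_sub]
    have e2 : x ^ i * e = x ^ j * e' := hd.symm.trans hd'
    rw [← eq_mul_inv_iff_mul_eq] at e2
    rw [e2]
    have hc : Commute (x ^ j) (e' * e⁻¹) := c.toSetup.cB (c.pow_mem_C j) (mul_mem he' (inv_mem he))
    rw [mul_assoc (x ^ j), hc.eq, mul_inv_cancel_right]
  rw [this]
  exact mul_mem he' (inv_mem he)

theorem mem_B_of_inX {d : S} {i : ℤ} (h : InX B x d i) (hi : (2 ^ m : ℤ) ∣ i) : d ∈ B := by
  obtain ⟨e, he, rfl⟩ := h
  obtain ⟨n, rfl⟩ := hi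
  exact mul_mem (c.top_mul n) he

theorem four_dvd : (4 : ℤ) ∣ 2 ^ m := by
  obtain ⟨d, hd⟩ := Nat.exists_eq_add_of_le c.hm
  exact ⟨2 ^ d, by rw [hd, pow_add]; norm_num⟩

theorem two_half : (2 : ℕ) ^ m = 2 ^ (m - 1) * 2 := by
  rw [← pow_succ]
  congr 1
  have := c.hm
  omega

/-- The element of order four. -/
theorem zpow_half {e : S} (he : e ∈ B) (i : ℤ) : (x ^ i * e) ^ (2 ^ (m - 1)) = (x ^ (2 ^ (m - 1))) ^ i := by
  rw [(show Commute (x ^ i) e from c.toSetup.cB (c.pow_mem_C i) he).mul_pow]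
  have : e ^ (2 ^ (m - 1)) = 1 := by
    obtain ⟨d, hd⟩ : ∃ d, m - 1 = d + 1 := ⟨m - 2, by have := c.hm; omega⟩
    rw [hd, pow_succ', pow_mul, pow_two, c.toSetup.sq e he, one_pow]
  rw [this, mul_one, ← zpow_natCast (x ^ i), ← zpow_mul, mul_comm, zpow_mul, zpow_natCast]

theorem u_sq_mem : x ^ (2 ^ (m - 1)) * x ^ (2 ^ (m - 1)) ∈ B := by
  rw [← pow_add, show 2 ^ (m - 1) + 2 ^ (m - 1) = 2 ^ m by rw [c.two_half]; ring]
  exact c.top

theorem u_four : (x ^ (2 ^ (m - 1))) ^ (4 : ℤ) = 1 := by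
  have h2 := c.toSetup.sq _ c.u_sq_mem
  generalize x ^ (2 ^ (m - 1)) = w at *
  rw [zpow_ofNat, ← h2]
  simp [pow_succ, mul_assoc]

theorem u_zpow_mod (i : ℤ) : (x ^ (2 ^ (m - 1))) ^ i = (x ^ (2 ^ (m - 1))) ^ (i % 4) := by
  conv_lhs => rw [← Int.emod_add_mul_ediv i 4]
  rw [zpow_add, zpow_mul, c.u_four, one_zpow, mul_one]

theorem odd_of_not_B {d : S} {i : ℤ} (h : InX B x d i) (hd : d ^ (2 ^ (m - 1)) ∉ B) : Odd i := by
  rw [← Int.not_even_iff_odd]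
  rintro ⟨k, rfl⟩
  obtain ⟨e, he, rfl⟩ := h
  refine hd ?_
  rw [c.zpow_half he, ← two_mul, zpow_mul, zpow_two]
  exact zpow_mem c.u_sq_mem k

theorem conj_half_notB (s : S) : (s * x * s⁻¹) ^ (2 ^ (m - 1)) ∉ B := fun h => c.half (by
  rw [conj_pow] at h
  have := c.toSetup.normal.conj_mem _ h s⁻¹
  simpa [mul_assoc] using this)

theorem a_inv_u : a * x ^ (2 ^ (m - 1)) * a = (x ^ (2 ^ (m - 1)))⁻¹ ∧
    x ^ (2 ^ (m - 1)) * x ^ (2 ^ (m - 1)) ≠ 1 := by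
  set w := x ^ (2 ^ (m - 1)) with hw
  obtain ⟨i, hi⟩ := c.hax
  have hodd : Odd i := by
    refine c.odd_of_not_B hi ?_
    rw [c.toSetup.conj_a]
    exact c.conj_half_notB a
  obtain ⟨e, he, hx⟩ := hi
  have hwC : w ∈ centralizer (B : Set S) := pow_mem c.mem _
  have hau : a * w * a = w ^ i := by
    have := congrArg (fun t : S => t ^ (2 ^ (m - 1))) hx
    rw [c.toSetup.conj_a, conj_pow, c.zpow_half he, ← c.toSetup.conj_a] at this
    exact this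
  have hne : a * w * a ≠ w := fun e' => c.half (c.toSetup.fix w hwC (c.toSetup.comm_iff.2 e'))
  have hi4 : i % 4 = 1 ∨ i % 4 = 3 := by
    have := Int.odd_iff.1 hodd
    omega
  rw [hau, hw, c.u_zpow_mod i, ← hw] at hne
  rcases hi4 with e4 | e4
  · rw [e4, zpow_one] at hne
    exact absurd rfl hne
  · refine ⟨?_, fun hz => hne ?_⟩
    · rw [hau, hw, c.u_zpow_mod i, e4]
      refine eq_inv_of_mul_eq_one_left ?_
      rw [← zpow_add_one, show (3 : ℤ) + 1 = 4 by norm_num]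
      exact c.u_four
    · rw [e4, show (3 : ℤ) = 1 + 1 + 1 by norm_num, zpow_add, zpow_add, zpow_one, hz, one_mul]

theorem u_ne_inv : x ^ (2 ^ (m - 1)) ≠ (x ^ (2 ^ (m - 1)))⁻¹ := fun e =>
  c.a_inv_u.2 (mul_eq_one_iff_eq_inv.2 e)

theorem invert_u {y : S} (hy : y ∈ centralizer (B : Set S)) (h : ¬ ∃ i, InX B x y i) :
    y * x ^ (2 ^ (m - 1)) * y⁻¹ = (x ^ (2 ^ (m - 1)))⁻¹ := by
  have he := (c.split y hy).resolve_left h
  have hcomm : Commute (y * x * y⁻¹ * x) x⁻¹ :=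
    (c.toSetup.cB (inv_mem c.mem) he).symm
  have hex : y * x * y⁻¹ = x ^ (-1 : ℤ) * (y * x * y⁻¹ * x) := by
    rw [zpow_neg_one, ← hcomm.eq, mul_inv_cancel_right]
  rw [← conj_pow, hex, c.zpow_half he, zpow_neg_one]

theorem mem_X_iff {d : S} (hd : d ∈ centralizer (B : Set S)) :
    (∃ i, InX B x d i) ↔ d * x ^ (2 ^ (m - 1)) = x ^ (2 ^ (m - 1)) * d := by
  constructor
  · rintro ⟨i, e, he, rfl⟩
    have h1 : Commute (x ^ i) (x ^ (2 ^ (m - 1))) := (Commute.zpow_self x i).pow_right _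
    have h2 : Commute e (x ^ (2 ^ (m - 1))) := (c.toSetup.cB (pow_mem c.mem _) he).symm
    exact (h1.mul_left h2).eq
  · intro e
    by_contra hn
    have := c.invert_u hd hn
    rw [e, mul_inv_cancel_right] at this
    exact c.u_ne_inv this

theorem sq_mem_B {y : S} (hy : y ∈ centralizer (B : Set S)) (h : ¬ ∃ i, InX B x y i) : y * y ∈ B := by
  have hinv := c.invert_u hy h
  obtain ⟨l, hl⟩ : ∃ l, InX B x (y * y) l := by
    rw [c.mem_X_iff (mul_mem hy hy)]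
    refine mul_inv_eq_iff_eq_mul.1 ?_
    rw [show y * y * x ^ (2 ^ (m - 1)) * (y * y)⁻¹ = y * (y * x ^ (2 ^ (m - 1)) * y⁻¹) * y⁻¹ by group, hinv,
      show y * (x ^ (2 ^ (m - 1)))⁻¹ * y⁻¹ = (y * x ^ (2 ^ (m - 1)) * y⁻¹)⁻¹ by group, hinv, inv_inv]
  have hj : InX B x (y * x * y⁻¹) (-1) := by
    refine ⟨y * x * y⁻¹ * x, (c.split y hy).resolve_left h, ?_⟩
    rw [c.toSetup.cB (c.pow_mem_C _) ((c.split y hy).resolve_left h), zpow_neg_one, mul_inv_cancel_right]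
  obtain ⟨e, he, hyy⟩ := hl
  have h2 := c.inX_mul (c.inX_zpow hj l) (inX_of_B (x := x) (c.toSetup.normal.conj_mem e he y))
  rw [conj_zpow, ← conj_mul', ← hyy, show y * (y * y) * y⁻¹ = y * y by group] at h2
  have h3 := c.inX_unique ⟨e, he, hyy⟩ h2
  rw [show l - (-1 * l + 0) = 2 * l by ring] at h3
  obtain ⟨j, hj2⟩ := h3
  have hl2 : l = (2 ^ (m - 1) : ℕ) * j := by
    have : (2 : ℤ) ^ m = (2 ^ (m - 1) : ℕ) * 2 := by exact_mod_cast c.two_half
    rw [this] at hj2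
    linarith
  rcases Int.even_or_odd j with ⟨k, rfl⟩ | hjo
  · refine c.mem_B_of_inX ⟨e, he, hyy⟩ ⟨k, ?_⟩
    rw [hl2, show ((2 : ℤ) ^ m) = (2 ^ (m - 1) : ℕ) * 2 by exact_mod_cast c.two_half]
    ring
  · exfalso
    obtain ⟨k, rfl⟩ := hjo
    rw [hl2, zpow_mul, zpow_natCast] at hyy
    generalize hw : x ^ (2 ^ (m - 1)) = w at hinv hyy
    have hwwB : w * w ∈ B := hw ▸ c.u_sq_mem
    rw [zpow_add, zpow_mul, zpow_two, zpow_one] at hyy
    have hkB : (w * w) ^ k ∈ B := zpow_mem hwwB k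
    have c0 : Commute y (y * y) := (Commute.refl y).mul_right (Commute.refl y)
    have c1 : Commute y ((w * w) ^ k) := c.toSetup.cB hy hkB
    have c2 : Commute y e := c.toSetup.cB hy he
    have hw' : w = ((w * w) ^ k)⁻¹ * (y * y) * e⁻¹ := by rw [hyy]; group
    have cw : Commute y w := hw' ▸ (c1.inv_right.mul_right c0).mul_right c2.inv_right
    rw [cw.eq, mul_inv_cancel_right] at hinv
    exact c.u_ne_inv (by rw [hw]; exact hinv)

theorem conj_inX (s : S) : ∃ i, Odd i ∧ InX B x (s * x * s⁻¹) i := by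
  have hC := c.toSetup.C_normal.conj_mem x c.mem s
  obtain ⟨i, hi⟩ : ∃ i, InX B x (s * x * s⁻¹) i := by
    by_contra hn
    have h2 := c.sq_mem_B hC hn
    refine c.conj_half_notB s ?_
    obtain ⟨d, hd⟩ : ∃ d, m - 1 = d + 1 := ⟨m - 2, by have := c.hm; omega⟩
    rw [hd, pow_succ', pow_mul, pow_two]
    exact pow_mem h2 _
  exact ⟨i, c.odd_of_not_B hi (c.conj_half_notB s), hi⟩

theorem conj_u (s : S) : s * x ^ (2 ^ (m - 1)) * s⁻¹ = x ^ (2 ^ (m - 1)) ∨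
    s * x ^ (2 ^ (m - 1)) * s⁻¹ = (x ^ (2 ^ (m - 1)))⁻¹ := by
  obtain ⟨i, hodd, e, he, hx⟩ := c.conj_inX s
  rw [← conj_pow, hx, c.zpow_half he, c.u_zpow_mod i]
  have := Int.odd_iff.1 hodd
  rcases (show i % 4 = 1 ∨ i % 4 = 3 by omega) with e4 | e4
  · exact Or.inl (by rw [e4, zpow_one])
  · refine Or.inr (eq_inv_of_mul_eq_one_left ?_)
    rw [e4, ← zpow_add_one, show (3 : ℤ) + 1 = 4 by norm_num]
    exact c.u_four

theorem z_central (s : S) : s * (x ^ (2 ^ (m - 1)) * x ^ (2 ^ (m - 1))) =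
    x ^ (2 ^ (m - 1)) * x ^ (2 ^ (m - 1)) * s := by
  refine mul_inv_eq_iff_eq_mul.1 ?_
  rw [conj_mul']
  rcases c.conj_u s with e | e <;> rw [e]
  rw [← mul_inv_rev]
  exact c.toSetup.sqinv c.u_sq_mem

theorem exists_coprime {o : ℤ} (ho : Odd o) (k : ℤ) : ∃ q, (2 ^ m : ℤ) ∣ q * o - k := by
  have h2 : IsCoprime o ((2 : ℤ) ^ m) := by
    refine IsCoprime.pow_right ?_
    obtain ⟨j, rfl⟩ := ho
    exact ⟨1, -j, by ring⟩
  obtain ⟨α, β, hαβ⟩ := h2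
  exact ⟨k * α, -(k * β), by linear_combination k * hαβ⟩

/-- The main obstruction. -/
theorem no_even_sq {g : S} (hg : Fx B a g) (hgC : g ∉ centralizer (B : Set S))
    (hagC : a * g ∉ centralizer (B : Set S))
    (hgu : g * x ^ (2 ^ (m - 1)) = x ^ (2 ^ (m - 1)) * g) {l : ℤ} (hl : InX B x (g * g) (2 * l)) : False := by
  have h := c.toSetup
  have hwC := h.obst_mem hg
  obtain ⟨hau, hz⟩ := c.a_inv_u
  obtain ⟨j, hj⟩ : ∃ j, InX B x (obst a g) j := by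
    rw [c.mem_X_iff hwC]
    unfold obst
    set w := x ^ (2 ^ (m - 1)) with hw
    have e1 : g⁻¹ * w * g = w := by rw [mul_assoc, ← hgu, inv_mul_cancel_left]
    have e2 : g * w⁻¹ * g⁻¹ = w⁻¹ := by
      rw [show g * w⁻¹ * g⁻¹ = (g * w * g⁻¹)⁻¹ by group, hgu, mul_inv_cancel_right]
    refine mul_inv_eq_iff_eq_mul.1 ?_
    calc a * g * a * g⁻¹ * w * (a * g * a * g⁻¹)⁻¹ = a * (g * (a * (g⁻¹ * w * g) * a⁻¹) * g⁻¹) * a⁻¹ := by group
      _ = a * (g * (a * w * a) * g⁻¹) * a := by rw [e1, h.ai]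
      _ = a * w⁻¹ * a := by rw [hau, e2]
      _ = (a⁻¹ * w * a⁻¹)⁻¹ := by group
      _ = w := by rw [h.ai, hau, inv_inv]
  obtain ⟨i, hiodd, hi⟩ := c.conj_inX g
  obtain ⟨i', hi'odd, hi'⟩ := c.conj_inX a
  -- exponents mod four
  have hi4 : (4 : ℤ) ∣ i - 1 := by
    obtain ⟨e, he, hx⟩ := hi
    have h4 : (x ^ (2 ^ (m - 1))) ^ i = x ^ (2 ^ (m - 1)) := by
      rw [← c.zpow_half he, ← hx, conj_pow, hgu, mul_inv_cancel_right]
    rw [c.u_zpow_mod i] at h4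
    have := Int.odd_iff.1 hiodd
    rcases (show i % 4 = 1 ∨ i % 4 = 3 by omega) with e4 | e4
    · omega
    · rw [e4] at h4
      exact absurd (by
        rw [show (3 : ℤ) = 1 + 1 + 1 by norm_num, zpow_add, zpow_add, zpow_one, mul_eq_right] at h4
        exact h4) hz
  have hi4' : (4 : ℤ) ∣ i' + 1 := by
    obtain ⟨e, he, hx⟩ := hi'
    have h4 : (x ^ (2 ^ (m - 1))) ^ i' = (x ^ (2 ^ (m - 1)))⁻¹ := by
      rw [← c.zpow_half he, ← hx, conj_pow, ← h.conj_a, hau]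
    rw [c.u_zpow_mod i'] at h4
    have := Int.odd_iff.1 hi'odd
    rcases (show i' % 4 = 1 ∨ i' % 4 = 3 by omega) with e4 | e4
    · rw [e4, zpow_one] at h4
      exact absurd h4 c.u_ne_inv
    · omega
  have conjX : ∀ (s : S) (k : ℤ), InX B x (s * x * s⁻¹) k → ∀ (d : S) (n : ℤ), InX B x d n →
      InX B x (s * d * s⁻¹) (k * n + 0) := fun s k hk d n hd => by
    obtain ⟨e, he, rfl⟩ := hd
    rw [conj_mul', ← conj_zpow]
    exact c.inX_mul (c.inX_zpow hk n) (inX_of_B (h.normal.conj_mem e he s))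
  have hL := c.inX_mul (c.inX_mul hj (conjX g i hi _ _ hj)) hl
  have hR : InX B x (a * (g * g) * a) (i' * (2 * l) + 0) := by
    rw [h.conj_a]
    exact conjX a i' hi' _ _ hl
  have heq : obst a g * (g * obst a g * g⁻¹) * (g * g) = a * (g * g) * a := by
    unfold obst
    rw [show a * g * a * g⁻¹ * (g * (a * g * a * g⁻¹) * g⁻¹) * (g * g) = a * g * (a * a) * g * a by group, h.aa]
    group
  have hdvd := dvd_trans c.four_dvd (c.inX_unique hL (heq ▸ hR))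
  obtain ⟨α, hα⟩ := hi4
  obtain ⟨β, hβ⟩ := hi4'
  obtain ⟨γ, hγ⟩ := hdvd
  obtain ⟨k, rfl⟩ : ∃ k, j = 2 * k := by
    have e1 : j + (i * j + 0) + 2 * l - (i' * (2 * l) + 0) = 2 * j + 4 * (α * j + l - 2 * β * l) := by
      linear_combination j * hα - 2 * l * hβ
    rw [e1] at hγ
    exact ⟨γ - (α * j + l - 2 * β * l) - 0 + 0 - (j - j) - 0, by linarith⟩
  obtain ⟨q, hq⟩ := c.exists_coprime (o := 1 - 2 * β) ⟨-β, by ring⟩ k
  -- match it with the image of `psi`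
  have hψ : InX B x (psi a (x ^ q)) (-(i' * q + 0) + q) := by
    unfold psi
    refine c.inX_mul (c.inX_inv ?_) (inX_self q)
    rw [h.conj_a]
    exact conjX a i' hi' _ _ (inX_self q)
  refine h.lift_mod (v := x ^ (2 ^ (m - 1))) (pow_mem c.mem _) c.half ?_ hg hgC hagC (c.pow_mem_C q) ?_
  · unfold psi
    rw [hau, inv_inv]
    exact c.u_sq_mem
  · refine c.mem_B_of_inX (c.inX_mul (c.inX_inv hψ) hj) ?_
    obtain ⟨δ, hδ⟩ := hq
    refine ⟨-2 * δ, ?_⟩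
    linear_combination q * hβ - 2 * hδ

end Cyc

end CfsgLib.SelfEight
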