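/-
Counting in the cyclic and dihedral cases.
-/
import Cfsg.Agent.Lib.SelfEight.Cyclic

set_option autoImplicit false

namespace CfsgLib.SelfEight

open Subgroup

universe u v

namespace Cyc

variable {S : Type u} [Group S] [Finite S] {B : Subgroup S} {a x : S} {m : ℕ} (c : Cyc B a x m)
  {K : Subgroup S} {V : Type v} [Group V] [Finite V] (f : K →* V) (hexp : ∀ v : V, v * v = 1)

/-- The subgroup `⟨x⟩ B`. -/
def X (B : Subgroup S) (x : S) (m : ℕ) : Subgroup S :=
  centralizer (B : Set S) ⊓ centralizer ({x ^ (2 ^ (m - 1))} : Set S)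

include c in
theorem mem_X {d : S} : d ∈ X B x m ↔ ∃ i, InX B x d i := by
  constructor
  · rintro ⟨hd, hd'⟩
    exact (c.mem_X_iff hd).2 (Subgroup.mem_centralizer_singleton_iff.1 hd')
  · intro hd
    have hdC : d ∈ centralizer (B : Set S) := by obtain ⟨i, hi⟩ := hd; exact c.inX_mem hi
    exact ⟨hdC, Subgroup.mem_centralizer_singleton_iff.2 ((c.mem_X_iff hdC).1 hd)⟩

include c hexp in
theorem z_mem_ker {k : K} (hk : (k : S) ∈ X B x m) (hkB : (k : S) ∉ B) :
    ∃ e : K, (e : S) = x ^ (2 ^ (m - 1)) * x ^ (2 ^ (m - 1)) ∧ f e = 1 := by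
  obtain ⟨i, hi⟩ := c.mem_X.1 hk
  have hex : ∃ r : ℕ, (k : S) ^ (2 ^ r) ∈ B := ⟨m, by
    have := c.mem_B_of_inX (c.inX_zpow hi ((2 ^ m : ℕ) : ℤ)) ⟨i, by push_cast; ring⟩
    rwa [zpow_natCast] at this⟩
  classical
  have hr := Nat.find_spec hex
  obtain ⟨r, hr'⟩ : ∃ r, Nat.find hex = r + 1 := by
    refine ⟨Nat.find hex - 1, (Nat.succ_pred_eq_of_pos ?_).symm⟩
    by_contra h0
    rw [Nat.eq_zero_of_not_pos h0, pow_zero, pow_one] at hr
    exact hkB hr
  have hd : (k : S) ^ (2 ^ r) ∉ B := Nat.find_min hex (by omega)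
  rw [hr', pow_succ, pow_mul, pow_two] at hr
  refine ⟨k ^ (2 ^ r) * k ^ (2 ^ r), ?_, f_sq f hexp _⟩
  rw [Subgroup.coe_mul, Subgroup.coe_pow]
  generalize hD : (k : S) ^ (2 ^ r) = d at hd hr ⊢
  obtain ⟨j, hj⟩ : ∃ j, InX B x d j := ⟨i * ((2 ^ r : ℕ) : ℤ), by
    have := c.inX_zpow hi ((2 ^ r : ℕ) : ℤ)
    rwa [zpow_natCast, hD] at this⟩
  have h0 : (2 ^ m : ℤ) ∣ j + j - 0 := c.inX_unique (c.inX_mul hj hj) (inX_of_B hr)
  have hne : ¬ (2 ^ m : ℤ) ∣ j := fun h => hd (c.mem_B_of_inX hj h)
  obtain ⟨n, hn⟩ := h0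
  have hhalf : (2 : ℤ) ^ m = (2 ^ (m - 1) : ℕ) * 2 := by exact_mod_cast c.two_half
  have hjn : j = (2 ^ (m - 1) : ℕ) * n := by rw [hhalf] at hn; linarith
  rcases Int.even_or_odd n with ⟨k', rfl⟩ | ⟨k', rfl⟩
  · exact absurd ⟨k', by rw [hjn, hhalf]; ring⟩ hne
  obtain ⟨e, he, rfl⟩ := hj
  have hC := le_centralizer c.toSetup.sq he
  rw [hjn, zpow_mul, zpow_natCast]
  have hw : x ^ (2 ^ (m - 1)) ∈ centralizer (B : Set S) := pow_mem c.mem _
  rw [Commute.mul_mul_mul_comm (c.toSetup.cB (zpow_mem hw _) he : Commute ((x ^ (2 ^ (m - 1))) ^ (2 * k' + 1)) e).symm,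
    c.toSetup.sq e he, mul_one, ← zpow_add, show 2 * k' + 1 + (2 * k' + 1) = 2 + 4 * k' by ring, zpow_add, zpow_mul,
    c.u_four, one_zpow, mul_one, zpow_two]

include c hexp in
theorem card_img_X : Nat.card (img f (X B x m)) ≤ 2 * Nat.card (img f B) := by
  classical
  let I : AddSubgroup ℤ :=
    { carrier := {i | ∃ k : K, InX B x (k : S) i}
      zero_mem' := ⟨1, inX_of_B (one_mem B)⟩
      add_mem' := fun {i j} => by
        rintro ⟨k, hk⟩ ⟨l, hl⟩
        exact ⟨k * l, c.inX_mul hk hl⟩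
      neg_mem' := fun {i} => by
        rintro ⟨k, hk⟩
        exact ⟨k⁻¹, c.inX_inv hk⟩ }
  obtain ⟨d, hd⟩ := Int.subgroup_cyclic I
  obtain ⟨k0, hk0⟩ : d ∈ I := by rw [hd]; exact AddSubgroup.mem_closure_singleton_self d
  have hn : ∀ k : K, (k : S) ∈ X B x m → ∃ n : ℤ, InX B x (k : S) (d * n) := fun k hk => by
    obtain ⟨i, hi⟩ := c.mem_X.1 hk
    obtain ⟨n, hn⟩ := AddSubgroup.mem_closure_singleton.1 (show i ∈ AddSubgroup.closure {d} from hd ▸ ⟨k, hi⟩)
    refine ⟨n, ?_⟩
    rw [show d * n = i by rw [← hn, smul_eq_mul, mul_comm]]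
    exact hi
  let key : K → Bool := fun k => if h : (k : S) ∈ X B x m then decide (Even (hn k h).choose) else true
  have := card_img_key f (H := B) (H' := X B x m) key fun k l hk hl e => by
    simp only [key, dif_pos hk, dif_pos hl, decide_eq_decide] at e
    obtain ⟨t, ht⟩ : Even ((hn l hl).choose - (hn k hk).choose) := by
      rw [Int.even_sub]; exact e.symm
    have h1 := c.inX_mul (c.inX_inv (c.inX_zpow hk0 (t + t)))
      (c.inX_mul (c.inX_inv (hn k hk).choose_spec) (hn l hl).choose_spec)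
    have hB : (((k0 ^ (t + t))⁻¹ * (k⁻¹ * l) : K) : S) ∈ B := by
      refine c.mem_B_of_inX (i := -(d * (t + t)) + (-(d * (hn k hk).choose) + d * (hn l hl).choose)) ?_ ?_
      · simpa using h1
      · exact ⟨0, by rw [← ht]; ring⟩
    have := mem_img f hB
    rwa [map_mul, map_inv, zpow_add, map_mul, hexp, inv_one, one_mul, map_mul, map_inv] at this
  simpa using this

include c in
theorem card_img_X_odd {k : K} {i : ℤ} (hk : InX B x (k : S) i) (hi : Odd i) (hfk : f k ∈ img f B) :
    Nat.card (img f (X B x m)) ≤ Nat.card (img f B) := by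
  refine Subgroup.card_le_of_le ?_
  rintro _ ⟨l, hl, rfl⟩
  obtain ⟨j, hj⟩ := c.mem_X.1 (Subgroup.mem_subgroupOf.1 hl)
  obtain ⟨q, hq⟩ := c.exists_coprime hi j
  have hB : (((k ^ q)⁻¹ * l : K) : S) ∈ B := by
    refine c.mem_B_of_inX (i := -(i * q) + j) ?_ ?_
    · simpa using c.inX_mul (c.inX_inv (c.inX_zpow hk q)) hj
    · obtain ⟨n, hn⟩ := hq
      exact ⟨-n, by linear_combination -hn⟩
  have := mul_mem (zpow_mem hfk q) (mem_img f hB)
  rwa [← map_zpow, ← map_mul, mul_inv_cancel_left] at this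

include c in
theorem card_img_C : Nat.card (img f (centralizer (B : Set S))) ≤ 2 * Nat.card (img f (X B x m)) := by
  classical
  have := card_img_key f (H := X B x m) (H' := centralizer (B : Set S)) (fun k : K => decide ((k : S) ∈ X B x m))
    fun k l hk hl e => by
      rw [← map_inv, ← map_mul]
      refine mem_img f ?_
      by_cases hkX : (k : S) ∈ X B x m
      · exact mul_mem (inv_mem hkX) (by simpa [hkX] using e)
      · have hlX : (l : S) ∉ X B x m := by simpa [hkX] using e
        refine ⟨Subgroup.mul_mem _ (Subgroup.inv_mem _ hk) hl, Subgroup.mem_centralizer_singleton_iff.2 ?_⟩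
        have e1 := c.invert_u hk (fun h => hkX (c.mem_X.2 h))
        have e2 := c.invert_u hl (fun h => hlX (c.mem_X.2 h))
        refine mul_inv_eq_iff_eq_mul.1 ?_
        calc (k : S)⁻¹ * l * x ^ (2 ^ (m - 1)) * ((k : S)⁻¹ * l)⁻¹
            = (k : S)⁻¹ * (l * x ^ (2 ^ (m - 1)) * (l : S)⁻¹) * k := by group
          _ = (k : S)⁻¹ * (k * x ^ (2 ^ (m - 1)) * (k : S)⁻¹) * k := by rw [e2, e1]
          _ = x ^ (2 ^ (m - 1)) := by group
  simpa using this

include c hexp in
theorem bound (hf : Function.Surjective f) : Nat.card V ≤ 16 := by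
  classical
  have h := c.toSetup
  have hn := h.normal
  have hm := h.hom_a
  obtain ⟨hau, hz1⟩ := c.a_inv_u
  set w := x ^ (2 ^ (m - 1)) with hw
  set z := w * w with hzdef
  have hzB : z ∈ B := c.u_sq_mem
  have hzc : ∀ s : S, s * z = z * s := c.z_central
  have hwC : w ∈ centralizer (B : Set S) := pow_mem c.mem _
  have ez : ∀ s : S, s * z * s⁻¹ = z := fun s => by rw [hzc, mul_inv_cancel_right]
  have eaz : a * z * a = z := h.comm_iff.1 (hzc a)
  obtain ⟨p, f0, hp, hf0, hp1, hap, haf, hP⟩ := h.exists_comm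
  have hzp : z ≠ p := fun e => by
    refine c.half ?_
    have hmem := h.fix (w * f0) (mul_mem hwC (le_centralizer h.sq hf0)) (h.comm_iff.2 (by
      rw [hm, hau, haf, ← e, hzc f0, ← mul_assoc, hzdef, inv_mul_cancel_left]))
    have := mul_mem hmem (inv_mem hf0)
    rwa [mul_inv_cancel_right] at this
  obtain ⟨F, hF, -, -, hF', -, eF, hfl⟩ := h.flag_of_ne hzB hz1 hzc hP hzp
  have hrel : ∀ s t : S, s * p * s⁻¹ = t * p * t⁻¹ → s * F * s⁻¹ = t * F * t⁻¹ →
      s⁻¹ * t ∈ centralizer (B : Set S) := fun s t e1 e2 => by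
    refine mem_centralizer_of_basis h.sq h.card hzB hp hF hz1 hp1 (Ne.symm hzp) hF' (hzc _).symm ?_ ?_
    · calc p * (s⁻¹ * t) = s⁻¹ * (s * p * s⁻¹) * t := by group
        _ = s⁻¹ * t * p := by rw [e1]; group
    · calc F * (s⁻¹ * t) = s⁻¹ * (s * F * s⁻¹) * t := by group
        _ = s⁻¹ * t * F := by rw [e2]; group
  have hFx : ∀ g : S, g * p * g⁻¹ = p → Fx B a g := by
    intro g hg e he hfe
    rcases h.fixed_cases hp hzB hF hp1 hz1 hzp ⟨hF'.1, hF'.2.2.1, hF'.2.1, by
        rw [comm_of_sq h.sq hzB hp]; exact hF'.2.2.2⟩ hap eaz eF he hfe with rfl | rfl | rfl | rfl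
    · simp
    · exact mul_inv_eq_iff_eq_mul.1 hg
    · exact hzc g
    · exact (Commute.mul_right (hzc g) (mul_inv_eq_iff_eq_mul.1 hg : Commute g p)).eq
  have hcls : ∀ g : S, g * p * g⁻¹ = p → (g * F * g⁻¹ = F ∨ g * F * g⁻¹ = F * p) →
      g ∈ centralizer (B : Set S) ∨ a * g ∈ centralizer (B : Set S) := by
    intro g hg e
    rcases e with e | e
    · left
      have := hrel 1 g (by rw [hg]; group) (by rw [e]; group)
      rwa [inv_one, one_mul] at this
    · right
      have := hrel a g (by rw [hg, ← h.conj_a, hap]) (by rw [e, ← h.conj_a, eF])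
      rwa [h.ai] at this
  have hsqC : ∀ g : S, g * p * g⁻¹ = p → g * g ∈ centralizer (B : Set S) := fun g hg => by
    have ee : g * g * F * (g * g)⁻¹ = F := by
      rw [show g * g * F * (g * g)⁻¹ = g * (g * F * g⁻¹) * g⁻¹ by group]
      rcases (hfl g).2 with e | e | e | e <;> rw [e]
      · exact e
      · rw [conj_mul', e, ez, mul_assoc, h.sq z hzB, mul_one]
      · rw [conj_mul', e, hg, mul_assoc, h.sq p hp, mul_one]
      · rw [conj_mul', e, conj_mul', hg, ez, mul_assoc, h.sq _ (mul_mem hp hzB), mul_one]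
    have := hrel 1 (g * g) (by rw [show g * g * p * (g * g)⁻¹ = g * (g * p * g⁻¹) * g⁻¹ by group, hg, hg]; group)
      (by rw [ee]; group)
    rwa [inv_one, one_mul] at this
  let allEven : Prop := ∀ (k : K) (i : ℤ), InX B x (k : S) i → f k ∈ img f B → Even i
  have hodd : ¬ allEven → Nat.card (img f (X B x m)) ≤ Nat.card (img f B) := fun hE => by
    simp only [allEven, not_forall] at hE
    obtain ⟨k, i, hk, hfk, hi⟩ := hE
    exact c.card_img_X_odd f hk (Int.not_even_iff_odd.1 hi) hfk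
  have hK0 : allEven → ∀ g : K, (g : S) * p * (g : S)⁻¹ = p → (g : S) ∉ centralizer (B : Set S) →
      a * (g : S) ∉ centralizer (B : Set S) → (g : S) * w = w * g → False := by
    intro hE g hg h1 h2 hgw
    obtain ⟨i, hi⟩ := c.mem_X.1 (show (g : S) * g ∈ X B x m from ⟨hsqC _ hg, Subgroup.mem_centralizer_singleton_iff.2
      (by rw [mul_assoc, hgw, ← mul_assoc, hgw, mul_assoc])⟩)
    obtain ⟨l, hl⟩ := hE (g * g) i hi (by rw [f_sq f hexp g]; exact one_mem _)
    exact c.no_even_sq (hFx _ hg) h1 h2 hgw (l := l) (by rw [two_mul, ← hl]; exact hi)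
  have h4 := card_le_four_mul f h.card hexp hn h.hS h.sq hf
  have h8 := card_img_B f h.card
  have hX2 := c.card_img_X f hexp
  have hr1 : (∀ k : K, (k : S) ∈ centralizer (B : Set S)) →
      Nat.card V ≤ Nat.card (img f (centralizer (B : Set S))) := by
    intro hk
    have := card_le_key f hf (H := centralizer (B : Set S)) (fun _ => ()) fun c d _ =>
      img_C_normal_rel f hn (mul_mem (inv_mem (hk c)) (hk d))
    simpa using this
  have hr2 : (∀ k l : K, (k : S) ∉ centralizer (B : Set S) → (l : S) ∉ centralizer (B : Set S) →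
      (k : S)⁻¹ * l ∈ centralizer (B : Set S)) → Nat.card V ≤ 2 * Nat.card (img f (centralizer (B : Set S))) := by
    intro hcl
    have := card_le_key f hf (H := centralizer (B : Set S))
      (fun k : K => decide ((k : S) ∈ centralizer (B : Set S))) fun k l e => by
      refine img_C_normal_rel f hn ?_
      by_cases hk : (k : S) ∈ centralizer (B : Set S)
      · exact mul_mem (inv_mem hk) (by simpa [hk] using e)
      · exact hcl k l hk (by simpa [hk] using e)
    simpa using this
  have hle : ∀ {H H' : Subgroup S}, H' ⊓ K ≤ H → Nat.card (img f H') ≤ Nat.card (img f H) := by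
    intro H H' hH
    refine Subgroup.card_le_of_le ?_
    rintro _ ⟨k, hk, rfl⟩
    exact mem_img f (hH ⟨Subgroup.mem_subgroupOf.1 hk, k.2⟩)
  by_cases hdih : ∃ y ∈ centralizer (B : Set S), y ∉ X B x m
  · -- dihedral
    obtain ⟨y, hy, hyX⟩ := hdih
    have hyw := c.invert_u hy (fun e => hyX (c.mem_X.2 e))
    rw [← hw] at hyw
    have hfixp : ∀ s : S, s * p * s⁻¹ = p := by
      intro s
      by_contra hsp
      have esp := (hfl s).1.resolve_left hsp
      obtain ⟨t, etp, etf⟩ : ∃ t : S, t * p * t⁻¹ = p * z ∧ (t * F * t⁻¹ = F * p ∨ t * F * t⁻¹ = F * (p * z)) := by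
        rcases (hfl s).2 with e | e | e | e
        · refine ⟨a * s, ?_, Or.inl ?_⟩
          · rw [show a * s * p * (a * s)⁻¹ = a * (s * p * s⁻¹) * a⁻¹ by group, h.ai, esp, hm, hap, eaz]
          · rw [show a * s * F * (a * s)⁻¹ = a * (s * F * s⁻¹) * a⁻¹ by group, h.ai, e, eF]
        · refine ⟨a * s, ?_, Or.inr ?_⟩
          · rw [show a * s * p * (a * s)⁻¹ = a * (s * p * s⁻¹) * a⁻¹ by group, h.ai, esp, hm, hap, eaz]
          · rw [show a * s * F * (a * s)⁻¹ = a * (s * F * s⁻¹) * a⁻¹ by group, h.ai, e, hm, eF, eaz, mul_assoc]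
        · exact ⟨s, esp, Or.inl e⟩
        · exact ⟨s, esp, Or.inr e⟩
      -- choose it inverting `w`
      obtain ⟨t', etp', etf', etw⟩ : ∃ t' : S, t' * p * t'⁻¹ = p * z ∧
          (t' * F * t'⁻¹ = F * p ∨ t' * F * t'⁻¹ = F * (p * z)) ∧ t' * w * t'⁻¹ = w⁻¹ := by
        rcases c.conj_u t with e | e
        · refine ⟨t * y, ?_, ?_, ?_⟩
          · rw [show t * y * p * (t * y)⁻¹ = t * (y * p * y⁻¹) * t⁻¹ by group, h.conj_B hy hp, etp]
          · rw [show t * y * F * (t * y)⁻¹ = t * (y * F * y⁻¹) * t⁻¹ by group, h.conj_B hy hF]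
            exact etf
          · rw [show t * y * w * (t * y)⁻¹ = t * (y * w * y⁻¹) * t⁻¹ by group, hyw,
              show t * w⁻¹ * t⁻¹ = (t * w * t⁻¹)⁻¹ by group, hw, e]
        · exact ⟨t, etp, etf, e⟩
      have hgp : t' * t' * p * (t' * t')⁻¹ = p := by
        rw [show t' * t' * p * (t' * t')⁻¹ = t' * (t' * p * t'⁻¹) * t'⁻¹ by group, etp', conj_mul', etp', ez,
          mul_assoc, h.sq z hzB, mul_one]
      have hgF : t' * t' * F * (t' * t')⁻¹ = F * z := by
        rw [show t' * t' * F * (t' * t')⁻¹ = t' * (t' * F * t'⁻¹) * t'⁻¹ by group]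
        rcases etf' with e | e <;> rw [e, conj_mul']
        · rw [e, etp', mul_assoc, ← mul_assoc p, h.sq p hp, one_mul]
        · rw [conj_mul', etp', ez, e, show F * (p * z) * (p * z * z) = F * (p * z * (p * z) * z) by group,
            h.sq _ (mul_mem hp hzB), one_mul]
      have hgw : t' * t' * w = w * (t' * t') := by
        refine mul_inv_eq_iff_eq_mul.1 ?_
        rw [show t' * t' * w * (t' * t')⁻¹ = t' * (t' * w * t'⁻¹) * t'⁻¹ by group, etw,
          show t' * w⁻¹ * t'⁻¹ = (t' * w * t'⁻¹)⁻¹ by group, etw, inv_inv]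
      obtain ⟨l, hl⟩ := c.mem_X.1 (show t' * t' * (t' * t') ∈ X B x m from ⟨hsqC _ hgp,
        Subgroup.mem_centralizer_singleton_iff.2 (by rw [mul_assoc, hgw, ← mul_assoc, hgw, mul_assoc])⟩)
      have hC : t' * t' ∉ centralizer (B : Set S) := fun e =>
        hz1 (mul_eq_left.1 (hgF.symm.trans (h.conj_B e hF)))
      have haC : a * (t' * t') ∉ centralizer (B : Set S) := fun e => by
        have h1 := h.conj_B e hF
        rw [show a * (t' * t') * F * (a * (t' * t'))⁻¹ = a * (t' * t' * F * (t' * t')⁻¹) * a⁻¹ by group, hgF, h.ai, hm,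
          eF, eaz, mul_assoc, mul_eq_left] at h1
        exact hzp (by rw [← one_mul z, ← h.sq p hp, mul_assoc, h1, mul_one])
      rcases Int.even_or_odd l with ⟨k, rfl⟩ | hlodd
      · exact c.no_even_sq (hFx _ hgp) hC haC hgw (l := k) (by rw [two_mul]; exact hl)
      · -- `t'` would centralise `w`
        obtain ⟨e, he, hQ⟩ := hl
        have h5 := c.zpow_half he l
        rw [← hQ, ← hw] at h5
        have hcom : Commute t' (w ^ l) := by
          rw [← h5]
          exact (((Commute.refl t').mul_right (Commute.refl t')).mul_right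
            ((Commute.refl t').mul_right (Commute.refl t'))).pow_right _
        have hwl := c.u_zpow_mod l
        rw [← hw] at hwl
        have hw4 := c.u_four
        rw [← hw] at hw4
        have := Int.odd_iff.1 hlodd
        have hcw : Commute t' w := by
          rcases (show l % 4 = 1 ∨ l % 4 = 3 by omega) with e4 | e4 <;> rw [hwl, e4] at hcom
          · rwa [zpow_one] at hcom
          · have := hcom.inv_right
            rwa [← zpow_neg, show (-3 : ℤ) = -4 + 1 by norm_num, zpow_add, zpow_neg, hw4, inv_one, one_mul,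
              zpow_one] at this
        rw [hcw.eq, mul_inv_cancel_right] at etw
        exact c.u_ne_inv etw
    have hprod : ∀ g g' : S, g ∉ centralizer (B : Set S) → a * g ∉ centralizer (B : Set S) →
        g' ∉ centralizer (B : Set S) → a * g' ∉ centralizer (B : Set S) →
        g⁻¹ * g' ∈ centralizer (B : Set S) ∨ a * (g⁻¹ * g') ∈ centralizer (B : Set S) := by
      intro g g' g1 g2 g1' g2'
      have hmv : ∀ g : S, g ∉ centralizer (B : Set S) → a * g ∉ centralizer (B : Set S) →
          g * F * g⁻¹ = F * z ∨ g * F * g⁻¹ = F * (p * z) := fun g u1 u2 => by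
        rcases (hfl g).2 with e | e | e | e
        · exact ((hcls g (hfixp g) (Or.inl e)).elim u1 u2).elim
        · exact Or.inl e
        · exact ((hcls g (hfixp g) (Or.inr e)).elim u1 u2).elim
        · exact Or.inr e
      have hg'F := hmv g' g1' g2'
      refine hcls _ (hfixp _) ?_
      have hq : g⁻¹ * F * g = F * z ∨ g⁻¹ * F * g = F * (p * z) := by
        rcases hmv g g1 g2 with e | e
        · left
          calc g⁻¹ * F * g = g⁻¹ * (g * (F * z) * g⁻¹) * g := by
                rw [conj_mul', e, ez, mul_assoc F, h.sq z hzB, mul_one]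
            _ = F * z := by group
        · right
          calc g⁻¹ * F * g = g⁻¹ * (g * (F * (p * z)) * g⁻¹) * g := by
                rw [conj_mul', e, conj_mul', hfixp, ez, mul_assoc F, h.sq _ (mul_mem hp hzB), mul_one]
            _ = F * (p * z) := by group
      have ep' : g⁻¹ * p * g = p := by simpa using hfixp g⁻¹
      have ez' : g⁻¹ * z * g = z := by simpa using ez g⁻¹
      rw [show g⁻¹ * g' * F * (g⁻¹ * g')⁻¹ = g⁻¹ * (g' * F * g'⁻¹) * g by group]
      rcases hg'F with e | e <;> rw [e]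
      · rw [show g⁻¹ * (F * z) * g = g⁻¹ * F * g * (g⁻¹ * z * g) by group, ez']
        rcases hq with e' | e' <;> rw [e']
        · exact Or.inl (by rw [mul_assoc, h.sq z hzB, mul_one])
        · exact Or.inr (by rw [mul_assoc, mul_assoc p, h.sq z hzB, mul_one])
      · rw [show g⁻¹ * (F * (p * z)) * g = g⁻¹ * F * g * (g⁻¹ * p * g * (g⁻¹ * z * g)) by group, ez', ep']
        rcases hq with e' | e' <;> rw [e']
        · exact Or.inr (by rw [mul_assoc, ← mul_assoc z, comm_of_sq h.sq hzB hp, mul_assoc p, h.sq z hzB, mul_one])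
        · exact Or.inl (by rw [mul_assoc, h.sq _ (mul_mem hp hzB), mul_one])
    have hC2 := c.card_img_C f
    -- the possible classes
    by_cases hA : ∃ k : K, (k : S) ∉ centralizer (B : Set S) ∧ a * (k : S) ∈ centralizer (B : Set S)
    · obtain ⟨k, hk, hak⟩ := hA
      have hB4 := card_img_moved f h.card hexp hn hk
      have hB2 : (∃ e : K, (e : S) = z ∧ f e = 1) → Nat.card (img f B) ≤ 2 := by
        rintro ⟨e, heS, hfe⟩
        by_cases hBK : B ≤ K
        · obtain ⟨e', heS', hfe'⟩ : ∃ e' : K, (e' : S) = p ∧ f e' = 1 := by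
            refine ⟨k * ⟨F, hBK hF⟩ * k⁻¹ * ⟨F, hBK hF⟩⁻¹, ?_, f_comm f hexp _ _⟩
            show (k : S) * F * (k : S)⁻¹ * F⁻¹ = p
            have h1 := h.conj_B hak hF
            have h2 : (k : S) * F * (k : S)⁻¹ = F * p := by
              rw [← eF, show (k : S) * F * (k : S)⁻¹ = a⁻¹ * (a * k * F * (a * k)⁻¹) * a by group, h1, h.ai]
            rw [h2, comm_of_sq h.sq hF hp, mul_inv_cancel_right]
          exact card_img_two f h.card (heS ▸ hzB) (heS ▸ hz1) hfe (heS' ▸ hp) (heS' ▸ hp1) hfe'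
            (by rw [heS, heS']; exact hzp)
        · exact (card_img_one f h.card (e := e) (heS ▸ hzB) (heS ▸ hz1) hfe).2 hBK
      by_cases hXB : X B x m ⊓ K ≤ B
      · -- no kernel beyond `B`
        have hXle := hle hXB
        by_cases hy' : centralizer (B : Set S) ⊓ K ≤ X B x m
        · exact bound_trivial f h.card hexp hn h.hS h.sq hf fun d hd => hXB ⟨hy' hd, hd.2⟩
        · obtain ⟨y1, ⟨hy1, hy1K⟩, hy1X⟩ := SetLike.not_le_iff_exists.1 hy'
          have hE : allEven := fun l i hi _ => by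
            obtain ⟨n, hn'⟩ := c.inX_unique hi (inX_of_B (hXB ⟨c.mem_X.2 ⟨i, hi⟩, l.2⟩))
            rw [sub_zero] at hn'
            rw [hn']
            exact (Int.even_pow.2 ⟨even_two, by have := c.hm; omega⟩).mul_right n
          have := hr2 fun g g' g1 g1' => by
            have hno : ∀ g : K, (g : S) ∉ centralizer (B : Set S) → a * (g : S) ∈ centralizer (B : Set S) := by
              intro g g1
              by_contra g2
              rcases c.conj_u (g : S) with e | e <;> rw [← hw] at e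
              · exact hK0 hE g (hfixp _) g1 g2 (mul_inv_eq_iff_eq_mul.1 e)
              · have hyw1 := c.invert_u hy1 (fun e' => hy1X (c.mem_X.2 e'))
                rw [← hw] at hyw1
                refine hK0 hE (g * ⟨y1, hy1K⟩) (hfixp _) (fun e' => g1 ?_) (fun e' => g2 ?_) ?_
                · simpa using mul_mem e' (inv_mem hy1)
                · simpa [mul_assoc] using mul_mem e' (inv_mem hy1)
                · refine mul_inv_eq_iff_eq_mul.1 ?_
                  show (g : S) * y1 * w * ((g : S) * y1)⁻¹ = w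
                  rw [show (g : S) * y1 * w * ((g : S) * y1)⁻¹ = g * (y1 * w * y1⁻¹) * (g : S)⁻¹ by group, hyw1,
                    show (g : S) * w⁻¹ * (g : S)⁻¹ = ((g : S) * w * (g : S)⁻¹)⁻¹ by group, e, inv_inv]
            have := mul_mem (inv_mem (hno g g1)) (hno g' g1')
            rwa [mul_inv_rev, mul_assoc, inv_mul_cancel_left] at this
          omega
      · obtain ⟨x0, ⟨hx0, hx0K⟩, hx0B⟩ := SetLike.not_le_iff_exists.1 hXB
        have hB2' := hB2 (c.z_mem_ker f hexp (k := ⟨x0, hx0K⟩) hx0 hx0B)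
        by_cases hy' : centralizer (B : Set S) ⊓ K ≤ X B x m
        · have := hle hy'
          omega
        · obtain ⟨y1, ⟨hy1, hy1K⟩, hy1X⟩ := SetLike.not_le_iff_exists.1 hy'
          by_cases hC : ∃ g : K, (g : S) ∉ centralizer (B : Set S) ∧ a * (g : S) ∉ centralizer (B : Set S)
          · obtain ⟨g, g1, g2⟩ := hC
            have := hodd fun hE => by
              rcases c.conj_u (g : S) with e | e <;> rw [← hw] at e
              · exact hK0 hE g (hfixp _) g1 g2 (mul_inv_eq_iff_eq_mul.1 e)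
              · have hyw1 := c.invert_u hy1 (fun e' => hy1X (c.mem_X.2 e'))
                rw [← hw] at hyw1
                refine hK0 hE (g * ⟨y1, hy1K⟩) (hfixp _) (fun e' => g1 ?_) (fun e' => g2 ?_) ?_
                · simpa using mul_mem e' (inv_mem hy1)
                · simpa [mul_assoc] using mul_mem e' (inv_mem hy1)
                · refine mul_inv_eq_iff_eq_mul.1 ?_
                  show (g : S) * y1 * w * ((g : S) * y1)⁻¹ = w
                  rw [show (g : S) * y1 * w * ((g : S) * y1)⁻¹ = g * (y1 * w * y1⁻¹) * (g : S)⁻¹ by group, hyw1,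
                    show (g : S) * w⁻¹ * (g : S)⁻¹ = ((g : S) * w * (g : S)⁻¹)⁻¹ by group, e, inv_inv]
            omega
          · push Not at hC
            have := hr2 fun g g' g1 g1' => by
              have := mul_mem (inv_mem (hC g g1)) (hC g' g1')
              rwa [mul_inv_rev, mul_assoc, inv_mul_cancel_left] at this
            omega
    · push Not at hA
      have hV2 := hr2 fun g g' g1 g1' => by
        rcases hprod _ _ g1 (hA g g1) g1' (hA g' g1') with e | e
        · exact e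
        · by_contra hne
          exact hA (g⁻¹ * g') hne e
      by_cases hCK : ∀ k : K, (k : S) ∈ centralizer (B : Set S)
      · have hV1 := hr1 hCK
        by_cases hXB : X B x m ⊓ K ≤ B
        · have := hle hXB
          omega
        · obtain ⟨x0, ⟨hx0, hx0K⟩, hx0B⟩ := SetLike.not_le_iff_exists.1 hXB
          obtain ⟨e, heS, hfe⟩ := c.z_mem_ker f hexp (k := ⟨x0, hx0K⟩) hx0 hx0B
          have := (card_img_one f h.card (e := e) (heS ▸ hzB) (heS ▸ hz1) hfe).1
          omega
      · push Not at hCK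
        obtain ⟨g, g1⟩ := hCK
        have g2 := hA g g1
        have hB4 := card_img_moved f h.card hexp hn g1
        by_cases hy' : centralizer (B : Set S) ⊓ K ≤ X B x m
        · have := hle hy'
          omega
        · obtain ⟨y1, ⟨hy1, hy1K⟩, hy1X⟩ := SetLike.not_le_iff_exists.1 hy'
          have := hodd fun hE => by
            rcases c.conj_u (g : S) with e | e <;> rw [← hw] at e
            · exact hK0 hE g (hfixp _) g1 g2 (mul_inv_eq_iff_eq_mul.1 e)
            · have hyw1 := c.invert_u hy1 (fun e' => hy1X (c.mem_X.2 e'))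
              rw [← hw] at hyw1
              refine hK0 hE (g * ⟨y1, hy1K⟩) (hfixp _) (fun e' => g1 ?_) (fun e' => g2 ?_) ?_
              · simpa using mul_mem e' (inv_mem hy1)
              · simpa [mul_assoc] using mul_mem e' (inv_mem hy1)
              · refine mul_inv_eq_iff_eq_mul.1 ?_
                show (g : S) * y1 * w * ((g : S) * y1)⁻¹ = w
                rw [show (g : S) * y1 * w * ((g : S) * y1)⁻¹ = g * (y1 * w * y1⁻¹) * (g : S)⁻¹ by group, hyw1,
                  show (g : S) * w⁻¹ * (g : S)⁻¹ = ((g : S) * w * (g : S)⁻¹)⁻¹ by group, e, inv_inv]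
          omega
  · -- cyclic
    push Not at hdih
    have hCX : Nat.card (img f (centralizer (B : Set S))) ≤ Nat.card (img f (X B x m)) :=
      hle fun d hd => hdih d hd.1
    by_cases htriv : X B x m ⊓ K ≤ B
    · exact bound_trivial f h.card hexp hn h.hS h.sq hf fun d hd => htriv ⟨hdih d hd.1, hd.2⟩
    obtain ⟨x0, ⟨hx0, hx0K⟩, hx0B⟩ := SetLike.not_le_iff_exists.1 htriv
    obtain ⟨ez0, heS, hfe⟩ := c.z_mem_ker f hexp (k := ⟨x0, hx0K⟩) hx0 hx0B
    obtain ⟨hB4, hB2⟩ := card_img_one f h.card (e := ez0) (heS ▸ hzB) (heS ▸ hz1) hfe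
    by_cases hcl : ∀ k l : K, (k : S) ∉ centralizer (B : Set S) → (l : S) ∉ centralizer (B : Set S) →
        (k : S)⁻¹ * l ∈ centralizer (B : Set S)
    · have := hr2 hcl
      omega
    push Not at hcl
    obtain ⟨k, l, hk, hl, hkl⟩ := hcl
    suffices Nat.card (img f B) ≤ 2 ∨ Nat.card (img f (X B x m)) ≤ Nat.card (img f B) by omega
    by_cases hBK : B ≤ K
    swap
    · exact Or.inl (hB2 hBK)
    refine or_iff_not_imp_left.2 fun hbig => hodd fun hE => ?_
    have hone : ∀ e : K, (e : S) ∈ B → f e = 1 → (e : S) = 1 ∨ (e : S) = z := fun e heB hf1 => by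
      by_contra hc
      push Not at hc
      exact hbig (card_img_two f h.card heB hc.1 hf1 (heS ▸ hzB) (heS ▸ hz1) hfe (by rw [heS]; exact hc.2))
    have hmove : ∀ (g : K) (q : S), q ∈ B → (g : S) * q * (g : S)⁻¹ = q ∨ (g : S) * q * (g : S)⁻¹ = q * z := by
      intro g q hq
      rcases hone (g * ⟨q, hBK hq⟩ * g⁻¹ * ⟨q, hBK hq⟩⁻¹) (mul_mem (hn.conj_mem q hq g) (inv_mem hq))
        (f_comm f hexp _ _) with e1 | e1
      · exact Or.inl (mul_inv_eq_one.1 e1)
      · refine Or.inr ?_
        have e2 : (g : S) * q * (g : S)⁻¹ * q⁻¹ = z := e1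
        rw [mul_inv_eq_iff_eq_mul.1 e2, comm_of_sq h.sq hzB hq]
    have hdet : ∀ s : K, (s : S) ∉ centralizer (B : Set S) → (s : S) * p * (s : S)⁻¹ = p →
        (s : S) * F * (s : S)⁻¹ = F * z := fun s hs e => by
      refine (hmove s F hF).resolve_left fun e' => hs ?_
      have := hrel 1 s (by rw [e]; group) (by rw [e']; group)
      rwa [inv_one, one_mul] at this
    obtain ⟨g, hg1, hgp⟩ : ∃ g : K, (g : S) ∉ centralizer (B : Set S) ∧ (g : S) * p * (g : S)⁻¹ = p := by
      rcases hmove k p hp with e | e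
      · exact ⟨k, hk, e⟩
      rcases hmove l p hp with e' | e'
      · exact ⟨l, hl, e'⟩
      refine ⟨k⁻¹ * l, hkl, ?_⟩
      rw [Subgroup.coe_mul, Subgroup.coe_inv,
        show (k : S)⁻¹ * l * p * ((k : S)⁻¹ * l)⁻¹ = (k : S)⁻¹ * (l * p * (l : S)⁻¹) * k by group, e', ← e]
      group
    have hgF := hdet g hg1 hgp
    obtain ⟨n, hnp⟩ : ∃ n : K, (n : S) * p * (n : S)⁻¹ = p * z := by
      by_contra hc
      push Not at hc
      refine hkl (hrel _ _ ?_ ?_)
      · rw [(hmove k p hp).resolve_right (hc k), (hmove l p hp).resolve_right (hc l)]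
      · rw [hdet k hk ((hmove k p hp).resolve_right (hc k)), hdet l hl ((hmove l p hp).resolve_right (hc l))]
    have hgC2 : a * (g : S) ∉ centralizer (B : Set S) := fun e => by
      have h1 := h.conj_B e hF
      rw [show a * (g : S) * F * (a * g)⁻¹ = a * (g * F * (g : S)⁻¹) * a⁻¹ by group, hgF, h.ai, hm, eF, eaz,
        mul_assoc, mul_eq_left] at h1
      exact hzp (by rw [← one_mul z, ← h.sq p hp, mul_assoc, h1, mul_one])
    refine hK0 hE g hgp hg1 hgC2 ?_
    -- `g` is a commutator of `a` and `n` modulo `C`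
    set co := a * (n : S) * a * (n : S)⁻¹ with hco
    have cB : ∀ q : S, co * q * co⁻¹ = a * (n * (a * ((n : S)⁻¹ * q * n) * a) * (n : S)⁻¹) * a := fun q => by
      rw [hco, mul_inv_rev, mul_inv_rev, mul_inv_rev, inv_inv, h.ai]; group
    have hnp' : (n : S)⁻¹ * p * n = p * z := by
      calc (n : S)⁻¹ * p * n = (n : S)⁻¹ * (n * (p * z) * (n : S)⁻¹) * n := by
            rw [conj_mul', hnp, ez, mul_assoc p, h.sq z hzB, mul_one]
        _ = p * z := by group
    have cp : co * p * co⁻¹ = p := by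
      rw [cB, hnp', hm p z, hap, eaz, conj_mul', hnp, ez, mul_assoc p z z, h.sq z hzB, mul_one, hap]
    obtain ⟨ε, hε, hnF, hnF'⟩ : ∃ ε, (ε = 1 ∨ ε = z) ∧ (n : S) * F * (n : S)⁻¹ = F * ε ∧
        (n : S)⁻¹ * F * n = F * ε := by
      rcases hmove n F hF with e | e
      · refine ⟨1, Or.inl rfl, by rw [mul_one]; exact e, ?_⟩
        rw [mul_one]
        calc (n : S)⁻¹ * F * n = (n : S)⁻¹ * (n * F * (n : S)⁻¹) * n := by rw [e]
          _ = F := by group
      · refine ⟨z, Or.inr rfl, e, ?_⟩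
        calc (n : S)⁻¹ * F * n = (n : S)⁻¹ * (n * (F * z) * (n : S)⁻¹) * n := by
              rw [conj_mul', e, ez, mul_assoc F, h.sq z hzB, mul_one]
          _ = F * z := by group
    have hε' : a * ε * a = ε ∧ (n : S) * ε * (n : S)⁻¹ = ε ∧ ε * ε = 1 ∧ ε ∈ B := by
      rcases hε with rfl | rfl
      · exact ⟨by rw [mul_one, h.aa], by group, one_mul 1, one_mem _⟩
      · exact ⟨eaz, ez _, h.sq _ hzB, hzB⟩
    have cF : co * F * co⁻¹ = F * z := by
      rw [cB, hnF', hm F ε, eF, hε'.1, conj_mul', conj_mul', hnF, hnp, hε'.2.1,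
        show F * ε * (p * z) * ε = F * (ε * (p * z) * ε) by group, comm_of_sq h.sq hε'.2.2.2 (mul_mem hp hzB),
        mul_assoc (p * z), hε'.2.2.1, mul_one, hm F (p * z), hm p z, eF, hap, eaz, mul_assoc, ← mul_assoc p,
        h.sq p hp, one_mul]
    have hcg := hdih _ (hrel co g (cp.trans hgp.symm) (cF.trans hgF.symm))
    have hcw : co * w = w * co := by
      refine mul_inv_eq_iff_eq_mul.1 ?_
      rw [cB]
      have hinv : a * w⁻¹ * a = w := by
        rw [show a * w⁻¹ * a = (a⁻¹ * w * a⁻¹)⁻¹ by group, h.ai, hau, inv_inv]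
      rcases c.conj_u ((n : S)⁻¹) with e | e <;> rw [← hw, inv_inv] at e <;> rw [e]
      · rw [hau]
        have : (n : S) * w⁻¹ * (n : S)⁻¹ = w⁻¹ := by
          rw [show (n : S) * w⁻¹ * (n : S)⁻¹ = n * (((n : S)⁻¹ * w * n))⁻¹ * (n : S)⁻¹ by rw [e]]; group
        rw [this, hinv]
      · rw [hinv]
        have : (n : S) * w * (n : S)⁻¹ = w⁻¹ := by
          rw [show (n : S) * w * (n : S)⁻¹ = n * (((n : S)⁻¹ * w * n))⁻¹ * (n : S)⁻¹ by rw [e, inv_inv]]; group
        rw [this, hinv]
    have hcgw := Subgroup.mem_centralizer_singleton_iff.1 hcg.2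
    rw [← hw] at hcgw
    calc (g : S) * w = co * (co⁻¹ * g * w) := by group
      _ = co * (w * (co⁻¹ * g)) := by rw [hcgw]
      _ = w * g := by rw [← mul_assoc, hcw]; group

end Cyc

end CfsgLib.SelfEight
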