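/-
A self-centralising elementary abelian subgroup of order eight bounds the sectional rank by four.
-/
import Cfsg.Agent.Lib.SelfEight.CycBound
import Cfsg.Agent.Lib.MaximalClass
import Cfsg.Agent.Lib.MacWilliams.Main
import Cfsg.Agent.Lib.PGroup.RankTwoNormal

set_option autoImplicit false

namespace CfsgLib.SelfEight

open Subgroup

universe u v

variable {S : Type u} [Group S] [Finite S]

/-- The subgroup `C ∪ aC`. -/
def Setup.ext {B : Subgroup S} {a : S} (h : Setup B a) : Subgroup S where
  carrier := {g | g ∈ centralizer (B : Set S) ∨ a * g ∈ centralizer (B : Set S)}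
  one_mem' := Or.inl (one_mem _)
  mul_mem' := fun {g k} hg hk => by
    rcases hg with hg | hg <;> rcases hk with hk | hk
    · exact Or.inl (mul_mem hg hk)
    · right
      have := mul_mem (h.aC hg) hk
      rwa [show a * g * a * (a * k) = a * g * (a * a) * k by group, h.aa, mul_one, mul_assoc a g k] at this
    · exact Or.inr (by rw [← mul_assoc]; exact mul_mem hg hk)
    · left
      have := mul_mem (h.aC hg) hk
      rwa [show a * (a * g) * a * (a * k) = a * a * g * (a * a) * k by group, h.aa, one_mul, mul_one] at this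
  inv_mem' := fun {g} hg => by
    rcases hg with hg | hg
    · exact Or.inl (inv_mem hg)
    · right
      have := h.aC (inv_mem hg)
      rwa [mul_inv_rev, h.ai, show a * (g⁻¹ * a) * a = a * g⁻¹ * (a * a) by group, h.aa, mul_one] at this

theorem Setup.bound {B : Subgroup S} {a : S} (h : Setup B a) {K : Subgroup S} {V : Type v} [Group V] [Finite V]
    (f : K →* V) (hexp : ∀ v : V, v * v = 1) (hf : Function.Surjective f) : Nat.card V ≤ 16 := by
  classical
  haveI : Fact (Nat.Prime 2) := ⟨Nat.prime_two⟩
  have hn := h.normal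
  by_cases hCB : centralizer (B : Set S) ≤ B
  · exact bound_trivial f h.card hexp hn h.hS h.sq hf (inf_le_left.trans hCB)
  obtain ⟨v, hv, hvB, hpv⟩ := h.exists_v hCB
  by_cases hel : ∀ c ∈ centralizer (B : Set S), c * c ∈ B
  · by_cases h2 : ∀ c ∈ centralizer (B : Set S), c ∈ B ∨ v⁻¹ * c ∈ B
    · exact h.two_bound hv hvB h2 f hexp hf
    · push Not at h2
      obtain ⟨y, hy, hyB, hyv⟩ := h2
      exact h.four_bound f hexp hel hv hvB hpv hy hyB hyv hf
  push Not at hel
  obtain ⟨c0, hc0, hc0B⟩ := hel
  -- the group `(C ∪ aC) / B`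
  let L := h.ext
  have hCL : ∀ {g : S}, g ∈ centralizer (B : Set S) → g ∈ L := fun hg => Or.inl hg
  haveI := hn
  let N := B.subgroupOf L
  haveI : N.Normal := by infer_instance
  let π := QuotientGroup.mk' N
  have hπ : Function.Surjective π := QuotientGroup.mk'_surjective N
  have hker : ∀ g : L, π g = 1 ↔ (g : S) ∈ B := fun g =>
    (QuotientGroup.eq_one_iff g).trans Subgroup.mem_subgroupOf
  let αL : L := ⟨a, Or.inr (by rw [h.aa]; exact one_mem _)⟩
  let vL : L := ⟨v, hCL hv⟩
  let cL : L := ⟨c0, hCL hc0⟩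
  have hαα : π αL * π αL = 1 := by
    rw [← map_mul, hker]
    show a * a ∈ B
    rw [h.aa]; exact one_mem _
  have hvv : v * v ∈ B := by
    refine h.fix _ (mul_mem hv hv) (h.comm_iff.2 ?_)
    have e : a * v * a = v * (psi a v)⁻¹ := by unfold psi; group
    rw [h.hom_a, e, ← mul_assoc, mul_assoc v (psi a v)⁻¹, ← h.cB hv (inv_mem hpv), ← mul_assoc v v, mul_assoc (v * v),
      ← mul_inv_rev, h.sq _ hpv, inv_one, mul_one]
  have hαv : π αL * π vL = π vL * π αL := by
    rw [← map_mul, ← map_mul, ← inv_mul_eq_one, ← map_inv, ← map_mul, hker]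
    show (a * v)⁻¹ * (v * a) ∈ B
    have := inv_mem hpv
    rwa [show (psi a v)⁻¹ = (a * v)⁻¹ * (v * a) by
      unfold psi; simp only [mul_inv_rev, inv_inv, h.ai, mul_assoc]] at this
  have hcases : ∀ g : L, (g : S) ∈ centralizer (B : Set S) ∨ a * (g : S) ∈ centralizer (B : Set S) := fun g => g.2
  -- the centraliser of `a`
  have hsub : ∀ q ∈ centralizer ({π αL} : Set (L ⧸ N)), q = 1 ∨ q = π vL ∨ q = π αL ∨ q = π αL * π vL := by
    intro q hq
    rw [Subgroup.mem_centralizer_singleton_iff] at hq
    obtain ⟨g, rfl⟩ := hπ q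
    have key : ∀ g : L, (g : S) ∈ centralizer (B : Set S) → π g * π αL = π αL * π g →
        π g = 1 ∨ π g = π vL := by
      intro g hg e
      rw [← map_mul, ← map_mul, ← inv_mul_eq_one, ← map_inv, ← map_mul, hker] at e
      have e' : psi a (g : S) ∈ B := by
        have e2 : ((g : S) * a)⁻¹ * (a * g) ∈ B := e
        rw [mul_inv_rev, h.ai] at e2
        have := h.aB e2
        unfold psi
        rw [show a * (a * (g : S)⁻¹ * (a * g)) * a = a * a * (g : S)⁻¹ * a * g * a by group, h.aa, one_mul] at this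
        have h2 := h.aB this
        rw [show a * ((g : S)⁻¹ * a * g * a) * a = a * (g : S)⁻¹ * a * g * (a * a) by group, h.aa, mul_one] at h2
        rwa [mul_inv_rev, mul_inv_rev, h.ai, ← mul_assoc a]
      rcases h.fixed_mod hv hvB hpv hg e' with e2 | e2
      · exact Or.inl ((hker g).2 e2)
      · refine Or.inr (inv_mul_eq_one.1 ?_).symm
        rw [← map_inv, ← map_mul, hker]
        exact e2
    rcases hcases g with hg | hg
    · rcases key g hg hq with e | e
      exacts [Or.inl e, Or.inr (Or.inl e)]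
    · have hq' : π (αL * g) * π αL = π αL * π (αL * g) := by rw [map_mul, mul_assoc, hq]
      rcases key (αL * g) hg hq' with e | e <;> rw [map_mul] at e
      · refine Or.inr (Or.inr (Or.inl ?_))
        rw [← mul_one (π αL), ← e, ← mul_assoc, hαα, one_mul]
      · refine Or.inr (Or.inr (Or.inr ?_))
        rw [← e, ← mul_assoc, hαα, one_mul]
  have hαC : a ∉ centralizer (B : Set S) := h.na
  have hπne : ∀ g k : L, (g : S)⁻¹ * k ∉ B → π g ≠ π k := fun g k hne e => hne (by
    have : π (g⁻¹ * k) = 1 := by rw [map_mul, map_inv, e, inv_mul_cancel]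
    exact (hker _).1 this)
  have hP : IsPGroup 2 (L ⧸ N) := (h.hS.to_subgroup L).to_quotient N
  obtain ⟨n, hcardM⟩ := IsPGroup.iff_card.1 hP
  have hcent : Nat.card (centralizer ({π αL} : Set (L ⧸ N))) = 2 ^ 2 := by
    have hset : (centralizer ({π αL} : Set (L ⧸ N)) : Set (L ⧸ N)) = {1, π vL, π αL, π αL * π vL} := by
      refine Set.Subset.antisymm (fun q hq => by simpa using hsub q hq) ?_
      intro q hq
      simp only [Set.mem_insert_iff, Set.mem_singleton_iff] at hq
      rw [SetLike.mem_coe, Subgroup.mem_centralizer_singleton_iff]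
      rcases hq with rfl | rfl | rfl | rfl
      · simp
      · exact hαv.symm
      · rfl
      · rw [mul_assoc, ← hαv]
    rw [← SetLike.coe_sort_coe, Nat.card_coe_set_eq, hset]
    have d1 : π vL ≠ 1 := fun e => hvB ((hker _).1 e)
    have d2 : π αL ≠ 1 := fun e => hαC (le_centralizer h.sq ((hker _).1 e))
    have d3 : π vL ≠ π αL := hπne vL αL fun e => hαC (by
      have := mul_mem hv (le_centralizer h.sq e)
      rwa [show v * (v⁻¹ * a) = a by group] at this)
    have d4 : π αL * π vL ≠ 1 := fun e => d3 (by rw [← one_mul (π vL), ← hαα, mul_assoc, e, mul_one])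
    have d5 : π αL * π vL ≠ π vL := fun e => d2 (mul_eq_right.1 e)
    have d6 : π αL * π vL ≠ π αL := fun e => d1 (mul_eq_left.1 e)
    rw [Set.ncard_insert_of_notMem, Set.ncard_insert_of_notMem, Set.ncard_insert_of_notMem, Set.ncard_singleton] <;>
      simp [d1.symm, d2.symm, d3, d4.symm, d5.symm, d6.symm]
  have hc0sq : ∀ q ∈ centralizer ({π αL} : Set (L ⧸ N)), q * q = 1 := by
    intro q hq
    have hv2 : π vL * π vL = 1 := by rw [← map_mul, hker]; exact hvv
    rcases hsub q hq with rfl | rfl | rfl | rfl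
    · exact one_mul 1
    · exact hv2
    · exact hαα
    · rw [show π αL * π vL * (π αL * π vL) = π αL * (π vL * π αL) * π vL by group, ← hαv,
        show π αL * (π αL * π vL) * π vL = π αL * π αL * (π vL * π vL) by group, hαα, hv2, one_mul]
  have hcLsq : π cL * π cL ≠ 1 := fun e => hc0B (by rw [← map_mul, hker] at e; exact e)
  have hn3 : 3 ≤ n := by
    by_contra hc
    have h1 := Nat.pow_le_pow_right (show 0 < 2 by norm_num) (show n ≤ 2 by omega)
    have heq : centralizer ({π αL} : Set (L ⧸ N)) = ⊤ :=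
      Subgroup.eq_top_of_le_card _ (by rw [hcent, hcardM]; exact h1)
    exact hcLsq (hc0sq _ (heq ▸ Subgroup.mem_top _))
  have hclass := CfsgLib.MaximalClass.class_of_centralizer hcardM hcent
  have hidx := CfsgLib.MaximalClass.index_commutator hn3 hcardM hclass
  have hsq := CfsgLib.MaximalClass.pow_mem_commutator hn3 hcardM hclass
  obtain ⟨γ, β, r, hγ, hβ, hgen, hconj, hr, -, -⟩ := CfsgLib.MaximalClass.shape hn3 hcardM (by rw [hidx]; norm_num) hsq
  obtain ⟨gL, rfl⟩ := hπ γ
  -- transport of powers
  have hzp : ∀ (g k : L) (i : ℤ), π k = π g ^ i → ∃ e ∈ B, (k : S) = (g : S) ^ i * e := fun g k i e => by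
    refine ⟨((g : S) ^ i)⁻¹ * k, ?_, (mul_inv_cancel_left _ _).symm⟩
    have : π ((g ^ i)⁻¹ * k) = 1 := by rw [map_mul, map_inv, map_zpow, e, inv_mul_cancel]
    have h2 := (hker _).1 this
    simpa using h2
  suffices hcyc : ∃ x m, Cyc B a x m by
    obtain ⟨x, m, hc⟩ := hcyc
    exact hc.bound f hexp hf
  have hCconj : ∀ g : S, g ∈ centralizer (B : Set S) → a * g * a ∈ centralizer (B : Set S) := fun g hg => h.aC hg
  rcases hcases gL with hgC | hgC
  · -- `γ` in `C`
    have hall : ∀ c (hc : c ∈ centralizer (B : Set S)), π ⟨c, hCL hc⟩ ∈ zpowers (π gL) := by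
      intro c hc
      refine (hgen _).elim id fun e => False.elim ?_
      obtain ⟨i, hi⟩ := mem_zpowers_iff.1 e
      obtain ⟨bL, rfl⟩ := hπ β
      have hbL : π bL = π (⟨c, hCL hc⟩ * gL ^ (-i)) := by
        rw [map_mul, map_zpow, zpow_neg, hi]; group
      have hbC : (bL : S) ∈ centralizer (B : Set S) := by
        obtain ⟨e', he', heq⟩ := hzp (⟨c, hCL hc⟩ * gL ^ (-i)) bL 1 (by rw [zpow_one]; exact hbL)
        rw [heq, zpow_one]
        exact mul_mem (mul_mem hc (by simpa using inv_mem (zpow_mem hgC i))) (le_centralizer h.sq he')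
      refine hαC ?_
      rcases hgen (π αL) with e' | e' <;> obtain ⟨j, hj⟩ := mem_zpowers_iff.1 e'
      · obtain ⟨e'', he'', heq⟩ := hzp gL αL j hj.symm
        have : a = (gL : S) ^ j * e'' := heq
        rw [this]
        exact mul_mem (zpow_mem hgC j) (le_centralizer h.sq he'')
      · obtain ⟨e'', he'', heq⟩ := hzp (bL * gL ^ j) αL 1 (by rw [zpow_one, map_mul, map_zpow, hj, mul_inv_cancel_left])
        have : a = (bL : S) * (gL : S) ^ j * e'' := by simpa using heq
        rw [this]
        exact mul_mem (mul_mem hbC (zpow_mem hgC j)) (le_centralizer h.sq he'')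
    refine ⟨(gL : S), n - 1, h, by omega, hgC, ?_, ?_, fun c hc => Or.inl ?_, ?_⟩
    · have : π (gL ^ (2 ^ (n - 1))) = 1 := by rw [map_pow, ← hγ, pow_orderOf_eq_one]
      simpa using (hker _).1 this
    · intro e
      have : π (gL ^ (2 ^ (n - 1 - 1))) = 1 := (hker _).2 (by simpa using e)
      rw [map_pow] at this
      have hd := orderOf_dvd_of_pow_eq_one this
      rw [hγ, Nat.pow_dvd_pow_iff_le_right (by norm_num)] at hd
      omega
    · obtain ⟨i, hi⟩ := mem_zpowers_iff.1 (hall c hc)
      exact ⟨i, hzp gL ⟨c, hCL hc⟩ i hi.symm⟩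
    · obtain ⟨i, hi⟩ := mem_zpowers_iff.1 (hall _ (hCconj _ hgC))
      exact ⟨i, hzp gL ⟨_, hCL (hCconj _ hgC)⟩ i hi.symm⟩
  · have hgC' : (gL : S) ∉ centralizer (B : Set S) := fun e => hαC (by
      have := mul_mem hgC (inv_mem e)
      rwa [mul_inv_cancel_right] at this)
    have hg2C : ((gL * gL : L) : S) ∈ centralizer (B : Set S) := by
      have := mul_mem (h.aC hgC) hgC
      rwa [show a * (a * (gL : S)) * a * (a * gL) = a * a * gL * (a * a) * gL by group, h.aa, one_mul, mul_one] at this
    -- parity of exponents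
    have hpar : ∀ (k : L) (i : ℤ), π k = π gL ^ i → (k : S) ∈ centralizer (B : Set S) → Even i := by
      intro k i e hk
      obtain ⟨e', he', heq⟩ := hzp gL k i e
      rcases Int.even_or_odd i with hi | ⟨t, rfl⟩
      · exact hi
      · exfalso
        refine hgC' ?_
        have h2 : (gL : S) ^ (2 * t) ∈ centralizer (B : Set S) := by
          rw [zpow_mul, zpow_two]; exact zpow_mem hg2C t
        have h1 : (gL : S) ^ (2 * t + 1) ∈ centralizer (B : Set S) := by
          have := mul_mem hk (inv_mem (le_centralizer h.sq he'))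
          rwa [heq, mul_inv_cancel_right] at this
        rw [zpow_add, zpow_one] at h1
        have := mul_mem (inv_mem h2) h1
        rwa [inv_mul_cancel_left] at this
    by_cases h3 : n = 3
    · subst h3
      have hx4 : π cL ^ 4 = 1 := by
        have hcard2 : Nat.card (commutator (L ⧸ N)) = 2 := by
          have := (commutator (L ⧸ N)).card_mul_index
          rw [hidx, hcardM] at this
          omega
        have hc2 := pow_card_eq_one' (x := (⟨π cL ^ 2, hsq (π cL)⟩ : commutator (L ⧸ N)))
        rw [hcard2] at hc2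
        have := congrArg Subtype.val hc2
        simpa [← pow_mul] using this
      have hxB : c0 ^ (2 ^ 2) ∈ B := by
        have : π (cL ^ 4) = 1 := by rw [map_pow]; exact hx4
        simpa using (hker _).1 this
      have hall : ∀ c (hc : c ∈ centralizer (B : Set S)), ∃ i : ℕ, π ⟨c, hCL hc⟩ = π cL ^ i := by
        intro c hc
        by_contra hne
        push Not at hne
        let T : Finset (L ⧸ N) := {1, π cL, π cL ^ 2, π cL ^ 3, π ⟨c, hCL hc⟩}
        have h1 : π cL ≠ 1 := fun e => hcLsq (by rw [e, one_mul])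
        have h2 : π cL ^ 2 ≠ 1 := fun e => hcLsq (by rw [← pow_two]; exact e)
        have h3 : π cL ^ 3 ≠ 1 := fun e => h1 (by
          have := hx4
          rw [pow_succ, e, one_mul] at this
          exact this)
        have h4 : π cL ^ 2 ≠ π cL := fun e => h1 (by rw [pow_two, mul_eq_left] at e; exact e)
        have h5 : π cL ^ 3 ≠ π cL := fun e => h2 (by rw [pow_succ, mul_eq_right] at e; exact e)
        have h6 : π cL ^ 3 ≠ π cL ^ 2 := fun e => h1 (by rw [pow_succ, mul_eq_left] at e; exact e)
        have e0 : π ⟨c, hCL hc⟩ ≠ 1 := fun e => hne 0 (by rw [pow_zero]; exact e)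
        have e1 : π ⟨c, hCL hc⟩ ≠ π cL := fun e => hne 1 (by rw [pow_one]; exact e)
        have hT : T.card = 5 := by
          simp [T, h1.symm, h2.symm, h3.symm, h4.symm, h5.symm, h6.symm, e0.symm, e1.symm, (hne 2).symm, (hne 3).symm]
        have hTC : ∀ q ∈ T, ∃ g : L, (g : S) ∈ centralizer (B : Set S) ∧ π g = q := by
          intro q hq
          simp only [T, Finset.mem_insert, Finset.mem_singleton] at hq
          rcases hq with rfl | rfl | rfl | rfl | rfl
          · exact ⟨1, one_mem _, map_one π⟩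
          · exact ⟨cL, hc0, rfl⟩
          · exact ⟨cL ^ 2, by simpa using pow_mem hc0 2, map_pow π _ _⟩
          · exact ⟨cL ^ 3, by simpa using pow_mem hc0 3, map_pow π _ _⟩
          · exact ⟨_, hc, rfl⟩
        haveI : Fintype (L ⧸ N) := Fintype.ofFinite _
        have hd : Disjoint T (T.image (π αL * ·)) := by
          rw [Finset.disjoint_left]
          intro q hq hq'
          obtain ⟨q', hq'T, rfl⟩ := Finset.mem_image.1 hq'
          obtain ⟨g, hg, eg⟩ := hTC _ hq'T
          obtain ⟨g', hg', eg'⟩ := hTC _ hq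
          obtain ⟨e, he, heq⟩ := hzp (αL * g) g' 1 (by rw [zpow_one, map_mul, eg, eg'])
          refine hαC ?_
          have : (g' : S) = a * g * e := by simpa using heq
          rw [show a = (g' : S) * e⁻¹ * (g : S)⁻¹ by rw [this]; group]
          exact mul_mem (mul_mem hg' (inv_mem (le_centralizer h.sq he))) (inv_mem hg)
        have := Finset.card_le_univ (T ∪ T.image (π αL * ·))
        rw [Finset.card_union_of_disjoint hd, Finset.card_image_of_injective _ (mul_right_injective _), hT,
          ← Nat.card_eq_fintype_card, hcardM] at this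
        omega
      refine ⟨c0, 2, h, le_rfl, hc0, hxB, ?_, fun c hc => Or.inl ?_, ?_⟩
      · simpa [pow_two] using hc0B
      · obtain ⟨i, hi⟩ := hall c hc
        exact ⟨i, hzp cL ⟨c, hCL hc⟩ i (by rw [zpow_natCast]; exact hi)⟩
      · obtain ⟨i, hi⟩ := hall _ (hCconj _ hc0)
        exact ⟨i, hzp cL ⟨_, hCL (hCconj _ hc0)⟩ i (by rw [zpow_natCast]; exact hi)⟩
    · have hn4 : 4 ≤ n := by omega
      have hr' : ∃ t : ℤ, r + 1 = 2 ^ (n - 2) * t := hr
      have hinv : ∀ q : L ⧸ N, q ∉ zpowers (π gL) → q * π gL ^ 2 * q⁻¹ = (π gL ^ 2)⁻¹ := by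
        intro q hq
        obtain ⟨j, hj⟩ := mem_zpowers_iff.1 ((hgen q).resolve_left hq)
        have hq' : q = β * π gL ^ j := by rw [hj, mul_inv_cancel_left]
        have hord : π gL ^ ((2 : ℤ) ^ (n - 1)) = 1 := by
          rw [show ((2 : ℤ) ^ (n - 1)) = ((2 ^ (n - 1) : ℕ) : ℤ) by push_cast; rfl, zpow_natCast, ← hγ,
            pow_orderOf_eq_one]
        obtain ⟨t, ht⟩ := hr'
        calc q * π gL ^ 2 * q⁻¹ = β * (π gL ^ j * π gL ^ 2 * (π gL ^ j)⁻¹) * β⁻¹ := by rw [hq']; group
          _ = (β * π gL * β⁻¹) ^ 2 := by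
            rw [((Commute.refl (π gL)).zpow_left j).pow_right 2 |>.eq, mul_inv_cancel_right, conj_pow]
          _ = π gL ^ ((2 : ℤ) ^ (n - 1) * t + -2) := by
            rw [hconj, ← zpow_natCast, ← zpow_mul]
            congr 1
            rw [show n - 1 = n - 2 + 1 by omega, pow_succ]
            push_cast
            linear_combination 2 * ht
          _ = (π gL ^ 2)⁻¹ := by rw [zpow_add, zpow_mul, hord, one_zpow, one_mul, zpow_neg, zpow_ofNat]
      have hdouble : ∀ (k : L) (i : ℤ), π k = π gL ^ i → Even i →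
          ∃ i', InX B ((gL * gL : L) : S) (k : S) i' := fun k i e he => by
        obtain ⟨t, rfl⟩ := he
        obtain ⟨e', he', heq⟩ := hzp (gL * gL) k t (by rw [e, map_mul, ← zpow_two, ← zpow_mul, two_mul])
        exact ⟨t, e', he', heq⟩
      refine ⟨((gL * gL : L) : S), n - 2, h, by omega, hg2C, ?_, ?_, fun c hc => ?_, ?_⟩
      · have : π ((gL * gL) ^ (2 ^ (n - 2))) = 1 := by
          rw [map_pow, map_mul, ← pow_two, ← pow_mul, ← pow_succ', show n - 2 + 1 = n - 1 by omega, ← hγ,
            pow_orderOf_eq_one]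
        simpa using (hker _).1 this
      · intro e
        have : π ((gL * gL) ^ (2 ^ (n - 2 - 1))) = 1 := (hker _).2 (by simpa using e)
        rw [map_pow, map_mul, ← pow_two, ← pow_mul, ← pow_succ'] at this
        have hd := orderOf_dvd_of_pow_eq_one this
        rw [hγ, Nat.pow_dvd_pow_iff_le_right (by norm_num)] at hd
        omega
      · by_cases hq : π ⟨c, hCL hc⟩ ∈ zpowers (π gL)
        · obtain ⟨i, hi⟩ := mem_zpowers_iff.1 hq
          exact Or.inl (hdouble ⟨c, hCL hc⟩ i hi.symm (hpar _ i hi.symm hc))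
        · right
          have hi := hinv _ hq
          rw [pow_two] at hi
          have : π ((⟨c, hCL hc⟩ : L) * (gL * gL) * (⟨c, hCL hc⟩ : L)⁻¹ * (gL * gL)) = 1 := by
            simp only [map_mul, map_inv]
            rw [hi, inv_mul_cancel]
          simpa using (hker _).1 this
      · have hmem : a * ((gL * gL : L) : S) * a ∈ centralizer (B : Set S) := hCconj _ hg2C
        by_cases hq : π αL ∈ zpowers (π gL)
        · obtain ⟨j, hj⟩ := mem_zpowers_iff.1 hq
          refine hdouble ⟨_, hCL hmem⟩ 2 ?_ even_two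
          rw [show (⟨_, hCL hmem⟩ : L) = αL * (gL * gL) * αL from rfl, map_mul, map_mul, map_mul, ← hj, ← zpow_two,
            ← zpow_add, ← zpow_add]
          have h0 : π gL ^ (j + j) = 1 := by rw [zpow_add, hj, hαα]
          rw [show j + 2 + j = 2 + (j + j) by ring, zpow_add, h0, mul_one]
        · refine hdouble ⟨_, hCL hmem⟩ (-2) ?_ even_two.neg
          rw [show (⟨_, hCL hmem⟩ : L) = αL * (gL * gL) * αL from rfl, map_mul, map_mul, map_mul, zpow_neg,
            show (2 : ℤ) = ((2 : ℕ) : ℤ) from rfl, zpow_natCast, ← hinv _ hq, pow_two,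
            inv_eq_of_mul_eq_one_right hαα]

/-- Centralised elements and the commutator map of an involution. -/
theorem fixed_four {B : Subgroup S} (hn : B.Normal) (hsq : ∀ e ∈ B, e * e = 1) (hcard : Nat.card B = 8) {a : S}
    (haa : a * a = 1) (ha : a ∉ centralizer (B : Set S)) :
    Nat.card ↥(B ⊓ centralizer ({a} : Set S)) = 4 ∧ ∃ p ∈ B, p ≠ 1 ∧ a * p * a = p ∧
      (∀ e ∈ B, a * e * a = e ∨ a * e * a = e * p) := by
  classical
  have hai : a⁻¹ = a := inv_eq_of_mul_eq_one_right haa
  have haB : ∀ e ∈ B, a * e * a ∈ B := fun e he => by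
    have := hn.conj_mem e he a
    rwa [hai] at this
  have hc : ∀ {x y : S}, x ∈ B → y ∈ B → x * y = y * x := comm_of_sq hsq
  let φ : B →* B :=
    { toFun := fun e => ⟨(e : S) * (a * e * a), mul_mem e.2 (haB e e.2)⟩
      map_one' := Subtype.ext (by simp [haa])
      map_mul' := fun e e' => Subtype.ext (by
        show (e : S) * e' * (a * (e * e') * a) = e * (a * e * a) * (e' * (a * e' * a))
        have : a * ((e : S) * e') * a = a * e * a * (a * e' * a) := by
          rw [show a * (e : S) * a * (a * e' * a) = a * e * (a * a) * e' * a by group, haa]; group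
        rw [this, Commute.mul_mul_mul_comm (hc e'.2 (haB _ e.2) : Commute (e' : S) (a * e * a))]) }
  have hFmem : ∀ x : S, x ∈ B ⊓ centralizer ({a} : Set S) ↔ x ∈ B ∧ a * x * a = x := fun x => by
    rw [Subgroup.mem_inf, Subgroup.mem_centralizer_singleton_iff]
    refine and_congr_right fun _ => ⟨fun e => by rw [← e, mul_assoc, haa, mul_one], fun e => ?_⟩
    calc x * a = a * x * a * a := by rw [e]
      _ = a * x := by rw [mul_assoc, haa, mul_one]
  have hker : φ.ker.map B.subtype = B ⊓ centralizer ({a} : Set S) := by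
    ext x
    rw [hFmem]
    constructor
    · rintro ⟨e, he, rfl⟩
      have h1 : (e : S) * (a * e * a) = 1 := congrArg Subtype.val (MonoidHom.mem_ker.1 he)
      exact ⟨e.2, (mul_eq_one_iff_inv_eq.1 h1).symm.trans (inv_eq_of_mul_eq_one_right (hsq e e.2))⟩
    · rintro ⟨hx, e⟩
      exact ⟨⟨x, hx⟩, MonoidHom.mem_ker.2 (Subtype.ext (by show x * (a * x * a) = 1; rw [e, hsq x hx])), rfl⟩
  have hrange : φ.range.map B.subtype ≤ B ⊓ centralizer ({a} : Set S) := by
    rintro _ ⟨y, ⟨e, rfl⟩, rfl⟩
    rw [hFmem]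
    refine ⟨(φ e).2, ?_⟩
    show a * ((e : S) * (a * e * a)) * a = e * (a * e * a)
    rw [show a * ((e : S) * (a * e * a)) * a = a * e * a * e * (a * a) by group, haa, mul_one,
      hc (haB _ e.2) e.2]
  have h1 := φ.ker.card_mul_index
  rw [Subgroup.index_ker, hcard, Nat.card_congr (φ.ker.equivMapOfInjective B.subtype B.subtype_injective).toEquiv, hker] at h1
  have h2 := Subgroup.card_le_of_le hrange
  rw [← Nat.card_congr (φ.range.equivMapOfInjective B.subtype B.subtype_injective).toEquiv] at h2
  have hr2 : 2 ≤ Nat.card φ.range := by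
    haveI : Nontrivial φ.range := by
      obtain ⟨e, he, hne⟩ : ∃ e ∈ B, e * a ≠ a * e := by
        by_contra hc'
        push Not at hc'
        exact ha (Subgroup.mem_centralizer_iff.2 hc')
      refine ⟨⟨φ ⟨e, he⟩, _, rfl⟩, 1, fun h0 => hne ?_⟩
      have h0' : e * (a * e * a) = 1 := congrArg (fun t : φ.range => ((t : B) : S)) h0
      have e1 := (mul_eq_one_iff_inv_eq.1 h0').symm.trans (inv_eq_of_mul_eq_one_right (hsq e he))
      calc e * a = a * e * a * a := by rw [e1]
        _ = a * e := by rw [mul_assoc, haa, mul_one]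
    exact Finite.one_lt_card
  obtain ⟨hF4, hR2⟩ : Nat.card ↥(B ⊓ centralizer ({a} : Set S)) = 4 ∧ Nat.card φ.range = 2 := by
    generalize Nat.card ↥(B ⊓ centralizer ({a} : Set S)) = x at *
    generalize Nat.card φ.range = y at *
    have hxd : x ∣ 8 := ⟨y, h1.symm⟩
    have := Nat.le_of_dvd (by norm_num) hxd
    interval_cases x <;> omega
  refine ⟨hF4, ?_⟩
  obtain ⟨q, hq1⟩ : ∃ q : φ.range, q ≠ 1 := by
    haveI : Nontrivial φ.range := Finite.one_lt_card_iff_nontrivial.1 (by omega)
    exact exists_ne 1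
  refine ⟨((q : B) : S), (q : B).2, fun e => hq1 (Subtype.ext (Subtype.ext e)), ?_, fun e he => ?_⟩
  · exact ((hFmem _).1 (hrange ⟨q, q.2, rfl⟩)).2
  · haveI : Fintype φ.range := Fintype.ofFinite _
    have hcases : ∀ t : φ.range, t = 1 ∨ t = q := fun t => by
      by_contra hne
      push Not at hne
      have := Finset.card_le_univ ({1, q, t} : Finset φ.range)
      rw [Finset.card_eq_three.2 ⟨_, _, _, hq1.symm, hne.1.symm, hne.2.symm, rfl⟩, ← Nat.card_eq_fintype_card, hR2] at this
      omega
    have hse := hsq e he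
    rcases hcases ⟨φ ⟨e, he⟩, _, rfl⟩ with h0 | h0
    · left
      have h0' : e * (a * e * a) = 1 := congrArg (fun t : φ.range => ((t : B) : S)) h0
      exact (mul_eq_one_iff_inv_eq.1 h0').symm.trans (inv_eq_of_mul_eq_one_right hse)
    · right
      have h0' : e * (a * e * a) = ((q : B) : S) := congrArg (fun t : φ.range => ((t : B) : S)) h0
      rw [← h0', ← mul_assoc, hse, one_mul]

/-- The rank bound in the presence of a normal elementary abelian subgroup of order eight. -/
theorem bound_of_normal (hS : IsPGroup 2 S) {A B : Subgroup S} (hA : IsMulCommutative A)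
    (hA2 : ∀ x ∈ A, x * x = 1) (hA8 : Nat.card A = 8) (hC : centralizer (A : Set S) = A) (hn : B.Normal)
    (hsq : ∀ e ∈ B, e * e = 1) (hcard : Nat.card B = 8) {K : Subgroup S} {V : Type v} [Group V] [Finite V]
    (f : K →* V) (hexp : ∀ v : V, v * v = 1) (hf : Function.Surjective f) : Nat.card V ≤ 16 := by
  classical
  have hcA : ∀ x ∈ A, ∀ y ∈ A, x * y = y * x := fun x hx y hy =>
    congrArg Subtype.val (hA.is_comm.comm ⟨x, hx⟩ ⟨y, hy⟩)
  have hmemA : ∀ g : S, (∀ x ∈ A, x * g = g * x) → g ∈ A := fun g hg => by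
    rw [← hC]; exact Subgroup.mem_centralizer_iff.2 hg
  by_cases hAC : A ≤ centralizer (B : Set S)
  · have hBA : B ≤ A := fun e he => hmemA e fun x hx => (Subgroup.mem_centralizer_iff.1 (hAC hx) e he).symm
    have hBeq : B = A := Subgroup.eq_of_le_of_card_ge hBA (by omega)
    refine bound_trivial f hcard hexp hn hS hsq hf ?_
    rw [hBeq, hC]
    exact inf_le_left
  obtain ⟨a, haA, haC⟩ := SetLike.not_le_iff_exists.1 hAC
  have haa := hA2 a haA
  have hai : a⁻¹ = a := inv_eq_of_mul_eq_one_right haa
  have hBcent : ∀ {x y : S}, x ∈ centralizer (B : Set S) → y ∈ B → x * y = y * x := fun hx hy =>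
    (Subgroup.mem_centralizer_iff.1 hx _ hy).symm
  by_cases h2 : ∀ b ∈ A, b ∈ centralizer (B : Set S) ∨ a * b ∈ centralizer (B : Set S)
  · -- `A ∩ C = C_B(a)`
    have hspan : ∀ g : S, a * g = g * a → (∀ x ∈ A, x ∈ centralizer (B : Set S) → x * g = g * x) → g ∈ A := by
      intro g hga hg
      refine hmemA g fun x hx => ?_
      rcases h2 x hx with hxC | hxC
      · exact hg x hx hxC
      · have e1 : Commute (a * x) g := hg _ (mul_mem haA hx) hxC
        have e2 : Commute a⁻¹ g := Commute.inv_left hga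
        have := (e2.mul_left e1).eq
        rwa [inv_mul_cancel_left] at this
    have hFA : B ⊓ centralizer ({a} : Set S) ≤ A ⊓ centralizer (B : Set S) := fun e he =>
      ⟨hspan e (Subgroup.mem_centralizer_singleton_iff.1 he.2).symm fun x _ hxC => hBcent hxC he.1,
        le_centralizer hsq he.1⟩
    have hAC4 : Nat.card ↥(A ⊓ centralizer (B : Set S)) ≤ 4 := by
      have hd : Nat.card ↥(A ⊓ centralizer (B : Set S)) ∣ 8 := hA8 ▸ Subgroup.card_dvd_of_le inf_le_left
      have hne : Nat.card ↥(A ⊓ centralizer (B : Set S)) ≠ 8 := fun e =>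
        haC ((Subgroup.eq_of_le_of_card_ge (inf_le_left : A ⊓ centralizer (B : Set S) ≤ A) (by omega)).ge haA).2
      have := Nat.le_of_dvd (by norm_num) hd
      generalize Nat.card ↥(A ⊓ centralizer (B : Set S)) = x at *
      interval_cases x <;> omega
    have heq := Subgroup.eq_of_le_of_card_ge hFA (by rw [(fixed_four hn hsq hcard haa haC).1]; exact hAC4)
    refine Setup.bound (⟨hS, hn, hsq, hcard, haa, haC, fun d hd e => ?_, fun g hg e => ?_⟩ : Setup B a) f hexp hf
    · have hdA := hspan d e fun x hx hxC => (hBcent hd (heq.ge ⟨hx, hxC⟩).1).symm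
      exact (heq.ge ⟨hdA, hd⟩).1
    · refine h2 g (hspan g e fun x hx hxC => ?_)
      have hxF := heq.ge ⟨hx, hxC⟩
      exact (hg x hxF.1 (Subgroup.mem_centralizer_singleton_iff.1 hxF.2).symm).symm
  push Not at h2
  obtain ⟨b, hbA, hbC, habC⟩ := h2
  have hbb := hA2 b hbA
  have hab := hcA a haA b hbA
  obtain ⟨z, hzB, hz1, hzc⟩ := exists_central hcard hn hS hsq
  have hzA : z ∈ A := hmemA z fun x _ => hzc x
  have hzC := le_centralizer hsq hzB
  -- the elements of `A`
  have hAall : ∀ x ∈ A, ∃ e r, (e = 1 ∨ e = z) ∧ (r = 1 ∨ r = a ∨ r = b ∨ r = a * b) ∧ x = r * e := by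
    intro x hx
    let T : Finset S := ({1, z} : Finset S)
    let R : Finset S := ({1, a, b, a * b} : Finset S)
    have hR : R.card = 4 := by
      have d1 : a ≠ 1 := fun e => haC (e ▸ one_mem _)
      have d2 : b ≠ 1 := fun e => hbC (e ▸ one_mem _)
      have d3 : a * b ≠ 1 := fun e => habC (e ▸ one_mem _)
      have d4 : a ≠ b := fun e => habC (by rw [← e, haa]; exact one_mem _)
      have d5 : a * b ≠ a := fun e => d2 (mul_eq_left.1 e)
      have d6 : a * b ≠ b := fun e => d1 (mul_eq_right.1 e)
      simp [R, d1.symm, d2.symm, d3.symm, d4, d5.symm, d6.symm]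
    have hinj : Set.InjOn (fun p : S × S => p.1 * p.2) ↑(R ×ˢ T) := by
      rintro ⟨r, e⟩ hre ⟨r', e'⟩ hre' heq
      simp only [Finset.coe_product, Set.mem_prod, R, T, Finset.coe_insert, Finset.coe_singleton, Set.mem_insert_iff,
        Set.mem_singleton_iff] at hre hre'
      have hd : r⁻¹ * r' ∈ centralizer (B : Set S) := by
        have hT : ∀ q : S, (q = 1 ∨ q = z) → q ∈ centralizer (B : Set S) := by
          rintro q (rfl | rfl)
          exacts [one_mem _, hzC]
        rw [show r⁻¹ * r' = e * e'⁻¹ by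
          have h1 : r' = r * e * e'⁻¹ := eq_mul_inv_iff_mul_eq.2 heq.symm
          rw [h1]; group]
        exact mul_mem (hT _ hre.2) (inv_mem (hT _ hre'.2))
      have hbi : b⁻¹ = b := inv_eq_of_mul_eq_one_right hbb
      have e1 : a⁻¹ * (a * b) = b := inv_mul_cancel_left _ _
      have e2 : (a * b)⁻¹ * a = b := by rw [mul_inv_rev, hbi, mul_assoc, inv_mul_cancel, mul_one]
      have e3 : b⁻¹ * (a * b) = a := by rw [hab, inv_mul_cancel_left]
      have e4 : (a * b)⁻¹ * b = a := by rw [hab, mul_inv_rev, hbi, hai, mul_assoc, hbb, mul_one]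
      have e5 : b⁻¹ * a = a * b := by rw [hbi, hab]
      have hrr : r = r' := by
        rcases hre.1 with rfl | rfl | rfl | rfl <;> rcases hre'.1 with rfl | rfl | rfl | rfl <;>
          (try simp only [inv_one, one_mul, mul_one, e1, e2, e3, e4, e5, hai, hbi] at hd) <;>
          first
            | rfl
            | exact absurd hd haC
            | exact absurd hd hbC
            | exact absurd hd habC
            | exact absurd (inv_mem hd) haC
            | (rw [← mul_assoc, haa, one_mul] at hd; exact absurd hd hbC)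
            | (rw [hab, ← mul_assoc, hbb, one_mul] at hd; exact absurd hd haC)
            | (rw [← hab] at hd; exact absurd hd habC)
            | exact absurd (by simpa using inv_mem hd) habC
      obtain rfl := hrr
      exact Prod.ext rfl (mul_left_cancel heq)
    have hcardI : ((R ×ˢ T).image fun p : S × S => p.1 * p.2).card = 8 := by
      rw [Finset.card_image_of_injOn hinj, Finset.card_product, hR, Finset.card_pair hz1.symm]
    haveI : Fintype A := Fintype.ofFinite _
    have hsub : (R ×ˢ T).image (fun p : S × S => p.1 * p.2) = (Finset.univ : Finset A).map (Function.Embedding.subtype _) := by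
      refine Finset.eq_of_subset_of_card_le (fun q hq => ?_) ?_
      · obtain ⟨⟨r, e⟩, hre, rfl⟩ := Finset.mem_image.1 hq
        refine Finset.mem_map.2 ⟨⟨r * e, ?_⟩, Finset.mem_univ _, rfl⟩
        simp only [Finset.mem_product, R, T, Finset.mem_insert, Finset.mem_singleton] at hre
        refine mul_mem ?_ ?_
        · rcases hre.1 with rfl | rfl | rfl | rfl
          exacts [one_mem _, haA, hbA, mul_mem haA hbA]
        · rcases hre.2 with rfl | rfl
          exacts [one_mem _, hzA]
      · rw [Finset.card_map, Finset.card_univ, ← Nat.card_eq_fintype_card, hA8, hcardI]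
    have : x ∈ (R ×ˢ T).image (fun p : S × S => p.1 * p.2) := hsub ▸ Finset.mem_map.2 ⟨⟨x, hx⟩, Finset.mem_univ _, rfl⟩
    obtain ⟨⟨r, e⟩, hre, rfl⟩ := Finset.mem_image.1 this
    simp only [Finset.mem_product, R, T, Finset.mem_insert, Finset.mem_singleton] at hre
    exact ⟨e, r, hre.2, hre.1, rfl⟩
  have hfixed : ∀ g : S, g ∈ centralizer (B : Set S) → a * g = g * a → b * g = g * b → g = 1 ∨ g = z := by
    intro g hgC hga hgb
    have hgA : g ∈ A := hmemA g fun x hx => by
      obtain ⟨e, r, he, hr, rfl⟩ := hAall x hx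
      have ce : Commute e g := by
        rcases he with rfl | rfl
        exacts [Commute.one_left g, (hzc g).symm]
      have cr : Commute r g := by
        rcases hr with rfl | rfl | rfl | rfl
        exacts [Commute.one_left g, hga, hgb, (Commute.mul_left (hga : Commute a g) hgb)]
      exact (cr.mul_left ce).eq
    obtain ⟨e, r, he, hr, rfl⟩ := hAall g hgA
    have heC : e ∈ centralizer (B : Set S) := by
      rcases he with rfl | rfl
      exacts [one_mem _, hzC]
    have hrC : r ∈ centralizer (B : Set S) := by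
      have := mul_mem hgC (inv_mem heC)
      rwa [mul_inv_cancel_right] at this
    rcases hr with rfl | rfl | rfl | rfl
    · rw [one_mul]; exact he
    · exact absurd hrC haC
    · exact absurd hrC hbC
    · exact absurd hrC habC
  -- facts for an ordered pair of generators
  have hpair : ∀ a b : S, a * a = 1 → b * b = 1 → a * b = b * a → a ∉ centralizer (B : Set S) →
      (∀ g : S, g ∈ centralizer (B : Set S) → a * g = g * a → b * g = g * b → g = 1 ∨ g = z) →
      (∀ d ∈ centralizer (B : Set S), a * d = d * a → d ∈ B) ∧ ∀ e ∈ B, a * e * a = e ∨ a * e * a = e * z := by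
    intro a b haa hbb hab haC hfix
    have hai : a⁻¹ = a := inv_eq_of_mul_eq_one_right haa
    have hbi : b⁻¹ = b := inv_eq_of_mul_eq_one_right hbb
    haveI := hn
    have hCn : (centralizer (B : Set S)).Normal := inferInstance
    have hbC : ∀ d ∈ centralizer (B : Set S), b * d * b ∈ centralizer (B : Set S) := fun d hd => by
      have := hCn.conj_mem d hd b
      rwa [hbi] at this
    have hbB : ∀ d ∈ B, b * d * b ∈ B := fun d hd => by
      have := hn.conj_mem d hd b
      rwa [hbi] at this
    have hbcent : ∀ d : S, a * d = d * a → a * (b * d * b) = b * d * b * a := fun d e =>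
      (((show Commute a b from hab).mul_right e).mul_right hab).eq
    obtain ⟨hF4, p, hpB, hp1, hap, hP⟩ := fixed_four hn hsq hcard haa haC
    have hbp : b * p * b = p := by
      obtain ⟨e, he, hne⟩ : ∃ e ∈ B, a * e * a ≠ e := by
        by_contra hc
        push Not at hc
        refine haC (Subgroup.mem_centralizer_iff.2 fun e he => ?_)
        calc e * a = a * e * a * a := by rw [hc e he]
          _ = a * e := by rw [mul_assoc, haa, mul_one]
      have hep := (hP e he).resolve_left hne
      have h1 : a * (b * e * b) * a = b * (a * e * a) * b := by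
        rw [show a * (b * e * b) * a = a * b * e * (b * a) by group, show b * (a * e * a) * b = b * a * e * (a * b) by group, hab]
      rw [hep, show b * (e * p) * b = b * e * (b * b) * p * b by rw [hbb]; group,
        show b * e * (b * b) * p * b = b * e * b * (b * p * b) by group] at h1
      rcases hP _ (hbB e he) with e' | e' <;> rw [h1] at e'
      · exfalso
        refine hp1 ?_
        have h5 : b * p * b = 1 := mul_eq_left.1 e'
        calc p = b * b * p * (b * b) := by rw [hbb, one_mul, mul_one]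
          _ = b * (b * p * b) * b := by group
          _ = 1 := by rw [h5, mul_one, hbb]
      · exact mul_left_cancel e'
    have hcom : ∀ x : S, b * x * b = x → b * x = x * b := fun x e => by
      calc b * x = b * x * b * b := by rw [mul_assoc, mul_assoc, hbb, mul_one]
        _ = x * b := by rw [e]
    have hcomA : ∀ x : S, a * x * a = x → a * x = x * a := fun x e => by
      calc a * x = a * x * a * a := by rw [mul_assoc, mul_assoc, haa, mul_one]
        _ = x * a := by rw [e]
    have hpz : p = z := (hfix p (le_centralizer hsq hpB) (hcomA p hap) (hcom p hbp)).resolve_left hp1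
    refine ⟨fun d hd hda => ?_, hpz ▸ hP⟩
    by_contra hdB
    obtain ⟨d1, ⟨hd1, hd1a⟩, hd1N, hd1e⟩ := invol_fixed hS
      (N := B ⊓ centralizer ({a} : Set S)) (D := centralizer (B : Set S) ⊓ centralizer ({a} : Set S))
      (fun x hx => ⟨le_centralizer hsq hx.1, hx.2⟩)
      (fun hle => hdB (hle ⟨hd, Subgroup.mem_centralizer_singleton_iff.2 hda.symm⟩).1) hbb
      (fun x hx => ⟨hbC x hx.1, Subgroup.mem_centralizer_singleton_iff.2
        (hbcent x (Subgroup.mem_centralizer_singleton_iff.1 hx.2).symm).symm⟩)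
      (fun x hx => ⟨hbB x hx.1, Subgroup.mem_centralizer_singleton_iff.2
        (hbcent x (Subgroup.mem_centralizer_singleton_iff.1 hx.2).symm).symm⟩)
    have hda1 := (Subgroup.mem_centralizer_singleton_iff.1 hd1a).symm
    set e := d1⁻¹ * (b * d1 * b) with he
    have hee := hsq e hd1e.1
    have hbe : b * e * b = e := by
      have h1 : b * e * b = e⁻¹ := by
        rw [he]
        simp only [mul_inv_rev, inv_inv, hbi, mul_assoc, hbb, mul_one]
      rw [h1]; exact inv_eq_of_mul_eq_one_right hee
    have hea := (Subgroup.mem_centralizer_singleton_iff.1 hd1e.2).symm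
    have hone : ∀ d' : S, d' ∈ centralizer (B : Set S) → a * d' = d' * a → b * d' * b = d' → d' ∈ B := fun d' h1 h2 h3 => by
      rcases hfix d' h1 h2 (hcom _ h3) with rfl | rfl
      exacts [one_mem _, hzB]
    rcases hfix e (le_centralizer hsq hd1e.1) hea (hcom _ hbe) with e1 | e1
    · refine hd1N ⟨hone d1 hd1 hda1 ?_, hd1a⟩
      rw [he, inv_mul_eq_one] at e1
      exact e1.symm
    · obtain ⟨g, ⟨hgB, hga⟩, hgne⟩ : ∃ g ∈ B ⊓ centralizer ({a} : Set S), g ≠ 1 ∧ g ≠ z := by
        by_contra hc
        push Not at hc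
        haveI : Fintype ↥(B ⊓ centralizer ({a} : Set S)) := Fintype.ofFinite _
        have hsub : (Finset.univ : Finset ↥(B ⊓ centralizer ({a} : Set S))).map (Function.Embedding.subtype _) ⊆
            ({1, z} : Finset S) := by
          intro q hq
          obtain ⟨⟨y, hy⟩, -, rfl⟩ := Finset.mem_map.1 hq
          show y ∈ _
          simp only [Finset.mem_insert, Finset.mem_singleton]
          exact or_iff_not_imp_left.2 (hc y hy)
        have := (Finset.card_le_card hsub).trans Finset.card_le_two
        rw [Finset.card_map, Finset.card_univ, ← Nat.card_eq_fintype_card, hF4] at this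
        omega
      have hga' := (Subgroup.mem_centralizer_singleton_iff.1 hga).symm
      have hgi : g⁻¹ = g := inv_eq_of_mul_eq_one_right (hsq g hgB)
      set e' := g⁻¹ * (b * g * b) with he'
      have he'B : e' ∈ B := mul_mem (inv_mem hgB) (hbB g hgB)
      have he'a : a * e' = e' * a := ((Commute.inv_right (hga' : Commute a g)).mul_right (hbcent g hga')).eq
      have hbe' : b * e' * b = e' := by
        have h1 : b * e' * b = e'⁻¹ := by
          rw [he']
          simp only [mul_inv_rev, inv_inv, hbi, mul_assoc, hbb, mul_one]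
        rw [h1]; exact inv_eq_of_mul_eq_one_right (hsq _ he'B)
      have hgz : b * g * b = g * z := by
        rcases hfix e' (le_centralizer hsq he'B) he'a (hcom _ hbe') with e2 | e2
        · exfalso
          rw [he', inv_mul_eq_one] at e2
          rcases hfix g (le_centralizer hsq hgB) hga' (hcom _ e2.symm) with e3 | e3
          exacts [hgne.1 e3, hgne.2 e3]
        · rw [← e2, he', mul_inv_cancel_left]
      have hdz : b * d1 * b = d1 * z := by rw [← e1, he, mul_inv_cancel_left]
      refine hd1N ⟨?_, hd1a⟩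
      have := hone (d1 * g) (mul_mem hd1 (le_centralizer hsq hgB)) ((Commute.mul_right (hda1 : Commute a d1) hga').eq) (by
        rw [show b * (d1 * g) * b = b * d1 * (b * b) * g * b by rw [hbb]; group,
          show b * d1 * (b * b) * g * b = b * d1 * b * (b * g * b) by group, hdz, hgz,
          show d1 * z * (g * z) = d1 * (z * g * z) by group, comm_of_sq hsq hzB hgB, mul_assoc g, hsq z hzB, mul_one])
      have h3 := mul_mem this (inv_mem hgB)
      rwa [mul_inv_cancel_right] at h3
  obtain ⟨hfa, hza⟩ := hpair a b haa hbb hab haC hfixed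
  obtain ⟨hfb, hzb⟩ := hpair b a hbb haa hab.symm hbC fun g h1 h2 h3 => hfixed g h1 h3 h2
  -- an element violating the last hypothesis moves `B` by a non-fixed amount
  have hbad : ∀ a b : S, a * a = 1 → a * b = b * a → a ∉ centralizer (B : Set S) →
      (∀ g : S, g ∈ centralizer (B : Set S) → a * g = g * a → b * g = g * b → g = 1 ∨ g = z) →
      (∀ e ∈ B, a * e * a = e ∨ a * e * a = e * z) → ∀ s : S, (∀ e ∈ B, a * e = e * a → s * e = e * s) →
      a * s = s * a → s ∉ centralizer (B : Set S) → a * s ∉ centralizer (B : Set S) →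
      ∃ e ∈ B, a * e = e * a ∧ b * e ≠ e * b ∧ ∀ q ∈ B, a * q ≠ q * a → s * q * s⁻¹ = q * e := by
    intro a b haa hab haC hfix hza s hs has hsC hasC
    have hai : a⁻¹ = a := inv_eq_of_mul_eq_one_right haa
    have hiff : ∀ q : S, a * q * a = q ↔ a * q = q * a := fun q => ⟨fun e => by
      calc a * q = a * q * a * a := by rw [mul_assoc, mul_assoc, haa, mul_one]
        _ = q * a := by rw [e], fun e => by rw [e, mul_assoc, haa, mul_one]⟩
    obtain ⟨f0, hf0, hf0a⟩ : ∃ q ∈ B, a * q ≠ q * a := by
      by_contra hc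
      push Not at hc
      exact haC (Subgroup.mem_centralizer_iff.2 fun q hq => (hc q hq).symm)
    have hm : ∀ q : S, s * (a * q * a) * s⁻¹ = a * (s * q * s⁻¹) * a := fun q => by
      calc s * (a * q * a) * s⁻¹ = s * a * q * (a * s⁻¹) := by group
        _ = a * s * q * (s⁻¹ * a) := by rw [has, (Commute.inv_right (has : Commute a s)).eq]
        _ = a * (s * q * s⁻¹) * a := by group
    have hfz : a * f0 * a = f0 * z := (hza f0 hf0).resolve_left fun e => hf0a ((hiff _).1 e)
    set e := f0⁻¹ * (s * f0 * s⁻¹) with he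
    have heB : e ∈ B := mul_mem (inv_mem hf0) (hn.conj_mem f0 hf0 s)
    have hse : s * f0 * s⁻¹ = f0 * e := (mul_inv_cancel_left _ _).symm
    have hea : a * e = e * a := by
      refine (hiff e).1 ?_
      have h1 := hm f0
      rw [hfz, hse, conj_mul', hse, show s * z * s⁻¹ = z by rw [hzc, mul_inv_cancel_right],
        show a * (f0 * e) * a = a * f0 * (a * a) * e * a by rw [haa]; group,
        show a * f0 * (a * a) * e * a = a * f0 * a * (a * e * a) by group, hfz, mul_assoc f0,
        comm_of_sq hsq heB hzB, mul_assoc f0] at h1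
      exact (mul_left_cancel (mul_left_cancel h1)).symm
    have hmove : ∀ q ∈ B, a * q ≠ q * a → s * q * s⁻¹ = q * e := by
      intro q hq hqa
      have hqz : a * q * a = q * z := (hza q hq).resolve_left fun e' => hqa ((hiff _).1 e')
      have hk : f0 * q ∈ B := mul_mem hf0 hq
      have hka : a * (f0 * q) = f0 * q * a := (hiff _).1 (by
        rw [show a * (f0 * q) * a = a * f0 * (a * a) * q * a by rw [haa]; group,
          show a * f0 * (a * a) * q * a = a * f0 * a * (a * q * a) by group, hfz, hqz,
          show f0 * z * (q * z) = f0 * (z * q * z) by group, comm_of_sq hsq hzB hq, mul_assoc q, hsq z hzB, mul_one])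
      have hsk : s * (f0 * q) * s⁻¹ = f0 * q := by rw [hs _ hk hka, mul_inv_cancel_right]
      rw [conj_mul', hse, mul_assoc] at hsk
      have h2 : e * (s * q * s⁻¹) = q := mul_left_cancel hsk
      calc s * q * s⁻¹ = e * (e * (s * q * s⁻¹)) := by rw [← mul_assoc, hsq e heB, one_mul]
        _ = q * e := by rw [h2, comm_of_sq hsq heB hq]
    refine ⟨e, heB, hea, fun heb => ?_, hmove⟩
    rcases hfix e (le_centralizer hsq heB) hea heb with e1 | e1
    · refine hsC (Subgroup.mem_centralizer_iff.2 fun q hq => ?_)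
      by_cases hqa : a * q = q * a
      · exact (hs q hq hqa).symm
      · have := hmove q hq hqa
        rw [e1, mul_one] at this
        exact (mul_inv_eq_iff_eq_mul.1 this).symm
    · refine hasC (Subgroup.mem_centralizer_iff.2 fun q hq => ?_)
      refine (mul_inv_eq_iff_eq_mul.1 ?_).symm
      rw [show a * s * q * (a * s)⁻¹ = a * (s * q * s⁻¹) * a⁻¹ by group, hai]
      by_cases hqa : a * q = q * a
      · rw [hs q hq hqa, mul_inv_cancel_right, (hiff q).2 hqa]
      · have hqz : a * q * a = q * z := (hza q hq).resolve_left fun e' => hqa ((hiff _).1 e')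
        rw [hmove q hq hqa, e1, show a * (q * z) * a = a * q * (a * a) * z * a by rw [haa]; group,
          show a * q * (a * a) * z * a = a * q * a * (a * z * a) by group, hqz, (hiff z).2 (hzc a), mul_assoc,
          hsq z hzB, mul_one]
  by_cases hsa : ∀ g : S, (∀ e ∈ B, a * e = e * a → g * e = e * g) → a * g = g * a →
      g ∈ centralizer (B : Set S) ∨ a * g ∈ centralizer (B : Set S)
  · exact Setup.bound (⟨hS, hn, hsq, hcard, haa, haC, hfa, hsa⟩ : Setup B a) f hexp hf
  by_cases hsb : ∀ g : S, (∀ e ∈ B, b * e = e * b → g * e = e * g) → b * g = g * b →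
      g ∈ centralizer (B : Set S) ∨ b * g ∈ centralizer (B : Set S)
  · exact Setup.bound (⟨hS, hn, hsq, hcard, hbb, hbC, hfb, hsb⟩ : Setup B b) f hexp hf
  exfalso
  push Not at hsa hsb
  obtain ⟨s, hs1, hs2, hs3, hs4⟩ := hsa
  obtain ⟨t, ht1, ht2, ht3, ht4⟩ := hsb
  obtain ⟨e, heB, hea, heb, hse⟩ := hbad a b haa hab haC hfixed hza s hs1 hs2 hs3 hs4
  obtain ⟨e', heB', heb', hea', hte⟩ := hbad b a hbb hab.symm hbC (fun g u1 u2 u3 => hfixed g u1 u3 u2) hzb t ht1 ht2
    ht3 ht4
  have s1 : s * e * s⁻¹ = e := by rw [hs1 e heB hea, mul_inv_cancel_right]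
  have s2 : s * e' * s⁻¹ = e' * e := hse e' heB' hea'
  have t1 : t * e * t⁻¹ = e * e' := hte e heB heb
  have t2 : t * e' * t⁻¹ = e' := by rw [ht1 e' heB' heb', mul_inv_cancel_right]
  have hee := hsq e heB
  have hee' := hsq e' heB'
  set q := s * t with hq
  have q1 : q * e * q⁻¹ = e' := by
    rw [hq, show s * t * e * (s * t)⁻¹ = s * (t * e * t⁻¹) * s⁻¹ by group, t1, conj_mul', s1, s2, comm_of_sq hsq heB' heB,
      ← mul_assoc, hee, one_mul]
  have q2 : q * e' * q⁻¹ = e' * e := by
    rw [hq, show s * t * e' * (s * t)⁻¹ = s * (t * e' * t⁻¹) * s⁻¹ by group, t2, s2]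
  have q3 : q ^ 3 * e = e * q ^ 3 := by
    refine mul_inv_eq_iff_eq_mul.1 ?_
    rw [show q ^ 3 * e * (q ^ 3)⁻¹ = q * (q * (q * e * q⁻¹) * q⁻¹) * q⁻¹ by simp [pow_succ, mul_assoc], q1, q2, conj_mul', q1, q2,
      comm_of_sq hsq (mul_mem heB' heB) heB', ← mul_assoc, hee', one_mul]
  obtain ⟨n, hn'⟩ := hS q
  have hcop : IsCoprime (3 : ℤ) ((2 : ℤ) ^ n) := IsCoprime.pow_right ⟨1, -1, by norm_num⟩
  obtain ⟨α, β, hαβ⟩ := hcop
  have hqz : q = (q ^ 3) ^ α := by
    conv_lhs => rw [← zpow_one q, ← hαβ, zpow_add, mul_comm β, zpow_mul q ((2 : ℤ) ^ n) β,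
      show ((2 : ℤ) ^ n) = ((2 ^ n : ℕ) : ℤ) by push_cast; rfl, zpow_natCast, hn', one_zpow, mul_one, mul_comm α,
      zpow_mul, zpow_ofNat]
  have hqe : q * e = e * q := by
    rw [hqz]
    exact (Commute.zpow_left (q3 : Commute (q ^ 3) e) α).eq
  rw [hqe, mul_inv_cancel_right] at q1
  exact heb (q1 ▸ heb')

/-- A self-centralising elementary abelian subgroup of order eight. -/
theorem sectional_rank (hS : IsPGroup 2 S) (A : Subgroup S) (hA : IsMulCommutative A) (hA2 : ∀ x ∈ A, x ^ 2 = 1)
    (hA8 : Nat.card A = 8) (hC : centralizer (A : Set S) = A) : Cfsg.SectionalPRankLE 2 4 S := by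
  haveI : Fact (Nat.Prime 2) := ⟨Nat.prime_two⟩
  by_cases hG : MacWilliams.NoEight S
  · exact MacWilliams.sectional_rank_le_four hS hG
  unfold MacWilliams.NoEight at hG
  push Not at hG
  obtain ⟨A', hn', -, hA'2, hA'4⟩ := hG
  haveI := hn'
  obtain ⟨B, hBn, hBA', hB8⟩ := CfsgLib.PGroupRankTwo.exists_normal_card hS A' 3 (by
    obtain ⟨k, hk⟩ := IsPGroup.iff_card.1 (hS.to_subgroup A')
    rw [hk] at hA'4 ⊢
    exact Nat.pow_le_pow_right two_pos (by
      by_contra hc
      have := Nat.pow_le_pow_right (show 0 < 2 by norm_num) (show k ≤ 2 by omega)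
      omega))
  intro H N _ E hE hexp
  let π := QuotientGroup.mk' N
  let K : Subgroup S := (E.comap π).map H.subtype
  let e := (E.comap π).equivMapOfInjective H.subtype H.subtype_injective
  let f : K →* E := (π.subgroupComap E).comp e.symm.toMonoidHom
  have hf : Function.Surjective f :=
    (MonoidHom.subgroupComap_surjective_of_surjective π E (QuotientGroup.mk'_surjective N)).comp e.symm.surjective
  exact bound_of_normal hS hA (fun x hx => by rw [← pow_two]; exact hA2 x hx) hA8 hC hBn
    (fun x hx => by rw [← pow_two]; exact hA'2 x (hBA' hx)) (by rw [hB8]; norm_num) f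
    (fun v => Subtype.ext (by simpa [pow_two] using hexp v.1 v.2)) hf

end CfsgLib.SelfEight
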